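import Cfsg.Agent.H8.SzSolubCount
import Cfsg.Agent.H26.CharOrtho
import Cfsg.Agent.H25.CharInd
import Cfsg.Agent.H27.Dual

/-!
Preparations for the character table of the Suzuki groups: summation over the classes, number of irreducible
characters, and the functions induced from linear characters of the point stabiliser.
-/

set_option autoImplicit false

namespace Cfsg.Agent.H8.SzSub

open Cfsg.Agent.H7
open scoped ComplexConjugate

/-- Representatives of the orbits of a permutation all of whose orbits have `n` elements. -/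
theorem exists_orbit_reps {α : Type*} [Finite α] (σ : Equiv.Perm α) (n : ℕ) (hn : 0 < n) (hσ : σ ^ n = 1)
    (hfree : ∀ i, 0 < i → i < n → ∀ a, (σ ^ i) a ≠ a) :
    ∃ (N : ℕ) (r : Fin N → α), Function.Bijective fun p : Fin N × Fin n => (σ ^ (p.2 : ℕ)) (r p.1) := by
  classical
  have hmod : ∀ i, σ ^ i = σ ^ (i % n) := fun i => by
    conv_lhs => rw [← Nat.mod_add_div i n, pow_add, pow_mul, hσ, one_pow, mul_one]
  have hrefl : ∀ a, ∃ i : ℕ, (σ ^ i) a = a := fun a => ⟨0, rfl⟩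
  let s : Setoid α :=
    { r := fun a b => ∃ i : ℕ, (σ ^ i) a = b
      iseqv := ⟨hrefl, fun {a b} ⟨i, hi⟩ => ⟨n - i % n, by
        rw [← hi, hmod i, ← Equiv.Perm.mul_apply, ← pow_add, Nat.sub_add_cancel (Nat.mod_lt _ hn).le, hσ]
        rfl⟩, fun {a b c} ⟨i, hi⟩ ⟨j, hj⟩ => ⟨j + i, by rw [pow_add, Equiv.Perm.mul_apply, hi, hj]⟩⟩ }
  haveI : Fintype (Quotient s) := Fintype.ofFinite _
  let e := Fintype.equivFin (Quotient s)
  refine ⟨_, fun j => (e.symm j).out, ?_, fun a => ?_⟩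
  · rintro ⟨j, i⟩ ⟨j', i'⟩ h
    change (σ ^ (i : ℕ)) (e.symm j).out = (σ ^ (i' : ℕ)) (e.symm j').out at h
    have hjj : j = j' := by
      apply e.symm.injective
      rw [← Quotient.out_eq (e.symm j), ← Quotient.out_eq (e.symm j')]
      refine Quotient.sound ⟨n - (i' : ℕ) + i, ?_⟩
      rw [pow_add, Equiv.Perm.mul_apply, h, ← Equiv.Perm.mul_apply, ← pow_add,
        Nat.sub_add_cancel i'.2.le, hσ]
      rfl
    subst hjj
    rcases lt_trichotomy (i : ℕ) i' with hlt | heq | hlt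
    · exfalso
      refine hfree (i' - i) (by omega) (by omega) ((σ ^ (i : ℕ)) (e.symm j).out) ?_
      rw [← Equiv.Perm.mul_apply, ← pow_add, Nat.sub_add_cancel hlt.le]
      exact h.symm
    · exact Prod.ext rfl (Fin.ext heq)
    · exfalso
      refine hfree (i - i') (by omega) (by omega) ((σ ^ (i' : ℕ)) (e.symm j).out) ?_
      rw [← Equiv.Perm.mul_apply, ← pow_add, Nat.sub_add_cancel hlt.le]
      exact h
  · obtain ⟨i, hi⟩ : s.r (e.symm (e ⟦a⟧)).out a :=
      Quotient.exact ((Quotient.out_eq _).trans (e.symm_apply_apply _))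
    exact ⟨(e ⟦a⟧, ⟨i % n, Nat.mod_lt _ hn⟩), by
      show (σ ^ (i % n)) _ = a
      rw [← hmod]
      exact hi⟩

variable {F : Type*} [Field F] {m : ℕ} [Fintype (Sz F m)]

/-- Sum over all conjugates of the non-identity elements of a torus. -/
theorem sum_cls {H : SzHyp F m} {x₀ f : Sz F m} {e : ℕ} (D : TorusData H x₀ f e) [DecidableEq (Sz F m)]
    [Fintype (Subgroup.centralizer {x₀})] (φ : Sz F m → ℂ) (hφ : Cfsg.IsClassFunction (Sz F m) φ) :
    (e : ℂ) * Nat.card (Subgroup.centralizer {x₀}) * ∑ g ∈ (Set.toFinite (cls H ⊤ x₀)).toFinset, φ g =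
      (Nat.card (Sz F m) : ℂ) * ((∑ y : Subgroup.centralizer {x₀}, φ y.1) - φ 1) := by
  classical
  obtain ⟨-, -, heq, -⟩ := part_facts H D.hx
  set Y := (Finset.univ : Finset (Subgroup.centralizer ({x₀} : Set (Sz F m)))).filter fun y => y ≠ 1 with hY
  have hsum : (∑ y : (Subgroup.centralizer ({x₀} : Set (Sz F m))), φ y.1) - φ 1 = ∑ y ∈ Y, φ y.1 := by
    rw [hY, Finset.filter_ne', ← Finset.add_sum_erase _ _ (Finset.mem_univ (1 : (Subgroup.centralizer ({x₀} : Set (Sz F m))))), OneMemClass.coe_one,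
      add_sub_cancel_left]
  have hfib : ∀ z ∈ (Set.toFinite (cls H ⊤ x₀)).toFinset,
      ((Finset.univ ×ˢ Y).filter fun p : Sz F m × (Subgroup.centralizer ({x₀} : Set (Sz F m))) => p.1 * p.2.1 * p.1⁻¹ = z).card =
        e * Nat.card (Subgroup.centralizer ({x₀} : Set (Sz F m))) := by
    intro z hz
    rw [Set.Finite.mem_toFinset] at hz
    obtain ⟨g, -, y, ⟨hy, -, hy1⟩, rfl⟩ := hz
    rw [← D.hcard, Nat.card_eq_fintype_card, ← Finset.card_univ]
    have hnU : ∀ n : NC x₀, n.1⁻¹ * y * n.1 ∈ (Subgroup.centralizer ({x₀} : Set (Sz F m))) := fun n => by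
      have := (Subgroup.mem_normalizer_iff.1 (inv_mem n.2) y).1 hy
      simpa using this
    refine (Finset.card_bij' (fun n _ => (g * n.1, (⟨_, hnU n⟩ : (Subgroup.centralizer ({x₀} : Set (Sz F m))))))
      (fun p hp => (⟨g⁻¹ * p.1, ?_⟩ : NC x₀)) ?_ ?_ ?_ ?_).symm
    · simp only [Finset.mem_filter, Finset.mem_product, hY, Finset.mem_univ, true_and] at hp
      obtain ⟨hp1, hp⟩ := hp
      have e1 : (g⁻¹ * p.1) * p.2.1 * (g⁻¹ * p.1)⁻¹ = y := by
        calc _ = g⁻¹ * (p.1 * p.2.1 * p.1⁻¹) * g := by group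
          _ = y := by rw [hp]; group
      rw [NC, Subgroup.mem_normalizer_iff_map_conj_eq]
      show cj (g⁻¹ * p.1) (Subgroup.centralizer ({x₀} : Set (Sz F m))) = (Subgroup.centralizer ({x₀} : Set (Sz F m)))
      have hp2 := heq _ p.2.2 (fun h => hp1 (Subtype.ext h))
      calc cj (g⁻¹ * p.1) (Subgroup.centralizer ({x₀} : Set (Sz F m))) = cj (g⁻¹ * p.1) (Subgroup.centralizer {p.2.1}) := by rw [hp2]
        _ = Subgroup.centralizer {y} := by rw [cj, map_conj_centralizer, e1]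
        _ = (Subgroup.centralizer ({x₀} : Set (Sz F m))) := heq y hy hy1
    · intro n _
      simp only [Finset.mem_filter, Finset.mem_product, hY, Finset.mem_univ, true_and]
      refine ⟨fun h => hy1 ?_, by group⟩
      have h' : n.1⁻¹ * y * n.1 = 1 := congrArg Subtype.val h
      calc y = n.1 * (n.1⁻¹ * y * n.1) * n.1⁻¹ := by group
        _ = 1 := by rw [h']; group
    · exact fun p hp => Finset.mem_univ _
    · intro n _
      exact Subtype.ext (inv_mul_cancel_left _ _)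
    · intro p hp
      simp only [Finset.mem_filter, Finset.mem_product, hY, Finset.mem_univ, true_and] at hp
      refine Prod.ext (mul_inv_cancel_left _ _) (Subtype.ext ?_)
      calc (g⁻¹ * p.1)⁻¹ * y * (g⁻¹ * p.1) = p.1⁻¹ * (g * y * g⁻¹) * p.1 := by group
        _ = p.2.1 := by rw [← hp.2]; group
  have h1 : ∑ p ∈ (Finset.univ : Finset (Sz F m)) ×ˢ Y, φ p.2.1 = (Nat.card (Sz F m) : ℂ) * ∑ y ∈ Y, φ y.1 := by
    rw [Finset.sum_product]
    dsimp only
    rw [Finset.sum_const, Finset.card_univ, nsmul_eq_mul, ← Nat.card_eq_fintype_card (α := Sz F m)]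
  have hmaps : ∀ p ∈ (Finset.univ : Finset (Sz F m)) ×ˢ Y, p.1 * p.2.1 * p.1⁻¹ ∈ (Set.toFinite (cls H ⊤ x₀)).toFinset := by
    intro p hp
    simp only [Finset.mem_product, hY, Finset.mem_filter, Finset.mem_univ, true_and] at hp
    rw [Set.Finite.mem_toFinset]
    exact ⟨p.1, Subgroup.mem_top _, p.2.1, ⟨p.2.2, Subgroup.mem_top _, fun h => hp (Subtype.ext h)⟩, rfl⟩
  rw [hsum, ← h1, ← Finset.sum_fiberwise_of_maps_to hmaps, Finset.mul_sum]
  refine Finset.sum_congr rfl fun z hz => ?_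
  rw [Finset.sum_congr rfl (g := fun _ => φ z), Finset.sum_const, hfib z hz, nsmul_eq_mul]
  · push_cast
    rfl
  · intro p hp
    rw [Finset.mem_filter] at hp
    rw [← hp.2, hφ]

theorem sum_conj (a : Sz F m) [DecidablePred (IsConj a)] (φ : Sz F m → ℂ) (hφ : Cfsg.IsClassFunction (Sz F m) φ) :
    (Nat.card (Subgroup.centralizer {a}) : ℂ) * ∑ g ∈ Finset.univ.filter (IsConj a), φ g =
      (Nat.card (Sz F m) : ℂ) * φ a := by
  classical
  have h1 : ∀ g ∈ Finset.univ.filter (IsConj a), φ g = φ a := fun g hg => by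
    obtain ⟨c, rfl⟩ := isConj_iff.1 (Finset.mem_filter.1 hg).2
    exact hφ a c
  have h2 := H26.card_class_mul_card_centralizer a
  have h3 : (Finset.univ.filter fun g : Sz F m => ConjClasses.mk g = ConjClasses.mk a) = Finset.univ.filter (IsConj a) := by
    ext g
    simp only [Finset.mem_filter, Finset.mem_univ, true_and, ConjClasses.mk_eq_mk_iff_isConj]
    exact isConj_comm
  rw [h3] at h2
  rw [Finset.sum_congr rfl h1, Finset.sum_const, nsmul_eq_mul, ← h2]
  push_cast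
  ring

/-- The data fixing representatives for all classes. -/
structure Reps (H : SzHyp F m) (xT fT xP fP xM fM z x : Sz F m) : Prop where
  DT : TorusData H xT fT 2
  DP : TorusData H xP fP 4
  DM : TorusData H xM fM 4
  eT : Nat.card (Subgroup.centralizer {xT}) = 2 ^ (2 * m + 1) - 1
  eP : Nat.card (Subgroup.centralizer {xP}) = 2 ^ (2 * m + 1) + 2 ^ (m + 1) + 1
  eM : Nat.card (Subgroup.centralizer {xM}) = 2 ^ (2 * m + 1) - 2 ^ (m + 1) + 1
  CT : Subgroup.centralizer {xT} = H.T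
  hz : orderOf z = 2
  hx : orderOf x = 4
  zB : z ∈ H.Q
  xB : x ∈ H.Q

theorem exists_reps (H : SzHyp F m) : ∃ xT fT xP fP xM fM z x, Reps H xT fT xP fP xM fM z x := by
  obtain ⟨_, _, xP, fP, xM, fM, -, DP, DM, -, eP, eM⟩ := exists_data H
  obtain ⟨k, hk⟩ := H.exists_unit_ne_one
  have hd1 : H.ds k ≠ 1 := fun e => hk (H.ds_inj (e.trans H.ds_one.symm))
  obtain ⟨x₀, f, D, hD⟩ := data_split H
  have hx : H.ds k ∈ Xt H ⊤ := ⟨Subgroup.mem_top _, hd1, H.not_conj_Q_of_coprime (n := 2 ^ (2 * m + 1) - 1) hd1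
    (Nat.Even.sub_odd Nat.one_le_two_pow (by simp [Nat.even_pow]) odd_one)
    (by rw [← H.card_T]; exact Subgroup.orderOf_dvd_natCard _ ⟨k, rfl⟩)⟩
  have hC := H.centralizer_ds hk
  obtain ⟨g, hg⟩ := torus_conj D.hx hx (by rw [hD, hC, H.card_T])
  refine ⟨H.ds k, g * f * g⁻¹, xP, fP, xM, fM, H.us 0 1, H.us 1 0, ⟨?_, DP, DM, by rw [hC, H.card_T], eP, eM, hC,
    H.orderOf_us_zero one_ne_zero, H.orderOf_us one_ne_zero, H.us_mem_Q _ _, H.us_mem_Q _ _⟩⟩
  refine ⟨hx, by rw [NC_conj hg]; exact conj_mem_cj D.hf, ?_, Or.inl rfl,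
    by rw [NC_conj hg, card_cj, hg, card_cj, D.hcard]⟩
  rw [← D.hord]
  exact MulEquiv.orderOf_eq (MulAut.conj g) f

variable {H : SzHyp F m} {xT fT xP fP xM fM z x : Sz F m}

theorem Reps.cC (R : Reps H xT fT xP fP xM fM z x) :
    Nat.card (Subgroup.centralizer {z}) = (2 ^ (2 * m + 1)) ^ 2 ∧
    Nat.card (Subgroup.centralizer {x}) = 2 * 2 ^ (2 * m + 1) ∧
    Nat.card (Subgroup.centralizer {x⁻¹}) = 2 * 2 ^ (2 * m + 1) := by
  have hz1 : z ≠ 1 := fun e => by have := R.hz; rw [e, orderOf_one] at this; omega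
  have hC4 : ∀ y : Sz F m, y ∈ H.Q → orderOf y = 4 → Nat.card (Subgroup.centralizer {y}) = 2 * 2 ^ (2 * m + 1) := by
    rintro _ ⟨a, b, rfl⟩ ho
    refine card_centralizer_us H fun ea => ?_
    rw [ea] at ho
    rcases eq_or_ne b 0 with rfl | hb
    · rw [H.us_zero, orderOf_one] at ho; omega
    · rw [H.orderOf_us_zero hb] at ho; omega
  refine ⟨?_, hC4 x R.xB R.hx, hC4 _ (inv_mem R.xB) ((orderOf_inv x).trans R.hx)⟩
  obtain ⟨b, hb⟩ := mem_Q0_of_sq H R.zB (by rw [← sq, ← R.hz, pow_orderOf_eq_one])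
  rw [hb, H.centralizer_us_zero (fun e => hz1 (by rw [hb, e, H.us_zero])), H.card_Q]

theorem Reps.not_conj (R : Reps H xT fT xP fP xM fM z x) : ¬ IsConj x x⁻¹ := fun h => by
  obtain ⟨g, hg⟩ := isConj_iff.1 h
  exact not_conj_inv H R.hx hg

theorem Reps.class_cases (R : Reps H xT fT xP fP xM fM z x) (g : Sz F m) :
    g = 1 ∨ IsConj z g ∨ IsConj x g ∨ IsConj x⁻¹ g ∨ g ∈ cls H ⊤ xT ∨ g ∈ cls H ⊤ xP ∨ g ∈ cls H ⊤ xM := by
  rcases eq_or_ne g 1 with h1 | h1
  · exact Or.inl h1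
  right
  by_cases hQ : ∃ c, c * g * c⁻¹ ∈ H.Q
  · obtain ⟨c, a, b, hab⟩ := hQ
    have ho : orderOf g = orderOf (H.us a b) := by
      rw [← hab]; exact (MulEquiv.orderOf_eq (MulAut.conj c) g).symm
    rcases eq_or_ne a 0 with rfl | ha
    · have hb : b ≠ 0 := fun e => h1 (conj_eq_one_iff.1 (hab.trans (by rw [e, H.us_zero])))
      obtain ⟨d, hd⟩ := conj_involution H R.hz (ho.trans (H.orderOf_us_zero hb))
      exact Or.inl (isConj_iff.2 ⟨d, hd⟩)
    · rcases conj_four H R.hx (ho.trans (H.orderOf_us ha)) with ⟨d, hd⟩ | ⟨d, hd⟩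
      · exact Or.inr (Or.inl (isConj_iff.2 ⟨d, hd⟩))
      · exact Or.inr (Or.inr (Or.inl (isConj_iff.2 ⟨d, hd⟩)))
  · have hg : g ∈ Xt H ⊤ := ⟨Subgroup.mem_top _, h1, hQ⟩
    obtain ⟨x₀, f, e, D, hx₀, c, hc⟩ := torus_cases H R.DT R.DP R.DM R.eT R.eP R.eM hg
    have := cls_of_conj H (x := x₀) hg (Subgroup.mem_top c) hc
    rcases hx₀ with rfl | rfl | rfl
    exacts [Or.inr (Or.inr (Or.inr (Or.inl this))), Or.inr (Or.inr (Or.inr (Or.inr (Or.inl this)))),
      Or.inr (Or.inr (Or.inr (Or.inr (Or.inr this))))]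

theorem card_centralizer_cls {x₀ f : Sz F m} {e : ℕ} (D : TorusData H x₀ f e) {g : Sz F m} (hg : g ∈ cls H ⊤ x₀) :
    Nat.card (Subgroup.centralizer {g}) = Nat.card (Subgroup.centralizer {x₀}) := by
  obtain ⟨c, -, hc⟩ := cls_conj H D.hx hg
  rw [hc, card_cj]

theorem two_not_cls {x₀ f : Sz F m} {e : ℕ} (D : TorusData H x₀ f e) {a g : Sz F m} (ha : a ∈ H.Q)
    (hag : IsConj a g) : g ∉ cls H ⊤ x₀ := by
  intro hg
  obtain ⟨c, rfl⟩ := isConj_iff.1 hag
  exact (cls_subset H D.hx hg).2.2 ⟨c⁻¹, by convert ha using 1; group⟩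

/-- Summation of a class function over the group. -/
theorem Reps.integrate (R : Reps H xT fT xP fP xM fM z x) [Fintype (Subgroup.centralizer {xT})]
    [Fintype (Subgroup.centralizer {xP})] [Fintype (Subgroup.centralizer {xM})]
    (φ : Sz F m → ℂ) (hφ : Cfsg.IsClassFunction (Sz F m) φ) :
    ∑ g, φ g = φ 1 + (Nat.card (Sz F m) : ℂ) * (φ z / ((2 : ℂ) ^ (2 * m + 1)) ^ 2
      + (φ x + φ x⁻¹) / (2 * (2 : ℂ) ^ (2 * m + 1))
      + ((∑ y : Subgroup.centralizer {xT}, φ y.1) - φ 1) / (2 * (Nat.card (Subgroup.centralizer {xT}) : ℂ))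
      + ((∑ y : Subgroup.centralizer {xP}, φ y.1) - φ 1) / (4 * (Nat.card (Subgroup.centralizer {xP}) : ℂ))
      + ((∑ y : Subgroup.centralizer {xM}, φ y.1) - φ 1) / (4 * (Nat.card (Subgroup.centralizer {xM}) : ℂ))) := by
  classical
  haveI := H.finite_Sz
  obtain ⟨cz, cx, cxi⟩ := R.cC
  set A := (Finset.univ.filter (IsConj z)) with hA
  set B := (Finset.univ.filter (IsConj x)) with hB
  set C := (Finset.univ.filter (IsConj x⁻¹)) with hC
  set T := (Set.toFinite (cls H ⊤ xT)).toFinset with hT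
  set P := (Set.toFinite (cls H ⊤ xP)).toFinset with hP
  set M := (Set.toFinite (cls H ⊤ xM)).toFinset with hM
  have huniv : (Finset.univ : Finset (Sz F m)) = {1} ∪ A ∪ B ∪ C ∪ T ∪ P ∪ M := by
    ext g
    simp only [Finset.mem_univ, true_iff, hA, hB, hC, hT, hP, hM, Finset.mem_union, Finset.mem_singleton,
      Finset.mem_filter, true_and, Set.Finite.mem_toFinset]
    rcases R.class_cases g with h | h | h | h | h | h | h <;> tauto
  have one_ne : ∀ {a g : Sz F m}, orderOf a ≠ 1 → IsConj a g → g ≠ 1 := fun ha h e => by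
    rw [e, isConj_comm, isConj_one_right] at h
    exact ha (by rw [h, orderOf_one])
  have ordc : ∀ {a g : Sz F m}, IsConj a g → orderOf g = orderOf a := fun h => by
    obtain ⟨c, rfl⟩ := isConj_iff.1 h
    exact MulEquiv.orderOf_eq (MulAut.conj c) _
  have hcl : ∀ {x₀ f x₁ f₁ : Sz F m} {e e₁ : ℕ}, TorusData H x₀ f e → TorusData H x₁ f₁ e₁ →
      Nat.card (Subgroup.centralizer {x₀}) ≠ Nat.card (Subgroup.centralizer {x₁}) →
      ∀ g, g ∈ cls H ⊤ x₀ → g ∉ cls H ⊤ x₁ := fun D D₁ hne g h h' =>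
    hne ((card_centralizer_cls D h).symm.trans (card_centralizer_cls D₁ h'))
  obtain ⟨hlt, hlt2⟩ := H.th_add_two_lt
  rw [H.card] at hlt
  have d1 : Disjoint ({1} ∪ A ∪ B ∪ C ∪ T ∪ P) M ∧ Disjoint ({1} ∪ A ∪ B ∪ C ∪ T) P ∧
      Disjoint ({1} ∪ A ∪ B ∪ C) T ∧ Disjoint ({1} ∪ A ∪ B) C ∧ Disjoint ({1} ∪ A) B ∧
      Disjoint ({1} : Finset (Sz F m)) A := by
    simp only [Finset.disjoint_left, Finset.mem_union, Finset.mem_singleton, hA, hB, hC, hT, hP, hM,
      Finset.mem_filter, Finset.mem_univ, true_and, Set.Finite.mem_toFinset]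
    refine ⟨?_, ?_, ?_, ?_, ?_, ?_⟩
    · rintro g (((((rfl | h) | h) | h) | h) | h) h'
      exacts [(cls_subset H R.DM.hx h').2.1 rfl, two_not_cls R.DM R.zB h h', two_not_cls R.DM R.xB h h',
        two_not_cls R.DM (inv_mem R.xB) h h', hcl R.DT R.DM (by rw [R.eT, R.eM]; omega) g h h',
        hcl R.DP R.DM (by rw [R.eP, R.eM]; omega) g h h']
    · rintro g ((((rfl | h) | h) | h) | h) h'
      exacts [(cls_subset H R.DP.hx h').2.1 rfl, two_not_cls R.DP R.zB h h', two_not_cls R.DP R.xB h h',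
        two_not_cls R.DP (inv_mem R.xB) h h', hcl R.DT R.DP (by rw [R.eT, R.eP]; omega) g h h']
    · rintro g (((rfl | h) | h) | h) h'
      exacts [(cls_subset H R.DT.hx h').2.1 rfl, two_not_cls R.DT R.zB h h', two_not_cls R.DT R.xB h h',
        two_not_cls R.DT (inv_mem R.xB) h h']
    · rintro g ((rfl | h) | h) h'
      · exact one_ne (by rw [orderOf_inv, R.hx]; omega) h' rfl
      · have := ordc h; rw [ordc h', orderOf_inv, R.hx, R.hz] at this; omega
      · exact R.not_conj (h.trans h'.symm)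
    · rintro g (rfl | h) h'
      · exact one_ne (by rw [R.hx]; omega) h' rfl
      · have := ordc h; rw [ordc h', R.hx, R.hz] at this; omega
    · rintro g rfl h'
      exact one_ne (by rw [R.hz]; omega) h' rfl
  obtain ⟨dM, dP, dT, dC, dB, dA⟩ := d1
  rw [show ∑ g, φ g = ∑ g ∈ {1} ∪ A ∪ B ∪ C ∪ T ∪ P ∪ M, φ g from huniv ▸ rfl, Finset.sum_union dM, Finset.sum_union dP,
    Finset.sum_union dT, Finset.sum_union dC, Finset.sum_union dB, Finset.sum_union dA, Finset.sum_singleton]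
  have eA := sum_conj z φ hφ
  have eB := sum_conj x φ hφ
  have eC := sum_conj x⁻¹ φ hφ
  rw [cz] at eA
  rw [cx] at eB
  rw [cxi] at eC
  rw [← hA] at eA
  rw [← hB] at eB
  rw [← hC] at eC
  push_cast at eA eB eC
  have eT := sum_cls R.DT φ hφ
  have eP := sum_cls R.DP φ hφ
  have eM := sum_cls R.DM φ hφ
  rw [← hT] at eT
  rw [← hP] at eP
  rw [← hM] at eM
  push_cast at eT eP eM
  have h2 : (2 : ℂ) ^ (2 * m + 1) ≠ 0 := pow_ne_zero _ two_ne_zero
  have nT : (Nat.card (Subgroup.centralizer {xT}) : ℂ) ≠ 0 := Nat.cast_ne_zero.2 Nat.card_pos.ne'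
  have nP : (Nat.card (Subgroup.centralizer {xP}) : ℂ) ≠ 0 := Nat.cast_ne_zero.2 Nat.card_pos.ne'
  have nM : (Nat.card (Subgroup.centralizer {xM}) : ℂ) ≠ 0 := Nat.cast_ne_zero.2 Nat.card_pos.ne'
  field_simp
  linear_combination
    (8 * (Nat.card (Subgroup.centralizer {xT}) : ℂ) * Nat.card (Subgroup.centralizer {xP}) *
      Nat.card (Subgroup.centralizer {xM})) * eA +
    (4 * (2 : ℂ) ^ (2 * m + 1) * Nat.card (Subgroup.centralizer {xT}) * Nat.card (Subgroup.centralizer {xP}) *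
      Nat.card (Subgroup.centralizer {xM})) * (eB + eC) +
    (4 * ((2 : ℂ) ^ (2 * m + 1)) ^ 2 * Nat.card (Subgroup.centralizer {xP}) *
      Nat.card (Subgroup.centralizer {xM})) * eT +
    (2 * ((2 : ℂ) ^ (2 * m + 1)) ^ 2 * Nat.card (Subgroup.centralizer {xT}) *
      Nat.card (Subgroup.centralizer {xM})) * eP +
    (2 * ((2 : ℂ) ^ (2 * m + 1)) ^ 2 * Nat.card (Subgroup.centralizer {xT}) *
      Nat.card (Subgroup.centralizer {xP})) * eM

/-- The number of irreducible characters. -/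
theorem Reps.card_irr (R : Reps H xT fT xP fP xM fM z x) :
    Nat.card (Cfsg.IrrCharacter (Sz F m)) = 2 ^ (2 * m + 1) + 3 := by
  classical
  haveI := H.finite_Sz
  haveI := Fintype.ofFinite (Subgroup.centralizer {xT})
  haveI := Fintype.ofFinite (Subgroup.centralizer {xP})
  haveI := Fintype.ofFinite (Subgroup.centralizer {xM})
  set φ : Sz F m → ℂ := fun g => (Nat.card (Subgroup.centralizer {g}) : ℂ) with hφ
  have hcl : Cfsg.IsClassFunction (Sz F m) φ := fun g h => by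
    show (Nat.card _ : ℂ) = Nat.card _
    rw [← map_conj_centralizer, ← cj, card_cj]
  have hsum : ∑ g, φ g = (Nat.card (Cfsg.IrrCharacter (Sz F m)) : ℂ) * Nat.card (Sz F m) := by
    have h1 : ∀ g, φ g = ∑ χ : Cfsg.IrrCharacter (Sz F m), χ.1 g * conj (χ.1 g) := fun g => by
      rw [H26.column_orthogonality, H26.classIndicator, if_pos (IsConj.refl g), mul_one]
    rw [Finset.sum_congr rfl fun g _ => h1 g, Finset.sum_comm]
    have h2 : ∀ χ : Cfsg.IrrCharacter (Sz F m), ∑ g, χ.1 g * conj (χ.1 g) = (Nat.card (Sz F m) : ℂ) := fun χ => by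
      have h := H26.classInner_irr χ χ
      rw [if_pos rfl, Cfsg.classInner] at h
      exact (inv_mul_eq_one₀ (Nat.cast_ne_zero.2 Nat.card_pos.ne')).1 h ▸ rfl
    rw [Finset.sum_congr rfl fun χ _ => h2 χ, Finset.sum_const, Finset.card_univ, nsmul_eq_mul,
      ← Nat.card_eq_fintype_card]
  have hU : ∀ {x₀ f : Sz F m} {e : ℕ}, TorusData H x₀ f e → ∀ [Fintype (Subgroup.centralizer {x₀})],
      (∑ y : Subgroup.centralizer {x₀}, φ y.1) - φ 1 =
        (Nat.card (Subgroup.centralizer {x₀}) : ℂ) * (Nat.card (Subgroup.centralizer {x₀}) - 1) := by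
    intro x₀ f e D _
    rw [← Finset.add_sum_erase _ _ (Finset.mem_univ (1 : Subgroup.centralizer {x₀})), OneMemClass.coe_one,
      add_sub_cancel_left, Finset.sum_congr rfl (g := fun _ => (Nat.card (Subgroup.centralizer {x₀}) : ℂ)),
      Finset.sum_const, Finset.card_erase_of_mem (Finset.mem_univ _), Finset.card_univ, ← Nat.card_eq_fintype_card,
      nsmul_eq_mul, Nat.cast_sub Nat.card_pos, Nat.cast_one, mul_comm]
    intro y hy
    show (Nat.card _ : ℂ) = _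
    rw [(part_facts H D.hx).2.2.1 y.1 y.2 (fun e => (Finset.mem_erase.1 hy).1 (Subtype.ext e))]
  obtain ⟨cz, cx, cxi⟩ := R.cC
  have h1 : φ 1 = Nat.card (Sz F m) := by
    have : Subgroup.centralizer ({1} : Set (Sz F m)) = ⊤ :=
      eq_top_iff.2 fun g _ => Subgroup.mem_centralizer_singleton_iff.2 (by simp)
    show (Nat.card _ : ℂ) = _
    rw [this, Subgroup.card_top]
  have hmain := R.integrate φ hcl
  rw [hsum, hU R.DT, hU R.DP, hU R.DM, h1, show φ z = _ from congrArg (Nat.cast : ℕ → ℂ) cz,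
    show φ x = _ from congrArg (Nat.cast : ℕ → ℂ) cx, show φ x⁻¹ = _ from congrArg (Nat.cast : ℕ → ℂ) cxi,
    R.eT, R.eP, R.eM] at hmain
  obtain ⟨hlt, -⟩ := H.th_add_two_lt
  rw [H.card] at hlt
  have l1 : 1 ≤ 2 ^ (2 * m + 1) := Nat.one_le_two_pow
  have l2 : 2 ^ (m + 1) ≤ 2 ^ (2 * m + 1) := Nat.pow_le_pow_right two_pos (by omega)
  push_cast [Nat.cast_sub l1, Nat.cast_sub l2] at hmain
  have hq : (2 : ℂ) ^ (2 * m + 1) ≠ 0 := pow_ne_zero _ two_ne_zero
  have nT : (2 : ℂ) ^ (2 * m + 1) - 1 ≠ 0 := by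
    rw [sub_ne_zero]; exact_mod_cast (show 2 ^ (2 * m + 1) ≠ 1 by omega)
  have nP : (2 : ℂ) ^ (2 * m + 1) + 2 ^ (m + 1) + 1 ≠ 0 := by
    exact_mod_cast (show 2 ^ (2 * m + 1) + 2 ^ (m + 1) + 1 ≠ 0 by omega)
  have nM : (2 : ℂ) ^ (2 * m + 1) - 2 ^ (m + 1) + 1 ≠ 0 := by
    have h : ((2 ^ (2 * m + 1) - 2 ^ (m + 1) + 1 : ℕ) : ℂ) ≠ 0 := Nat.cast_ne_zero.2 (Nat.succ_ne_zero _)
    push_cast [Nat.cast_sub l2] at h
    exact h
  rw [mul_div_assoc, mul_div_assoc, mul_div_assoc] at hmain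
  have hG : (Nat.card (Sz F m) : ℂ) ≠ 0 := Nat.cast_ne_zero.2 Nat.card_pos.ne'
  have : (Nat.card (Cfsg.IrrCharacter (Sz F m)) : ℂ) = 2 ^ (2 * m + 1) + 3 := by
    refine mul_right_cancel₀ hG (hmain.trans ?_)
    field_simp
    ring
  exact_mod_cast this

/-- The torus component of an element fixing infinity. -/
noncomputable def kHom (H : SzHyp F m) : H.B →* Fˣ :=
  MonoidHom.mk' (fun b => (H.BEquiv.symm b).2.2) (fun b c => by
    have key : ∀ b : H.B, ∃ u ∈ H.Q, (b : Sz F m) = u * H.ds (H.BEquiv.symm b).2.2 := fun b =>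
      ⟨_, H.us_mem_Q (H.BEquiv.symm b).1 (H.BEquiv.symm b).2.1,
        (congrArg Subtype.val (H.BEquiv.apply_symm_apply b)).symm⟩
    obtain ⟨u, hu, e1⟩ := key b
    obtain ⟨v, hv, e2⟩ := key c
    obtain ⟨w, hw, e3⟩ := key (b * c)
    obtain ⟨v', hv', e4⟩ := Q_ds_mul H u hv (H.BEquiv.symm b).2.2 (H.BEquiv.symm c).2.2
    rw [Subgroup.coe_mul, e1, e2, e4] at e3
    exact (Q_ds_inj H (mul_mem hu hv') hw e3).2.symm)

omit [Fintype (Sz F m)] in
theorem kHom_eq (H : SzHyp F m) {u : Sz F m} (hu : u ∈ H.Q) (k : Fˣ) (b : H.B) (h : (b : Sz F m) = u * H.ds k) :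
    kHom H b = k := by
  obtain ⟨a, c, rfl⟩ := hu
  have : H.BEquiv (a, c, k) = b := Subtype.ext h.symm
  show (H.BEquiv.symm b).2.2 = k
  rw [← this, Equiv.symm_apply_apply]

/-- The function induced from a linear character of the point stabiliser. -/
noncomputable def indB (H : SzHyp F m) (lam : Fˣ →* ℂˣ) : Sz F m → ℂ :=
  Cfsg.indFun H.B fun b => ((lam (kHom H b) : ℂˣ) : ℂ)

theorem indB_one (H : SzHyp F m) (lam : Fˣ →* ℂˣ) : indB H lam 1 = (2 : ℂ) ^ (2 * m + 1) * 2 ^ (2 * m + 1) + 1 := by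
  rw [indB, H25.indFun_one, H.index_B, map_one, map_one, Units.val_one, mul_one]
  push_cast
  ring

theorem indB_two (H : SzHyp F m) (lam : Fˣ →* ℂˣ) {a : Sz F m} (ha : a ∈ H.Q) (h1 : a ≠ 1) :
    indB H lam a = 1 := by
  classical
  haveI := H.finite_Sz
  have h := H25.indFun_apply_eq_self H.B (fun b => ((lam (kHom H b) : ℂˣ) : ℂ))
    (fun g h => by simp [mul_comm, mul_assoc]) ⟨a, H.Q_le_B ha⟩ fun c hc => by
      refine H25.extendByZero_of_notMem _ _ fun hm => hc ?_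
      have hfix : a • (c • pinf F) = c • pinf F := by
        have := MulAction.mem_stabilizer_iff.1 hm
        rw [mul_smul, mul_smul, inv_smul_eq_iff] at this
        exact this
      exact MulAction.mem_stabilizer_iff.2 (H.eq_inf_of_fixed ha h1 (SzHyp.smul_mem c inf_mem) hfix)
  rw [indB, h]
  show ((lam (kHom H ⟨a, _⟩) : ℂˣ) : ℂ) = 1
  rw [kHom_eq H ha 1 _ (by rw [H.ds_one, mul_one]), map_one, Units.val_one]

theorem indB_zero (H : SzHyp F m) (lam : Fˣ →* ℂˣ) {g : Sz F m}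
    (hg : g ^ ((2 ^ (2 * m + 1)) ^ 2 + 1) = 1) (h1 : g ≠ 1) : indB H lam g = 0 := by
  refine H25.indFun_eq_zero _ _ fun c hc => ?_
  refine H.ell_not_fix hg h1 (SzHyp.smul_mem c inf_mem) ?_
  have := MulAction.mem_stabilizer_iff.1 hc
  rwa [mul_smul, mul_smul, inv_smul_eq_iff] at this

theorem indB_ds (H : SzHyp F m) (lam : Fˣ →* ℂˣ) {k : Fˣ} (hk : k ≠ 1) :
    indB H lam (H.ds k) = (lam k : ℂ) + ((lam k⁻¹ : ℂˣ) : ℂ) := by
  classical
  haveI := H.finite_Sz
  set θ : H.B → ℂ := fun b => ((lam (kHom H b) : ℂˣ) : ℂ) with hθ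
  have hin : ∀ b ∈ H.B, ∀ k : Fˣ, Cfsg.extendByZero H.B θ (b⁻¹ * H.ds k * b) = (lam k : ℂ) := by
    intro b hb k
    have hmem : b⁻¹ * H.ds k * b ∈ H.B := mul_mem (mul_mem (inv_mem hb) (H.ds_mem_B k)) hb
    rw [H25.extendByZero_of_mem _ _ hmem]
    show ((lam (kHom H ⟨_, hmem⟩) : ℂˣ) : ℂ) = _
    rw [show (⟨b⁻¹ * H.ds k * b, hmem⟩ : H.B) = (⟨b, hb⟩ : H.B)⁻¹ * ⟨H.ds k, H.ds_mem_B k⟩ * ⟨b, hb⟩ from rfl,
      map_mul (kHom H), map_mul (kHom H), map_inv (kHom H), mul_comm, mul_inv_cancel_left,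
      kHom_eq H (one_mem _) k _ (one_mul _).symm]
  have hval : ∀ c : Sz F m, Cfsg.extendByZero H.B θ (c⁻¹ * H.ds k * c) =
      (if c ∈ H.B then (lam k : ℂ) else 0) + (if H.ws * c ∈ H.B then ((lam k⁻¹ : ℂˣ) : ℂ) else 0) := by
    intro c
    by_cases h1 : c ∈ H.B
    · have h2 : H.ws * c ∉ H.B := fun h => H.ws_notMem_B (by
        have := mul_mem h (inv_mem h1)
        rwa [mul_inv_cancel_right] at this)
      rw [if_pos h1, if_neg h2, add_zero, hin c h1]
    by_cases h2 : H.ws * c ∈ H.B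
    · rw [if_neg h1, if_pos h2, zero_add, ← hin _ h2]
      congr 1
      rw [← H.ws_ds_ws k, mul_inv_rev, H.ws_inv]
      simp only [mul_assoc]
      rw [← mul_assoc H.ws H.ws, H.ws_mul_self, one_mul, ← mul_assoc H.ws H.ws, H.ws_mul_self, one_mul]
    · rw [if_neg h1, if_neg h2, add_zero, H25.extendByZero_of_notMem]
      intro hm
      have hfix : H.ds k • (c • pinf F) = c • pinf F := by
        have := MulAction.mem_stabilizer_iff.1 hm
        rwa [mul_smul, mul_smul, inv_smul_eq_iff] at this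
      rcases mem_ovoid.1 (SzHyp.smul_mem c (inf_mem (m := m))) with h | ⟨x, y, h⟩
      · exact h1 (MulAction.mem_stabilizer_iff.2 h)
      · rw [h, H.ds_pt, pt_inj] at hfix
        have hk' : (k : F) ≠ 1 := fun e => hk (Units.ext e)
        have hx : x = 0 := by_contra fun hx => hk' ((mul_eq_right₀ hx).1 hfix.1)
        have hy : y = 0 := by_contra fun hy => hk' (H.ker_norm ((mul_eq_right₀ hy).1 hfix.2))
        refine h2 (MulAction.mem_stabilizer_iff.2 ?_)
        rw [mul_smul, h, hx, hy, pt_zero, H.ws_zero]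
  rw [indB, H25.indFun_apply, Finset.sum_congr rfl fun c _ => hval c, Finset.sum_add_distrib,
    ← Finset.sum_filter, ← Finset.sum_filter, Finset.sum_const, Finset.sum_const]
  have c1 : (Finset.univ.filter fun c => c ∈ H.B).card = Nat.card H.B := by
    rw [Nat.card_eq_fintype_card, Fintype.card_subtype]
  have c2 : (Finset.univ.filter fun c => H.ws * c ∈ H.B).card = Nat.card H.B := by
    rw [← c1]
    exact Finset.card_equiv (Equiv.mulLeft H.ws) (fun c => by simp)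
  have hne : (Nat.card H.B : ℂ) ≠ 0 := Nat.cast_ne_zero.2 Nat.card_pos.ne'
  rw [c1, c2, nsmul_eq_mul, nsmul_eq_mul, ← mul_add, inv_mul_cancel_left₀ hne]

end Cfsg.Agent.H8.SzSub
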