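import Cfsg.Agent.H8.SzCharBase
import Cfsg.Agent.H27.Exceptional
import Cfsg.Agent.H57.VChar
import Cfsg.Agent.H68.CharTools

/-!
The exceptional characters attached to the two elliptic tori of a Suzuki group.
-/

set_option autoImplicit false

namespace Cfsg.Agent.H8.SzSub

open Cfsg.Agent.H7
open scoped ComplexConjugate

variable {F : Type*} [Field F] {m : ℕ}

/-- Conjugation of a torus by a power of an element of its normaliser. -/
def rot {x₀ f : Sz F m} (hf : f ∈ NC x₀) (k : ℕ) :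
    Subgroup.centralizer ({x₀} : Set (Sz F m)) →* Subgroup.centralizer ({x₀} : Set (Sz F m)) :=
  MonoidHom.mk' (fun y => ⟨(f ^ k)⁻¹ * y.1 * f ^ k, by
      have h := (Subgroup.mem_normalizer_iff.1 (inv_mem (pow_mem hf k)) y.1).1 y.2
      simpa using h⟩)
    fun a b => Subtype.ext (by simp only [Subgroup.coe_mul]; group)

theorem rot_val {x₀ f : Sz F m} (hf : f ∈ NC x₀) (k : ℕ) (y : Subgroup.centralizer ({x₀} : Set (Sz F m))) :
    (rot hf k y : Sz F m) = (f ^ k)⁻¹ * y.1 * f ^ k := rfl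

theorem rot_rot {x₀ f : Sz F m} (hf : f ∈ NC x₀) (a b : ℕ) (y : Subgroup.centralizer ({x₀} : Set (Sz F m))) :
    rot hf a (rot hf b y) = rot hf (b + a) y :=
  Subtype.ext (by simp only [rot_val, pow_add, mul_inv_rev, mul_assoc])

theorem rot_zero {x₀ f : Sz F m} (hf : f ∈ NC x₀) (y : Subgroup.centralizer ({x₀} : Set (Sz F m))) :
    rot hf 0 y = y :=
  Subtype.ext (by simp [rot_val])

/-- The orbit sum of a linear character of a torus. -/
noncomputable def orbSum {x₀ f : Sz F m} (hf : f ∈ NC x₀)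
    (θ : Subgroup.centralizer ({x₀} : Set (Sz F m)) →* ℂˣ) (y : Subgroup.centralizer ({x₀} : Set (Sz F m))) : ℂ :=
  ∑ k : Fin 4, ((θ (rot hf k y) : ℂˣ) : ℂ)

variable {H : SzHyp F m} {x₀ f : Sz F m}

theorem TorusData.comm {e : ℕ} (D : TorusData H x₀ f e) :
    IsMulCommutative (Subgroup.centralizer ({x₀} : Set (Sz F m))) :=
  ⟨⟨fun a b => Subtype.ext ((part_facts H D.hx).2.1 a.1 a.2 b.1 b.2)⟩⟩

/-- A torus as a commutative group. -/
@[reducible]
noncomputable def TorusData.commGroup {e : ℕ} (D : TorusData H x₀ f e) :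
    CommGroup (Subgroup.centralizer ({x₀} : Set (Sz F m))) :=
  { (inferInstance : Group (Subgroup.centralizer ({x₀} : Set (Sz F m)))) with
    mul_comm := fun a b => Subtype.ext ((part_facts H D.hx).2.1 a.1 a.2 b.1 b.2) }

theorem TorusData.pow_four (D : TorusData H x₀ f 4) : f ^ 4 = 1 := by
  have := pow_orderOf_eq_one f
  rwa [D.hord] at this

theorem TorusData.pow_notMem (D : TorusData H x₀ f 4) {i : ℕ} (h0 : 0 < i) (h4 : i < 4) :
    f ^ i ∉ Subgroup.centralizer ({x₀} : Set (Sz F m)) := by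
  refine two_notMem D (pow_ne_one_of_lt_orderOf h0.ne' (by rw [D.hord]; exact h4)) (n := 2) ?_
  exact (orderOf_pow_dvd i).trans (by rw [D.hord]; norm_num)

theorem TorusData.rot_free (D : TorusData H x₀ f 4) {i : ℕ} (h0 : 0 < i) (h4 : i < 4)
    {y : Subgroup.centralizer ({x₀} : Set (Sz F m))} (h : rot D.hf i y = y) : y = 1 := by
  by_contra hy
  refine D.pow_notMem h0 h4 ?_
  rw [← (part_facts H D.hx).2.2.1 y.1 y.2 (fun e => hy (Subtype.ext e)), Subgroup.mem_centralizer_singleton_iff]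
  have h' : (f ^ i)⁻¹ * y.1 * f ^ i = y.1 := congrArg Subtype.val h
  calc f ^ i * y.1 = f ^ i * ((f ^ i)⁻¹ * y.1 * f ^ i) := by rw [h']
    _ = y.1 * f ^ i := by group

theorem TorusData.rot_free_one (D : TorusData H x₀ f 4) {i : ℕ}
    {y : Subgroup.centralizer ({x₀} : Set (Sz F m))} (h : rot D.hf i y = 1) : y = 1 := by
  have h' : (f ^ i)⁻¹ * y.1 * f ^ i = 1 := congrArg Subtype.val h
  exact Subtype.ext (conj_eq_one_iff.1 (by rw [inv_inv]; exact h' : (f ^ i)⁻¹ * y.1 * (f ^ i)⁻¹⁻¹ = 1))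

theorem TorusData.rot_four (D : TorusData H x₀ f 4) (k : ℕ) (y : Subgroup.centralizer ({x₀} : Set (Sz F m))) :
    rot D.hf (k + 4) y = rot D.hf k y :=
  Subtype.ext (by simp [rot_val, pow_add, D.pow_four])

theorem TorusData.rot_two (D : TorusData H x₀ f 4) (y : Subgroup.centralizer ({x₀} : Set (Sz F m))) :
    rot D.hf 2 y = y⁻¹ := by
  obtain ⟨⟨-, hi1, hii⟩, hiN⟩ := D.invol
  rw [show 4 / 2 = 2 from rfl] at hi1 hii hiN
  have h := (inverts H D.hx hi1 hii hiN y.2).1
  refine Subtype.ext ?_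
  rw [rot_val, Subgroup.coe_inv, inv_eq_of_mul_eq_one_right hii]
  exact h

theorem TorusData.eq_one_of_inv (D : TorusData H x₀ f 4) {y : Subgroup.centralizer ({x₀} : Set (Sz F m))}
    (h : y * y = 1) : y = 1 := by
  refine D.rot_free two_pos (by norm_num) ?_
  rw [D.rot_two, inv_eq_of_mul_eq_one_right h]

theorem TorusData.orbSum_rot (D : TorusData H x₀ f 4) (θ : Subgroup.centralizer ({x₀} : Set (Sz F m)) →* ℂˣ)
    (k : ℕ) (y : Subgroup.centralizer ({x₀} : Set (Sz F m))) :
    orbSum D.hf θ (rot D.hf k y) = orbSum D.hf θ y := by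
  induction k generalizing y with
  | zero => rw [rot_zero]
  | succ k ih =>
    rw [add_comm k 1, ← rot_rot D.hf k 1, ih]
    simp only [orbSum, Fin.sum_univ_four, rot_rot, Fin.val_zero, Fin.val_one, Fin.val_two,
      show ((3 : Fin 4) : ℕ) = 3 from rfl]
    rw [show 1 + 3 = 0 + 4 from rfl, D.rot_four]
    ring

theorem TorusData.orbSum_real (D : TorusData H x₀ f 4) (θ : Subgroup.centralizer ({x₀} : Set (Sz F m)) →* ℂˣ)
    (y : Subgroup.centralizer ({x₀} : Set (Sz F m))) [Finite (Subgroup.centralizer ({x₀} : Set (Sz F m)))] :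
    conj (orbSum D.hf θ y) = orbSum D.hf θ y := by
  conv_rhs => rw [← D.orbSum_rot θ 2]
  rw [orbSum, orbSum, map_sum]
  refine Finset.sum_congr rfl fun k _ => ?_
  rw [H27.conj_linear, ← map_inv (rot D.hf k), D.rot_two]

theorem TorusData.orbSum_mul (D : TorusData H x₀ f 4) (θ : Subgroup.centralizer ({x₀} : Set (Sz F m)) →* ℂˣ)
    (y y' : Subgroup.centralizer ({x₀} : Set (Sz F m))) :
    orbSum D.hf θ y * orbSum D.hf θ y' = ∑ a : Fin 4, orbSum D.hf θ (rot D.hf a y * y') := by
  calc orbSum D.hf θ y * orbSum D.hf θ y'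
      = ∑ b : Fin 4, orbSum D.hf θ (rot D.hf b y) * ((θ (rot D.hf b y') : ℂˣ) : ℂ) := by
        conv_lhs => rw [orbSum.eq_1 D.hf θ y', Finset.mul_sum]
        exact Finset.sum_congr rfl fun b _ => by rw [D.orbSum_rot]
    _ = _ := by
        simp only [orbSum, Finset.sum_mul]
        rw [Finset.sum_comm]
        refine Finset.sum_congr rfl fun a _ => Finset.sum_congr rfl fun b _ => ?_
        rw [map_mul (rot D.hf b), map_mul θ, Units.val_mul, rot_rot, rot_rot, add_comm]

theorem matchings : ∀ π : Fin 4 → Fin 4, (∀ a, π (π a) = a) → (∀ a b, π a = a → π b = b → a = b) →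
    (π 0 = 1 ∧ π 2 = 3) ∨ π 0 = 2 ∨ (π 0 = 3 ∧ π 1 = 2) := by
  decide +kernel

open Classical in
/-- At most three ordered pairs of orbit elements have a given non-trivial product. -/
theorem TorusData.card_pairs_le (D : TorusData H x₀ f 4) {y g : Subgroup.centralizer ({x₀} : Set (Sz F m))}
    (hy : y ≠ 1) (hg : g ≠ 1) :
    ((Finset.univ : Finset (Fin 4 × Fin 4)).filter
      fun p => rot D.hf p.1 y * (rot D.hf p.2 y * g) = 1).card ≤ 3 := by
  set S := (Finset.univ : Finset (Fin 4 × Fin 4)).filter fun p => rot D.hf p.1 y * (rot D.hf p.2 y * g) = 1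
  letI := D.commGroup
  have hinj : ∀ a b : Fin 4, rot D.hf a y = rot D.hf b y → a = b := by
    intro a b h
    rcases lt_trichotomy (a : ℕ) b with hlt | heq | hlt
    · refine absurd (D.rot_free (i := b - a) (y := rot D.hf a y) (by omega) (by omega) ?_) ?_
      · rw [rot_rot, Nat.add_sub_cancel' hlt.le, h]
      · intro e; exact hy (D.rot_free_one e)
    · exact Fin.ext heq
    · refine absurd (D.rot_free (i := a - b) (y := rot D.hf b y) (by omega) (by omega) ?_) ?_
      · rw [rot_rot, Nat.add_sub_cancel' hlt.le, h]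
      · intro e; exact hy (D.rot_free_one e)
  have hfst : Set.InjOn Prod.fst (S : Set (Fin 4 × Fin 4)) := by
    intro p hp p' hp' e
    simp only [S, Finset.coe_filter, Finset.mem_univ, true_and, Set.mem_setOf_eq] at hp hp'
    refine Prod.ext e (hinj _ _ ?_)
    rw [← hp', e] at hp
    exact mul_right_cancel (mul_left_cancel hp)
  by_contra hlt
  have hcard : (S.image Prod.fst) = Finset.univ := by
    refine Finset.eq_univ_of_card _ (le_antisymm (Finset.card_le_univ _) ?_)
    rw [Finset.card_image_of_injOn hfst, Fintype.card_fin]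
    omega
  have hex : ∀ a : Fin 4, ∃ b : Fin 4, rot D.hf a y * rot D.hf b y = g⁻¹ := fun a => by
    have := Finset.mem_univ a
    rw [← hcard, Finset.mem_image] at this
    obtain ⟨p, hp, rfl⟩ := this
    refine ⟨p.2, eq_inv_of_mul_eq_one_left ?_⟩
    rw [mul_assoc]
    exact (Finset.mem_filter.1 hp).2
  choose π hπ using hex
  have hπ2 : ∀ a, π (π a) = a := fun a => hinj _ _ (mul_left_cancel ((hπ (π a)).trans ((hπ a).symm.trans (mul_comm _ _))))
  have hfix : ∀ a b, π a = a → π b = b → a = b := fun a b ha hb => by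
    have h1 := hπ a
    rw [ha] at h1
    have h2 := hπ b
    rw [hb, ← h1] at h2
    refine hinj a b (mul_inv_eq_one.1 (D.eq_one_of_inv ?_))
    calc rot D.hf a y * (rot D.hf b y)⁻¹ * (rot D.hf a y * (rot D.hf b y)⁻¹)
        = rot D.hf a y * rot D.hf a y * (rot D.hf b y * rot D.hf b y)⁻¹ := by
          rw [mul_mul_mul_comm, mul_inv]
      _ = 1 := by rw [h2, mul_inv_cancel]
  have h3 : ∀ z, rot D.hf (3 : Fin 4) z = (rot D.hf (1 : Fin 4) z)⁻¹ := fun z => by
    rw [← D.rot_two, rot_rot]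
    rfl
  have h0 : rot D.hf (0 : Fin 4) y = y := rot_zero D.hf y
  have h2 : rot D.hf (2 : Fin 4) y = y⁻¹ := D.rot_two y
  rcases matchings π hπ2 hfix with ⟨e1, e2⟩ | e | ⟨e1, e2⟩
  · have a1 := hπ 0
    have a2 := hπ 2
    rw [e1, h0] at a1
    rw [e2, h2, h3, ← a1, ← mul_inv] at a2
    have := D.eq_one_of_inv (mul_eq_one_iff_eq_inv.2 a2.symm)
    have h12 : rot D.hf (1 : Fin 4) y = rot D.hf (2 : Fin 4) y := by
      rw [h2]; exact eq_inv_of_mul_eq_one_right this
    exact absurd (hinj _ _ h12) (by decide)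
  · have a := hπ 0
    rw [e, h0, h2, mul_inv_cancel] at a
    exact hg (inv_eq_one.1 a.symm)
  · have a1 := hπ 0
    have a2 := hπ 1
    rw [e1, h0, h3] at a1
    rw [e2, h2, ← a1] at a2
    have : y * (rot D.hf (1 : Fin 4) y)⁻¹ = 1 := D.eq_one_of_inv (by
      nth_rewrite 2 [← a2]
      simp [mul_comm, mul_left_comm])
    exact absurd (hinj 0 1 (h0.trans (mul_inv_eq_one.1 this))) (by decide)

/-- The orbit sums of the linear characters of an elliptic torus. -/
structure Psi (x₀ : Sz F m) (n : ℕ) (ψ : Fin n → Sz F m → ℂ) : Prop where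
  card : Nat.card (Subgroup.centralizer ({x₀} : Set (Sz F m))) = 4 * n + 1
  pos : 0 < n
  sum : ∀ y ∈ Subgroup.centralizer ({x₀} : Set (Sz F m)), y ≠ 1 → ∑ j, ψ j y = -1
  sq : ∀ y ∈ Subgroup.centralizer ({x₀} : Set (Sz F m)), y ≠ 1 →
    ∑ j, ψ j y * ψ j y = (Nat.card (Subgroup.centralizer ({x₀} : Set (Sz F m))) : ℂ) - 4
  triple : ∀ y ∈ Subgroup.centralizer ({x₀} : Set (Sz F m)), y ≠ 1 →
    ∀ g ∈ Subgroup.centralizer ({x₀} : Set (Sz F m)), g ≠ 1 →
      (∑ j, ψ j y * ψ j y * ψ j g).re ≤ 3 * (Nat.card (Subgroup.centralizer ({x₀} : Set (Sz F m))) : ℝ) - 16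
  real : ∀ j, ∀ y ∈ Subgroup.centralizer ({x₀} : Set (Sz F m)), conj (ψ j y) = ψ j y
  inj : ∀ i j, (∀ y ∈ Subgroup.centralizer ({x₀} : Set (Sz F m)), y ≠ 1 → ψ i y = ψ j y) → i = j
  nonconst : 2 ≤ n → ∀ i c, ¬ ∀ y ∈ Subgroup.centralizer ({x₀} : Set (Sz F m)), y ≠ 1 → ψ i y = c

/-- The exceptional characters of an elliptic torus. -/
structure Fam (H : SzHyp F m) (x₀ : Sz F m) (n : ℕ) (ψ : Fin n → Sz F m → ℂ)
    (μ : Fin n → Cfsg.IrrCharacter (Sz F m)) (ε : ℤ) : Prop where
  psi : Psi x₀ n ψ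
  eps : ε = 1 ∨ ε = -1
  inj : Function.Injective μ
  mem : ∃ c : ℤ, ∀ j, ∀ y ∈ Subgroup.centralizer ({x₀} : Set (Sz F m)), y ≠ 1 →
    (μ j).1 y = (c : ℂ) + (ε : ℂ) * ψ j y
  oth : ∀ χ : Cfsg.IrrCharacter (Sz F m), χ ∉ Set.range μ → ∃ c : ℤ,
    ∀ y ∈ Subgroup.centralizer ({x₀} : Set (Sz F m)), y ≠ 1 → χ.1 y = (c : ℂ)
  off : ∀ g ∉ cls H ⊤ x₀, ∀ i j, (μ i).1 g = (μ j).1 g

/-- The family exists. -/
theorem exists_fam [Fintype (Sz F m)] (D : TorusData H x₀ f 4) : ∃ (n : ℕ) (ψ : Fin n → Sz F m → ℂ), Psi x₀ n ψ ∧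
    (2 ≤ n → ∃ μ ε, Fam H x₀ n ψ μ ε) ∧
    (n = 1 → ∀ Z ε, ε = 1 ∨ ε = -1 → Fam H x₀ n ψ (fun _ => Z) ε) := by
  classical
  haveI := H.finite_Sz
  set U := Subgroup.centralizer ({x₀} : Set (Sz F m)) with hUdef
  haveI : Fintype U := Fintype.ofFinite _
  haveI hcommU : IsMulCommutative U := D.comm
  have hodd : Odd (Nat.card U) := (part_facts H D.hx).1
  -- the permutation of non-trivial linear characters
  have hc31 : ∀ θ : U →* ℂˣ, (θ.comp (rot D.hf 1)).comp (rot D.hf 3) = θ := fun θ => MonoidHom.ext fun y => by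
    show θ (rot D.hf 1 (rot D.hf 3 y)) = θ y
    rw [rot_rot, show 3 + 1 = 0 + 4 from rfl, D.rot_four, rot_zero]
  have hc13 : ∀ θ : U →* ℂˣ, (θ.comp (rot D.hf 3)).comp (rot D.hf 1) = θ := fun θ => MonoidHom.ext fun y => by
    show θ (rot D.hf 3 (rot D.hf 1 y)) = θ y
    rw [rot_rot, show 1 + 3 = 0 + 4 from rfl, D.rot_four, rot_zero]
  let σ : Equiv.Perm {θ : U →* ℂˣ // θ ≠ 1} :=
    { toFun := fun θ => ⟨θ.1.comp (rot D.hf 1), fun h => θ.2 (by rw [← hc31 θ.1, h, MonoidHom.one_comp])⟩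
      invFun := fun θ => ⟨θ.1.comp (rot D.hf 3), fun h => θ.2 (by rw [← hc13 θ.1, h, MonoidHom.one_comp])⟩
      left_inv := fun θ => Subtype.ext (hc31 θ.1)
      right_inv := fun θ => Subtype.ext (hc13 θ.1) }
  have hσ : ∀ (k : ℕ) θ, ((σ ^ k) θ).1 = θ.1.comp (rot D.hf k) := by
    intro k
    induction k with
    | zero =>
      intro θ
      exact MonoidHom.ext fun y => (congrArg θ.1 (rot_zero D.hf y)).symm
    | succ k ih =>
      intro θ
      rw [pow_succ', Equiv.Perm.mul_apply]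
      show ((σ ^ k) θ).1.comp (rot D.hf 1) = _
      rw [ih]
      exact MonoidHom.ext fun y => by
        show θ.1 (rot D.hf k (rot D.hf 1 y)) = θ.1 (rot D.hf (k + 1) y)
        rw [rot_rot, add_comm]
  obtain ⟨n, θ, hθ⟩ := exists_orbit_reps σ 4 four_pos
    (Equiv.ext fun θ => Subtype.ext (by
      rw [hσ]
      exact MonoidHom.ext fun y => congrArg θ.1 ((D.rot_four 0 y).trans (rot_zero D.hf y))))
    (fun i h0 h4 θ h => θ.2 (by
      have hi : θ.1.comp (rot D.hf i) = θ.1 := by rw [← hσ, h]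
      letI := D.commGroup
      let φ : U →* U := rot D.hf i * (MonoidHom.id U)⁻¹
      have hφ : Function.Injective φ := (injective_iff_map_eq_one φ).2 fun y hy => D.rot_free h0 h4 (by
        change rot D.hf i y * y⁻¹ = 1 at hy
        exact mul_inv_eq_one.1 hy)
      refine MonoidHom.ext fun y => ?_
      obtain ⟨w, rfl⟩ := Finite.injective_iff_surjective.1 hφ y
      show θ.1 (rot D.hf i w * w⁻¹) = 1
      rw [map_mul, map_inv, show θ.1 (rot D.hf i w) = θ.1 w from DFunLike.congr_fun hi w, mul_inv_cancel]))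
  have hne : ∀ (j : Fin n) (k : ℕ), (θ j).1.comp (rot D.hf k) ≠ 1 := fun j k => hσ k (θ j) ▸ ((σ ^ k) (θ j)).2
  have horb : ∀ Φ : (U →* ℂˣ) → ℂ, ∑ μ : U →* ℂˣ, Φ μ = Φ 1 + ∑ j, ∑ k : Fin 4, Φ ((θ j).1.comp (rot D.hf k)) := by
    intro Φ
    rw [← Finset.add_sum_erase _ _ (Finset.mem_univ (1 : U →* ℂˣ)), ← Fintype.sum_prod_type']
    congr 1
    rw [Finset.sum_subtype (p := fun μ : U →* ℂˣ => μ ≠ 1) (Finset.univ.erase 1) (by simp) Φ,
      ← hθ.sum_comp (fun μ : {μ : U →* ℂˣ // μ ≠ 1} => Φ μ.1)]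
    exact Finset.sum_congr rfl fun p _ => by rw [hσ]
  set T : Fin n → U → ℂ := fun j => orbSum D.hf (θ j).1 with hT
  have hcard : Nat.card U = 4 * n + 1 := by
    have h := horb fun _ => 1
    simp only [Finset.sum_const, Finset.card_univ, Fintype.card_fin, nsmul_eq_mul, mul_one] at h
    rw [← Nat.card_eq_fintype_card, H27.card_linear] at h
    push_cast at h
    exact_mod_cast (show (Nat.card U : ℂ) = 4 * n + 1 by rw [h]; ring)
  have hT1 : ∀ j, T j 1 = 4 := fun j => by simp [hT, orbSum]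
  have hTsum : ∀ y : U, ∑ j, T j y = (if y = 1 then (Nat.card U : ℂ) else 0) - 1 := by
    intro y
    have h := horb fun μ => ((μ y : ℂˣ) : ℂ)
    rw [H27.sum_linear_apply] at h
    rw [MonoidHom.one_apply, Units.val_one] at h
    simp only [hT, orbSum]
    simp only [MonoidHom.comp_apply] at h
    rcases eq_or_ne y 1 with hy | hy
    · rw [if_pos hy] at h ⊢; linear_combination -h
    · rw [if_neg hy] at h ⊢; linear_combination -h
  have hne1 : ∀ y : Sz F m, y ∈ U → y ≠ 1 → ∀ hy : y ∈ U, (⟨y, hy⟩ : U) ≠ 1 := fun y _ h _ e =>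
    h (congrArg Subtype.val e)
  -- orthogonality with the orbit sums
  have horth : ∀ i j, ∑ y : U, ((((θ i).1 y : ℂˣ) : ℂ)) * conj (T j y) = if i = j then (Nat.card U : ℂ) else 0 := by
    intro i j
    simp only [hT, orbSum, map_sum, Finset.mul_sum]
    rw [Finset.sum_comm]
    have h : ∀ k : Fin 4, ∑ y : U, ((((θ i).1 y : ℂˣ) : ℂ)) * conj ((((θ j).1 (rot D.hf k y) : ℂˣ)) : ℂ) =
        if (i, (0 : Fin 4)) = (j, k) then (Nat.card U : ℂ) else 0 := by
      intro k
      rw [Finset.sum_congr rfl (g := fun y => (((((θ i).1 * ((θ j).1.comp (rot D.hf k))⁻¹) y : ℂˣ)) : ℂ))]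
      · by_cases e : (i, (0 : Fin 4)) = (j, k)
        · rw [if_pos e]
          obtain ⟨rfl, rfl⟩ := Prod.ext_iff.1 e
          have : (θ i).1.comp (rot D.hf ((0 : Fin 4) : ℕ)) = (θ i).1 := MonoidHom.ext fun y => by
            show (θ i).1 (rot D.hf 0 y) = _
            rw [rot_zero]
          rw [this]
          simp only [MonoidHom.mul_apply, MonoidHom.inv_apply, mul_inv_cancel, Units.val_one]
          simp [Nat.card_eq_fintype_card]
        · rw [if_neg e, H27.sum_apply_linear]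
          intro h1
          refine e (hθ.1 (Subtype.ext ?_))
          show ((σ ^ ((0 : Fin 4) : ℕ)) (θ i)).1 = ((σ ^ (k : ℕ)) (θ j)).1
          rw [hσ k, hσ]
          exact MonoidHom.ext fun y => (congrArg (θ i).1 (rot_zero D.hf y)).trans
            (mul_inv_eq_one.1 (DFunLike.congr_fun h1 y))
      · intro y _
        rw [MonoidHom.mul_apply, MonoidHom.inv_apply, Units.val_mul, ← map_inv, H27.conj_linear, MonoidHom.comp_apply,
          map_inv (rot D.hf k)]
    rw [Finset.sum_congr rfl fun k _ => h k]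
    by_cases e : i = j
    · subst e
      simp [Prod.ext_iff]
    · simp [Prod.ext_iff, e]
  set ψ : Fin n → Sz F m → ℂ := fun j => Cfsg.extendByZero U (T j) with hψ
  have hψv : ∀ j (y : U), ψ j y.1 = T j y := fun j y => H25.extendByZero_apply_coe U (T j) y
  have hpos : 0 < n := by
    have h1 : 1 < Nat.card U := by
      rw [Nat.card_eq_fintype_card, Fintype.one_lt_card_iff_nontrivial]
      exact ⟨⟨⟨x₀, mem_centralizer_self x₀⟩, 1, fun e => D.hx.2.1 (congrArg Subtype.val e)⟩⟩
    omega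
  have hP : Psi x₀ n ψ := by
    refine ⟨hcard, hpos, ?_, ?_, ?_, ?_, ?_, ?_⟩
    · intro y hy h1
      rw [Finset.sum_congr rfl fun j _ => hψv j ⟨y, hy⟩, hTsum, if_neg (hne1 y hy h1 hy), zero_sub]
    · intro y hy h1
      have hy1 := hne1 y hy h1 hy
      rw [Finset.sum_congr rfl fun j _ => show ψ j y * ψ j y = ∑ a : Fin 4, T j (rot D.hf a ⟨y, hy⟩ * ⟨y, hy⟩) by
        rw [hψv j ⟨y, hy⟩]; exact D.orbSum_mul _ _ _, Finset.sum_comm, Finset.sum_congr rfl fun a _ => hTsum _,
        Finset.sum_sub_distrib, Finset.sum_const, Finset.card_univ, Fintype.card_fin]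
      rw [Finset.sum_eq_single (2 : Fin 4)]
      · rw [show ((2 : Fin 4) : ℕ) = 2 from rfl, D.rot_two, inv_mul_cancel, if_pos rfl]
        simp
        rfl
      · intro a _ ha
        rw [if_neg fun e => ha ?_]
        have ea : rot D.hf a ⟨y, hy⟩ = rot D.hf (2 : Fin 4) ⟨y, hy⟩ := by
          show _ = rot D.hf 2 _
          rw [D.rot_two]; exact eq_inv_of_mul_eq_one_left e
        rcases lt_trichotomy (a : ℕ) 2 with hlt | heq | hlt
        · refine absurd (D.rot_free (i := 2 - a) (y := rot D.hf a ⟨y, hy⟩) (by omega) (by omega) ?_)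
            fun e => hy1 (D.rot_free_one e)
          rw [rot_rot, Nat.add_sub_cancel' hlt.le, ea]
          rfl
        · exact Fin.ext heq
        · refine absurd (D.rot_free (i := a - 2) (y := rot D.hf 2 ⟨y, hy⟩) (by omega) (by omega) ?_)
            fun e => hy1 (D.rot_free_one e)
          rw [rot_rot, Nat.add_sub_cancel' hlt.le, ea]
          rfl
      · exact fun h => absurd (Finset.mem_univ _) h
    · intro y hy h1 g hg g1
      have hy1 := hne1 y hy h1 hy
      have hg1 := hne1 g hg g1 hg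
      have e : ∀ j, ψ j y * ψ j y * ψ j g =
          ∑ p : Fin 4 × Fin 4, T j (rot D.hf p.1 ⟨y, hy⟩ * (rot D.hf p.2 ⟨y, hy⟩ * ⟨g, hg⟩)) := by
        intro j
        rw [hψv j ⟨y, hy⟩, hψv j ⟨g, hg⟩, mul_assoc]
        simp only [hT]
        rw [D.orbSum_mul, Finset.mul_sum, Fintype.sum_prod_type, Finset.sum_comm]
        exact Finset.sum_congr rfl fun b _ => D.orbSum_mul _ _ _
      rw [Finset.sum_congr rfl fun j _ => e j, Finset.sum_comm, Finset.sum_congr rfl fun p _ => hTsum _,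
        Finset.sum_sub_distrib, ← Finset.sum_filter, Finset.sum_const, Finset.sum_const, Finset.card_univ]
      have hle := D.card_pairs_le hy1 hg1
      simp only [nsmul_eq_mul, Complex.sub_re, Complex.mul_re, Complex.natCast_re, Complex.natCast_im,
        Complex.one_re, Complex.one_im, mul_zero, sub_zero, mul_one]
      have h16 : (Fintype.card (Fin 4 × Fin 4) : ℝ) = 16 := by simp
      rw [h16]
      refine sub_le_sub_right (mul_le_mul_of_nonneg_right ?_ (Nat.cast_nonneg _)) _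
      exact_mod_cast hle
    · intro j y hy
      rw [hψv j ⟨y, hy⟩]
      exact D.orbSum_real _ _
    · intro i j h
      have hTT : ∀ y : U, T i y = T j y := fun y => by
        rcases eq_or_ne y 1 with rfl | hy
        · rw [hT1, hT1]
        · rw [← hψv, ← hψv, h y.1 y.2 (fun e => hy (Subtype.ext e))]
      have h1 := horth i i
      rw [Finset.sum_congr rfl fun y _ => by rw [hTT y], horth i j, if_pos rfl] at h1
      by_contra hij
      rw [if_neg hij] at h1
      exact (Nat.cast_ne_zero.2 Nat.card_pos.ne' : (Nat.card U : ℂ) ≠ 0) h1.symm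
    · intro hn i c h
      have hTc : ∀ y : U, conj (T i y) = if y = 1 then (4 : ℂ) else conj c := fun y => by
        rcases eq_or_ne y 1 with rfl | hy
        · rw [if_pos rfl, hT1, Complex.conj_ofNat]
        · rw [if_neg hy, ← hψv, h y.1 y.2 (fun e => hy (Subtype.ext e))]
      have key : ∀ μ : U →* ℂˣ, μ ≠ 1 → ∑ y : U, ((μ y : ℂˣ) : ℂ) * conj (T i y) = 4 - conj c := by
        intro μ hμ
        have h0 := H27.sum_apply_linear hμ
        rw [← Finset.add_sum_erase _ _ (Finset.mem_univ (1 : U))] at h0 ⊢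
        rw [Finset.sum_congr rfl (g := fun y => conj c * ((μ y : ℂˣ) : ℂ)), ← Finset.mul_sum, hTc, if_pos rfl]
        · rw [map_one, Units.val_one] at h0 ⊢
          linear_combination conj c * h0
        · intro y hy
          rw [hTc, if_neg (Finset.mem_erase.1 hy).1, mul_comm]
      obtain ⟨j, hj⟩ : ∃ j : Fin n, j ≠ i := Fintype.exists_ne_of_one_lt_card (by simp; omega) i
      have hk := (key (θ j).1 (θ j).2).symm.trans (horth j i)
      rw [if_neg hj] at hk
      have hself := (key (θ i).1 (θ i).2).symm.trans (horth i i)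
      rw [if_pos rfl, hk] at hself
      exact (Nat.cast_ne_zero.2 Nat.card_pos.ne' : (Nat.card U : ℂ) ≠ 0) hself.symm
  -- values of the induced functions
  have hindval : ∀ (μ : U →* ℂˣ) (y : U), y ≠ 1 →
      Cfsg.indFun U (fun h => ((μ h : ℂˣ) : ℂ)) y.1 = orbSum D.hf μ y := by
    intro μ y hy
    obtain ⟨-, -, heq, -⟩ := part_facts H D.hx
    let e : Fin 4 × U → Sz F m := fun p => f ^ (p.1 : ℕ) * p.2.1
    have hei : Function.Injective e := by
      rintro ⟨a, w⟩ ⟨b, w'⟩ h
      change f ^ (a : ℕ) * w.1 = f ^ (b : ℕ) * w'.1 at h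
      rcases lt_trichotomy (a : ℕ) b with hlt | hab | hlt
      · refine absurd ?_ (D.pow_notMem (i := b - a) (by omega) (by omega))
        have : f ^ ((b : ℕ) - a) = w.1 * w'.1⁻¹ := by
          rw [← Nat.add_sub_cancel' hlt.le, pow_add, mul_assoc, mul_right_inj] at h
          rw [h]; group
        rw [this]; exact mul_mem w.2 (inv_mem w'.2)
      · obtain rfl : a = b := Fin.ext hab
        exact Prod.ext rfl (Subtype.ext (mul_left_cancel h))
      · refine absurd ?_ (D.pow_notMem (i := a - b) (by omega) (by omega))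
        have : f ^ ((a : ℕ) - b) = w'.1 * w.1⁻¹ := by
          rw [← Nat.add_sub_cancel' hlt.le, pow_add, mul_assoc, mul_right_inj] at h
          rw [← h]; group
        rw [this]; exact mul_mem w'.2 (inv_mem w.2)
    have hrange : ∀ c : Sz F m, c ∈ NC x₀ → c ∈ Set.range e := by
      intro c hc
      have hsub : Set.range e ⊆ (NC x₀ : Set (Sz F m)) := by
        rintro _ ⟨p, rfl⟩
        exact mul_mem (pow_mem D.hf _) (Subgroup.le_normalizer p.2.2)
      have hcd : (Set.range e).ncard = (NC x₀ : Set (Sz F m)).ncard := by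
        rw [Set.ncard_range_of_injective hei, Nat.card_prod, Nat.card_fin, ← Nat.card_coe_set_eq]
        exact D.hcard.symm
      rw [Set.eq_of_subset_of_ncard_le hsub hcd.ge (Set.toFinite _)]
      exact hc
    have hsum : ∑ c : Sz F m, Cfsg.extendByZero U (fun h => ((μ h : ℂˣ) : ℂ)) (c⁻¹ * y.1 * c) =
        ∑ p : Fin 4 × U, ((μ (rot D.hf p.1 y) : ℂˣ) : ℂ) := by
      refine (Fintype.sum_of_injective e hei _ _ (fun c hc => ?_) fun p => ?_).symm
      · refine H25.extendByZero_of_notMem _ _ fun hm => hc (hrange c ?_)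
        have h1 : c⁻¹ * y.1 * c ≠ 1 := fun h => hy (Subtype.ext (by
          calc y.1 = c * (c⁻¹ * y.1 * c) * c⁻¹ := by group
            _ = 1 := by rw [h]; group))
        have hy' := heq y.1 y.2 (fun e => hy (Subtype.ext e))
        have hc' := heq _ hm h1
        rw [← inv_inv c]
        refine inv_mem ?_
        rw [NC, Subgroup.mem_normalizer_iff_map_conj_eq]
        show cj c⁻¹ U = U
        calc cj c⁻¹ U = cj c⁻¹ (Subgroup.centralizer {y.1}) := by rw [hy']
          _ = Subgroup.centralizer {c⁻¹ * y.1 * c} := by rw [cj, map_conj_centralizer, inv_inv]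
          _ = U := hc'
      · have he : (e p)⁻¹ * y.1 * e p = (rot D.hf p.1 y).1 := by
          have hc := (part_facts H D.hx).2.1 _ (rot D.hf p.1 y).2 _ p.2.2
          rw [rot_val] at hc ⊢
          calc (e p)⁻¹ * y.1 * e p = p.2.1⁻¹ * (((f ^ (p.1 : ℕ))⁻¹ * y.1 * f ^ (p.1 : ℕ)) * p.2.1) := by
                simp only [e]; group
            _ = _ := by rw [hc, inv_mul_cancel_left]
        rw [he, H25.extendByZero_apply_coe]
    rw [H25.indFun_apply, hsum, Fintype.sum_prod_type, orbSum, Finset.mul_sum]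
    refine Finset.sum_congr rfl fun k _ => ?_
    dsimp only
    rw [Finset.sum_const, Finset.card_univ, nsmul_eq_mul, ← Nat.card_eq_fintype_card,
      inv_mul_cancel_left₀ (Nat.cast_ne_zero.2 Nat.card_pos.ne')]
  -- the coefficients of a character on the torus
  have hexp : ∀ χ : Cfsg.IrrCharacter (Sz F m), ∃ (a₁ : ℕ) (a : Fin n → ℕ),
      (∀ j, Cfsg.classInner (Cfsg.indFun U fun h => (((θ j).1 h : ℂˣ) : ℂ)) χ.1 = a j) ∧
      ∀ y : U, χ.1 y.1 = a₁ + ∑ j, (a j : ℂ) * T j y := by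
    intro χ
    have hχc : Cfsg.IsCharacter (Sz F m) χ.1 := H26.isCharacter_of_irr χ.2
    have hχcl := H26.isClassFunction_of_isCharacter hχc
    have hres : Cfsg.IsCharacter U (χ.1 ∘ U.subtype) := H26.isCharacter_comp hχc U.subtype
    have hlin : ∀ μ : U →* ℂˣ, Cfsg.IsCharacter U fun h => ((μ h : ℂˣ) : ℂ) := fun μ =>
      H26.isCharacter_of_irr (H26.isIrrCharacter_hom μ)
    have hnat : ∀ μ : U →* ℂˣ, ∃ k : ℕ, (Nat.card U : ℂ)⁻¹ * ∑ y : U, χ.1 y.1 * ((μ y⁻¹ : ℂˣ) : ℂ) = k := by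
      intro μ
      obtain ⟨k, hk⟩ := H68.exists_nat_classInner_char hres (hlin μ)
      refine ⟨k, ?_⟩
      rw [← hk, Cfsg.classInner]
      congr 1
      exact Finset.sum_congr rfl fun y _ => by rw [H27.conj_linear]; rfl
    choose A hA using hnat
    refine ⟨A 1, fun j => A (θ j).1, fun j => ?_, fun y => ?_⟩
    · rw [H25.classInner_indFun_left U _ _ hχcl, H26.classInner_comm]
      rw [show Cfsg.classInner (fun h : U => χ.1 h) (fun h => (((θ j).1 h : ℂˣ) : ℂ)) = (A (θ j).1 : ℂ) from ?_]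
      · exact Complex.conj_natCast _
      · rw [← hA, Cfsg.classInner]
        congr 1
        exact Finset.sum_congr rfl fun y _ => by rw [H27.conj_linear]
    · have hinv : ∀ (j : Fin n) (k : ℕ), A ((θ j).1.comp (rot D.hf k)) = A (θ j).1 := by
        intro j k
        have : (A ((θ j).1.comp (rot D.hf k)) : ℂ) = A (θ j).1 := by
          rw [← hA, ← hA]
          congr 1
          have hbij : Function.Bijective (rot D.hf k : U → U) := Finite.injective_iff_bijective.1
            ((injective_iff_map_eq_one (rot D.hf k)).2 fun y hy => D.rot_free_one hy)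
          rw [← hbij.sum_comp fun y => χ.1 y.1 * ((((θ j).1 y⁻¹ : ℂˣ)) : ℂ)]
          refine Finset.sum_congr rfl fun y _ => ?_
          rw [MonoidHom.comp_apply, map_inv (rot D.hf k), rot_val]
          congr 1
          have := hχcl y.1 (f ^ k)⁻¹
          rw [inv_inv] at this
          exact this.symm
        exact_mod_cast this
      rw [H27.fourier_inversion (fun y : U => χ.1 y.1) y, horb, hA, MonoidHom.one_apply, Units.val_one, mul_one]
      congr 1
      refine Finset.sum_congr rfl fun j _ => ?_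
      show _ = (A (θ j).1 : ℂ) * orbSum D.hf (θ j).1 y
      rw [orbSum, Finset.mul_sum]
      refine Finset.sum_congr rfl fun k _ => ?_
      rw [hA, hinv]
      rfl
  have hsumT : ∀ y : U, y ≠ 1 → ∑ j, T j y = -1 := fun y hy => by rw [hTsum, if_neg hy, zero_sub]
  refine ⟨n, ψ, hP, fun hn => ?_, ?_⟩
  · set i₀ : Fin n := ⟨0, hpos⟩
    let τ : Fin n → Sz F m → ℂ := fun i => Cfsg.indFun U (fun h => (((θ i).1 h : ℂˣ) : ℂ)) -
      Cfsg.indFun U (fun h => (((θ i₀).1 h : ℂˣ) : ℂ))
    have hone : ∀ i, τ i 1 = 0 := fun i => by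
      simp [τ, H25.indFun_one]
    have hτU : ∀ i (y : U), τ i y.1 = T i y - T i₀ y := by
      intro i y
      rcases eq_or_ne y 1 with rfl | hy
      · rw [OneMemClass.coe_one, hone, hT1, hT1, sub_self]
      · show Cfsg.indFun U _ y.1 - Cfsg.indFun U _ y.1 = _
        rw [hindval _ y hy, hindval _ y hy]
    obtain ⟨ε, hε, μ, hμirr, hμinj, hμ⟩ := H27.exists_exceptional i₀ τ (sub_self _)
      (fun i => H57.gen_sub (H57.gen_of_char (H68.isCharacter_indFun_hom U _))
        (H57.gen_of_char (H68.isCharacter_indFun_hom U _))) hone (by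
      intro i j hi hj
      have hcl : Cfsg.IsClassFunction (Sz F m) (τ j) := fun g h => by
        simp only [τ, Pi.sub_apply]
        rw [H25.isClassFunction_indFun U _ g h, H25.isClassFunction_indFun U _ g h]
      have hin : ∀ k l, Cfsg.classInner (Cfsg.indFun U fun h => (((θ k).1 h : ℂˣ) : ℂ)) (τ l) =
          (if k = l then 1 else 0) - if k = i₀ then 1 else 0 := by
        intro k l
        have hcl' : Cfsg.IsClassFunction (Sz F m) (τ l) := fun g h => by
          simp only [τ, Pi.sub_apply]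
          rw [H25.isClassFunction_indFun U _ g h, H25.isClassFunction_indFun U _ g h]
        rw [H25.classInner_indFun_left U _ _ hcl', Cfsg.classInner]
        simp only [hτU, map_sub, mul_sub, Finset.sum_sub_distrib, horth]
        have hne : (Nat.card U : ℂ) ≠ 0 := Nat.cast_ne_zero.2 Nat.card_pos.ne'
        split_ifs <;> field_simp <;> ring
      rw [show τ i = Cfsg.indFun U (fun h => (((θ i).1 h : ℂˣ) : ℂ)) -
        Cfsg.indFun U (fun h => (((θ i₀).1 h : ℂˣ) : ℂ)) from rfl, H26.classInner_sub_left, hin, hin,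
        if_neg hi, if_neg (Ne.symm hj), if_pos rfl]
      split_ifs <;> ring)
    obtain ⟨εz, hεz, rfl⟩ : ∃ z : ℤ, (z = 1 ∨ z = -1) ∧ (z : ℂ) = ε := by
      rcases hε with rfl | rfl
      exacts [⟨1, Or.inl rfl, Int.cast_one⟩, ⟨-1, Or.inr rfl, by simp⟩]
    let M : Fin n → Cfsg.IrrCharacter (Sz F m) := fun i => ⟨μ i, hμirr i⟩
    have hMinj : Function.Injective M := fun i j h => hμinj (congrArg Subtype.val h)
    -- a character is constant up to the exceptional part
    have hform : ∀ χ : Cfsg.IrrCharacter (Sz F m), ∃ c : ℤ, ∀ y : U, y ≠ 1 →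
        χ.1 y.1 = c + (εz : ℂ) * ∑ j, (if M j = χ then (1 : ℂ) else 0) * T j y := by
      intro χ
      obtain ⟨a₁, a, ha, hv⟩ := hexp χ
      set b : Fin n → ℤ := fun j => if M j = χ then 1 else 0 with hb
      refine ⟨a₁ - ((a i₀ : ℤ) - εz * b i₀), fun y hy => ?_⟩
      have hab : ∀ j, (a j : ℂ) = (((a i₀ : ℤ) - εz * b i₀ : ℤ) : ℂ) + (εz : ℂ) * b j := by
        intro j
        have h1 : Cfsg.classInner (τ j) χ.1 = (a j : ℂ) - a i₀ := by
          show Cfsg.classInner (Cfsg.indFun U _ - Cfsg.indFun U _) _ = _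
          rw [H26.classInner_sub_left, ha, ha]
        rw [hμ, H26.classInner_smul_left, H26.classInner_sub_left, show μ j = (M j).1 from rfl,
          show μ i₀ = (M i₀).1 from rfl, H26.classInner_irr, H26.classInner_irr] at h1
        simp only [hb]
        push_cast
        linear_combination -h1
      rw [hv, Finset.sum_congr rfl fun j _ => by rw [hab j, add_mul, mul_assoc], Finset.sum_add_distrib,
        ← Finset.mul_sum, ← Finset.mul_sum, hsumT y hy]
      simp only [hb]
      push_cast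
      ring
    have hMj : ∀ j, ∃ c : ℤ, ∀ y : U, y ≠ 1 → (M j).1 y.1 = c + (εz : ℂ) * T j y := by
      intro j
      obtain ⟨c, hc⟩ := hform (M j)
      refine ⟨c, fun y hy => ?_⟩
      rw [hc y hy, Finset.sum_eq_single j]
      · rw [if_pos rfl, one_mul]
      · intro k _ hk; rw [if_neg fun e => hk (hMinj e), zero_mul]
      · exact fun h => absurd (Finset.mem_univ _) h
    refine ⟨M, εz, hP, hεz, hMinj, ?_, ?_, ?_⟩
    · obtain ⟨c, hc⟩ := hMj i₀
      refine ⟨c, fun j y hy hy1 => ?_⟩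
      have hy' := hne1 y hy hy1 hy
      have h := hτU j ⟨y, hy⟩
      rw [hμ] at h
      have h0 := hc ⟨y, hy⟩ hy'
      rw [hψv j ⟨y, hy⟩]
      change (εz : ℂ) * (μ j y - μ i₀ y) = _ at h
      show μ j y = _
      change μ i₀ y = _ at h0
      have hsq : (εz : ℂ) * εz = 1 := by rcases hεz with rfl | rfl <;> norm_num
      linear_combination (εz : ℂ) * h + h0 - (μ j y - μ i₀ y) * hsq
    · intro χ hχ
      obtain ⟨c, hc⟩ := hform χ
      refine ⟨c, fun y hy hy1 => ?_⟩
      rw [show χ.1 y = _ from hc ⟨y, hy⟩ (hne1 y hy hy1 hy), Finset.sum_eq_zero fun j _ => by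
        rw [if_neg fun e => hχ ⟨j, e⟩, zero_mul], mul_zero, add_zero]
    · intro g hg i j
      have hzero : ∀ k, τ k g = 0 := fun k => by
        rcases eq_or_ne g 1 with rfl | hg1
        · exact hone k
        have hoff : ∀ c : Sz F m, c⁻¹ * g * c ∉ U := fun c hc => hg ⟨c, Subgroup.mem_top c, c⁻¹ * g * c,
          ⟨hc, Subgroup.mem_top _, fun e => hg1 (by
            calc g = c * (c⁻¹ * g * c) * c⁻¹ := by group
              _ = 1 := by rw [e]; group)⟩, by group⟩
        simp only [τ, Pi.sub_apply, H25.indFun_eq_zero U _ hoff, sub_self]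
      have key : ∀ k, μ k g = μ i₀ g := fun k => by
        have := hzero k
        rw [hμ, Pi.smul_apply, Pi.sub_apply, smul_eq_mul, mul_eq_zero] at this
        exact sub_eq_zero.1 (this.resolve_left (by rcases hεz with rfl | rfl <;> norm_num))
      exact (key i).trans (key j).symm
  · intro hn1 Z ε hε
    subst hn1
    have hval : ∀ χ : Cfsg.IrrCharacter (Sz F m), ∃ c : ℤ, ∀ y ∈ U, y ≠ 1 → χ.1 y = c := by
      intro χ
      obtain ⟨a₁, a, -, hv⟩ := hexp χ
      refine ⟨(a₁ : ℤ) - a 0, fun y hy hy1 => ?_⟩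
      rw [show χ.1 y = _ from hv ⟨y, hy⟩]
      have := hsumT ⟨y, hy⟩ (hne1 y hy hy1 hy)
      rw [Fin.sum_univ_one] at this ⊢
      rw [this]; push_cast; ring
    refine ⟨hP, hε, fun i j _ => Subsingleton.elim i j, ?_, fun χ _ => hval χ, fun g _ i j => rfl⟩
    obtain ⟨c, hc⟩ := hval Z
    refine ⟨c + ε, fun j y hy hy1 => ?_⟩
    have := hP.sum y hy hy1
    rw [Fin.sum_univ_one] at this
    rw [hc y hy hy1, Subsingleton.elim j 0, this]
    push_cast; ring

end Cfsg.Agent.H8.SzSub
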