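import Cfsg.Agent.H8.SzCharSetup
import Cfsg.Agent.H43.CharTools

/-!
The values of the irreducible characters of a Suzuki group on its elliptic tori, and their degrees.
-/

set_option autoImplicit false

namespace Cfsg.Agent.H8.SzSub

open Cfsg.Agent.H7
open scoped ComplexConjugate

variable {F : Type*} [Field F] {m : ℕ} {H : SzHyp F m} {xT fT xP fP xM fM z x : Sz F m}

theorem arith_five {n n' c b w ε : ℤ} (hn : 5 ≤ n) (hn' : 5 ≤ n') (hε : ε = 1 ∨ ε = -1)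
    (h : n * c ^ 2 - 2 * ε * c + n' * b ^ 2 + 2 * w ^ 2 = 2) : c = 0 ∧ b = 0 ∧ (w = 1 ∨ w = -1) := by
  have h1 : 0 ≤ (n - 5) * c ^ 2 := mul_nonneg (by omega) (sq_nonneg c)
  have h2 : 0 ≤ (n' - 5) * b ^ 2 := mul_nonneg (by omega) (sq_nonneg b)
  have h3 : 5 * c ^ 2 - 2 * ε * c + 5 * b ^ 2 + 2 * w ^ 2 ≤ 2 := by nlinarith
  have hb : b = 0 := by
    by_contra hb
    have : 1 ≤ b ^ 2 := by rcases lt_or_gt_of_ne hb with e | e <;> nlinarith
    rcases hε with rfl | rfl <;> nlinarith [sq_nonneg (c - 1), sq_nonneg (c + 1), sq_nonneg w]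
  have hc : c = 0 := by
    by_contra hc
    rcases lt_or_gt_of_ne hc with e | e <;> rcases hε with rfl | rfl <;> nlinarith [sq_nonneg b, sq_nonneg w]
  subst hb hc
  have hw : w ^ 2 = 1 := by linarith
  exact ⟨rfl, rfl, sq_eq_one_iff.1 hw⟩

theorem arith_eight {c b w a Z w' ε d dP dM : ℤ} (hε : ε = 1 ∨ ε = -1) (hd : 0 < d) (hdP : 0 < dP) (hdM : 0 < dM)
    (E1 : 3 * c ^ 2 - 2 * ε * c + b ^ 2 + 2 * w ^ 2 = 2) (E2 : 3 * a ^ 2 + Z ^ 2 + 2 * w' ^ 2 = 3)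
    (E3 : 2 + 2 * w * w' + a * (3 * c - ε) + b * Z = 0) (E4 : -63 + 2 * d * w + dP * (3 * c - ε) + dM * b = 0)
    (E5 : -63 + 2 * d * w' + 3 * dP * a + dM * Z = 0) (E6 : 3 * dP ^ 2 + dM ^ 2 + 2 * d ^ 2 = 12348) :
    c = 0 ∧ b = 0 ∧ (w = 1 ∨ w = -1) ∧ a = 0 ∧ (Z = 1 ∨ Z = -1) ∧ w' = -w := by
  have hc : -1 ≤ c ∧ c ≤ 1 := by
    rcases hε with rfl | rfl <;> constructor <;> by_contra hh <;> nlinarith [sq_nonneg b, sq_nonneg w]
  have hb : -1 ≤ b ∧ b ≤ 1 := by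
    rcases hε with rfl | rfl <;> constructor <;> by_contra hh <;>
      nlinarith [sq_nonneg w, sq_nonneg (3 * c - 1), sq_nonneg (3 * c + 1)]
  have hw : -1 ≤ w ∧ w ≤ 1 := by
    rcases hε with rfl | rfl <;> constructor <;> by_contra hh <;>
      nlinarith [sq_nonneg b, sq_nonneg (3 * c - 1), sq_nonneg (3 * c + 1)]
  have ha : -1 ≤ a ∧ a ≤ 1 := by constructor <;> by_contra hh <;> nlinarith [sq_nonneg Z, sq_nonneg w']
  have hZ : -1 ≤ Z ∧ Z ≤ 1 := by constructor <;> by_contra hh <;> nlinarith [sq_nonneg a, sq_nonneg w']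
  have hw' : -1 ≤ w' ∧ w' ≤ 1 := by constructor <;> by_contra hh <;> nlinarith [sq_nonneg a, sq_nonneg Z]
  obtain ⟨c1, c2⟩ := hc
  obtain ⟨b1, b2⟩ := hb
  obtain ⟨w1, w2⟩ := hw
  obtain ⟨a1, a2⟩ := ha
  obtain ⟨z1, z2⟩ := hZ
  obtain ⟨v1, v2⟩ := hw'
  have key1 : (c = 0 ∧ b = 0 ∧ (w = 1 ∨ w = -1)) ∨ (c = ε ∧ (b = 1 ∨ b = -1) ∧ w = 0) := by
    rcases hε with rfl | rfl <;> interval_cases c <;> interval_cases b <;> interval_cases w <;> simp_all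
  have key2 : ((a = 1 ∨ a = -1) ∧ Z = 0 ∧ w' = 0) ∨ (a = 0 ∧ (Z = 1 ∨ Z = -1) ∧ (w' = 1 ∨ w' = -1)) := by
    interval_cases a <;> interval_cases Z <;> interval_cases w' <;> simp_all
  rcases key1 with ⟨rfl, rfl, hw⟩ | ⟨rfl, hb, rfl⟩
  · rcases key2 with ⟨ha, rfl, rfl⟩ | ⟨rfl, hZ, hw''⟩
    · rcases ha with rfl | rfl <;> rcases hε with rfl | rfl <;> omega
    · refine ⟨rfl, rfl, hw, rfl, hZ, ?_⟩
      rcases hw with rfl | rfl <;> rcases hw'' with rfl | rfl <;> omega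
  · exfalso
    rcases key2 with ⟨ha, rfl, rfl⟩ | ⟨rfl, hZ, hw''⟩
    · rcases ha with rfl | rfl <;> rcases hε with rfl | rfl <;> try omega
      all_goals
        obtain rfl : dP = 21 := by omega
        rcases hb with rfl | rfl <;> try omega
        all_goals
          obtain rfl : dM = 105 := by omega
          nlinarith
    · rcases hb with rfl | rfl <;> rcases hZ with rfl | rfl <;> omega

/-- The values of a family-related character list on one torus, up to three integers. -/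
theorem torus_values {N n n' : ℕ} {lam : Fin N → (Fˣ →* ℂˣ)} {X : Fin N → Cfsg.IrrCharacter (Sz F m)}
    {St W W' : Cfsg.IrrCharacter (Sz F m)} {x₀ x₁ : Sz F m} {ψ : Fin n → Sz F m → ℂ}
    {μ : Fin n → Cfsg.IrrCharacter (Sz F m)} {ε : ℤ} {ψ' : Fin n' → Sz F m → ℂ}
    {μ' : Fin n' → Cfsg.IrrCharacter (Sz F m)} {ε' : ℤ} (hSt : IsSt H St) (hX : IsSeries H lam X)
    (hW : ∀ g, W'.1 g = conj (W.1 g)) (Φ : Fam H x₀ n ψ μ ε) (Φ' : Fam H x₁ n' ψ' μ' ε')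
    (hell : ∀ y ∈ Subgroup.centralizer ({x₀} : Set (Sz F m)), y ^ ((2 ^ (2 * m + 1)) ^ 2 + 1) = 1)
    (hout : ∀ y ∈ Subgroup.centralizer ({x₀} : Set (Sz F m)), y ≠ 1 → y ∉ cls H ⊤ x₁)
    (hnot : ∀ χ, χ = W ∨ χ = W' ∨ χ ∈ Set.range μ' → χ ∉ Set.range μ) :
    ∃ c b w : ℤ, ∀ y ∈ Subgroup.centralizer ({x₀} : Set (Sz F m)), y ≠ 1 → St.1 y = -1 ∧ (∀ j, (X j).1 y = 0) ∧
      (∀ j, (μ j).1 y = (c : ℂ) + (ε : ℂ) * ψ j y) ∧ (∀ j, (μ' j).1 y = (b : ℂ)) ∧ W.1 y = (w : ℂ) ∧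
      W'.1 y = (w : ℂ) := by
  obtain ⟨c, hc⟩ := Φ.mem
  obtain ⟨w, hw⟩ := Φ.oth W (hnot W (Or.inl rfl))
  obtain ⟨b, hb⟩ := Φ.oth (μ' ⟨0, Φ'.psi.pos⟩) (hnot _ (Or.inr (Or.inr ⟨_, rfl⟩)))
  refine ⟨c, b, w, fun y hy h1 => ⟨hSt.ell y (hell y hy) h1, fun j => hX.ell j y (hell y hy) h1, fun j => hc j y hy h1,
    fun j => (Φ'.off y (hout y hy h1) j ⟨0, Φ'.psi.pos⟩).trans (hb y hy h1), hw y hy h1, ?_⟩⟩
  rw [hW, hw y hy h1, map_intCast]

variable {N nP nM : ℕ} {St W W' : Cfsg.IrrCharacter (Sz F m)} {lam : Fin N → (Fˣ →* ℂˣ)}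
  {X : Fin N → Cfsg.IrrCharacter (Sz F m)} {ψP : Fin nP → Sz F m → ℂ} {P : Fin nP → Cfsg.IrrCharacter (Sz F m)}
  {εP : ℤ} {ψM : Fin nM → Sz F m → ℂ} {M : Fin nM → Cfsg.IrrCharacter (Sz F m)} {εM : ℤ}

/-- The values on the elliptic tori. -/
structure Good (H : SzHyp F m) (xP xM x : Sz F m) {N nP nM : ℕ} (St : Cfsg.IrrCharacter (Sz F m))
    (lam : Fin N → (Fˣ →* ℂˣ)) (X : Fin N → Cfsg.IrrCharacter (Sz F m)) (W W' : Cfsg.IrrCharacter (Sz F m))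
    (ψP : Fin nP → Sz F m → ℂ) (P : Fin nP → Cfsg.IrrCharacter (Sz F m)) (εP : ℤ)
    (ψM : Fin nM → Sz F m → ℂ) (M : Fin nM → Cfsg.IrrCharacter (Sz F m)) (εM : ℤ) (w : ℤ) : Prop where
  setup : Setup H xP xM x St lam X W W' ψP P εP ψM M εM
  hw : w = 1 ∨ w = -1
  valP : ∀ y ∈ Subgroup.centralizer ({xP} : Set (Sz F m)), y ≠ 1 → St.1 y = -1 ∧ (∀ j, (X j).1 y = 0) ∧
    (∀ j, (P j).1 y = (εP : ℂ) * ψP j y) ∧ (∀ j, (M j).1 y = 0) ∧ W.1 y = (w : ℂ) ∧ W'.1 y = (w : ℂ)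
  valM : ∀ y ∈ Subgroup.centralizer ({xM} : Set (Sz F m)), y ≠ 1 → St.1 y = -1 ∧ (∀ j, (X j).1 y = 0) ∧
    (∀ j, (M j).1 y = (εM : ℂ) * ψM j y) ∧ (∀ j, (P j).1 y = 0) ∧ W.1 y = -(w : ℂ) ∧ W'.1 y = -(w : ℂ)

theorem sum_lin {n : ℕ} {x₀ : Sz F m} {ψ : Fin n → Sz F m → ℂ} (h : Psi x₀ n ψ) {y : Sz F m}
    (hy : y ∈ Subgroup.centralizer ({x₀} : Set (Sz F m))) (h1 : y ≠ 1) (c ε : ℂ) :
    ∑ j, (c + ε * ψ j y) = (n : ℂ) * c - ε := by
  rw [Finset.sum_add_distrib, ← Finset.mul_sum, h.sum y hy h1, Finset.sum_const, Finset.card_univ, Fintype.card_fin,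
    nsmul_eq_mul]
  ring

theorem sum_quad {n : ℕ} {x₀ : Sz F m} {ψ : Fin n → Sz F m → ℂ} (h : Psi x₀ n ψ) {y : Sz F m}
    (hy : y ∈ Subgroup.centralizer ({x₀} : Set (Sz F m))) (h1 : y ≠ 1) (c ε : ℂ) (hε : ε * ε = 1) :
    ∑ j, (c + ε * ψ j y) * (c + ε * ψ j y) = (n : ℂ) * c ^ 2 - 2 * ε * c + (4 * n + 1 : ℕ) - 4 := by
  rw [show ∀ a : ℂ, (n : ℂ) * c ^ 2 - 2 * ε * c + a - 4 = (n : ℂ) * c ^ 2 + 2 * ε * c * (-1) + (a - 4) from fun a => by ring,
    ← h.sum y hy h1, ← h.card, ← h.sq y hy h1, Finset.mul_sum]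
  rw [← show ∑ _j : Fin n, c ^ 2 = (n : ℂ) * c ^ 2 by simp, ← Finset.sum_add_distrib, ← Finset.sum_add_distrib]
  refine Finset.sum_congr rfl fun j _ => ?_
  linear_combination ψ j y ^ 2 * hε

theorem Reps.not_conj_tori [Fintype (Sz F m)] (R : Reps H xT fT xP fP xM fM z x) {y y' : Sz F m}
    (hy : y ∈ Subgroup.centralizer ({xP} : Set (Sz F m))) (h1 : y ≠ 1)
    (hy' : y' ∈ Subgroup.centralizer ({xM} : Set (Sz F m))) (h1' : y' ≠ 1) : ¬ IsConj y y' := fun h => by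
  obtain ⟨c, rfl⟩ := isConj_iff.1 h
  exact (torus_disjoint R).1 (⟨c, Subgroup.mem_top c, y, ⟨hy, Subgroup.mem_top _, h1⟩, rfl⟩)
    (mem_cls_self R.DM hy' h1')

theorem col_zero [Fintype (Sz F m)] {g h : Sz F m} (hgh : ¬ IsConj g h) :
    ∑ χ : Cfsg.IrrCharacter (Sz F m), χ.1 g * conj (χ.1 h) = 0 := by
  classical
  haveI := Finite.of_fintype (Sz F m)
  rw [H26.column_orthogonality, H26.classIndicator, if_neg hgh, mul_zero]

theorem col_self [Fintype (Sz F m)] (g : Sz F m) :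
    ∑ χ : Cfsg.IrrCharacter (Sz F m), χ.1 g * conj (χ.1 g) =
      (Nat.card (Subgroup.centralizer ({g} : Set (Sz F m))) : ℂ) := by
  classical
  haveI := Finite.of_fintype (Sz F m)
  rw [H26.column_orthogonality, H26.classIndicator, if_pos (IsConj.refl g), mul_one]

theorem Reps.exists_good [Fintype (Sz F m)] (R : Reps H xT fT xP fP xM fM z x) :
    ∃ (N nP nM : ℕ) (St W W' : Cfsg.IrrCharacter (Sz F m)) (lam : Fin N → (Fˣ →* ℂˣ))
      (X : Fin N → Cfsg.IrrCharacter (Sz F m)) (ψP : Fin nP → Sz F m → ℂ) (P : Fin nP → Cfsg.IrrCharacter (Sz F m))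
      (εP : ℤ) (ψM : Fin nM → Sz F m → ℂ) (M : Fin nM → Cfsg.IrrCharacter (Sz F m)) (εM w : ℤ),
      Good H xP xM x St lam X W W' ψP P εP ψM M εM w := by
  classical
  haveI := H.finite_Sz
  obtain ⟨N, nP, nM, St, W, W', lam, X, ψP, P, εP, ψM, M, hn, hbig, hsmall⟩ := R.exists_setup
  obtain ⟨εM, S⟩ : ∃ εM, Setup H xP xM x St lam X W W' ψP P εP ψM M εM := by
    rcases le_or_gt 2 nM with h | h
    · exact hbig h
    · exact ⟨1, hsmall (by omega) 1 (Or.inl rfl)⟩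
  have hdisj := fun (y : Sz F m) => (torus_disjoint R (y := y)).1
  obtain ⟨c, b, w, hv⟩ := torus_values S.st S.series S.conjW S.famP S.famM (fun y => R.ell_P)
    (fun y hy h1 => hdisj y (mem_cls_self R.DP hy h1)) S.notP
  obtain ⟨c', a, w', hv'⟩ := torus_values S.st S.series S.conjW S.famM S.famP (fun y => R.ell_M)
    (fun y hy h1 h => hdisj y h (mem_cls_self R.DM hy h1)) S.notM
  -- chosen elements
  have hy := mem_centralizer_self xP
  have hy1 : xP ≠ 1 := R.DP.hx.2.1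
  have hy' := mem_centralizer_self xM
  have hy1' : xM ≠ 1 := R.DM.hx.2.1
  obtain ⟨s1, s2, s3, s4, s5, s6⟩ := hv xP hy hy1
  obtain ⟨t1, t2, t3, t4, t5, t6⟩ := hv' xM hy' hy1'
  have hψ := fun j => S.famP.psi.real j xP hy
  have hψ' := fun j => S.famM.psi.real j xM hy'
  have hcP := S.famP.psi.card
  have hcM := S.famM.psi.card
  have hεP : (εP : ℂ) * εP = 1 := by rcases S.famP.eps with e | e <;> rw [e] <;> norm_num
  have hεM : (εM : ℂ) * εM = 1 := by rcases S.famM.eps with e | e <;> rw [e] <;> norm_num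
  have one : ∀ g, (H26.oneIrr (Sz F m)).1 g = 1 := fun g => rfl
  have e1 := (col_self xP).symm.trans (S.decomp fun χ => χ.1 xP * conj (χ.1 xP))
  simp only [one, s1, s2, s3, s4, s5, s6, map_add, map_mul, map_intCast, map_one, map_neg, map_zero, hψ,
    mul_zero, Finset.sum_const_zero, sum_quad S.famP.psi hy hy1 _ _ hεP] at e1
  rw [hcP, Finset.sum_const, Finset.card_univ, Fintype.card_fin, nsmul_eq_mul] at e1
  have E1 : (nP : ℤ) * c ^ 2 - 2 * εP * c + nM * b ^ 2 + 2 * w ^ 2 = 2 := by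
    apply Int.cast_injective (α := ℂ)
    push_cast at e1 ⊢
    linear_combination -e1
  have e2 := (col_self xM).symm.trans (S.decomp fun χ => χ.1 xM * conj (χ.1 xM))
  simp only [one, t1, t2, t3, t4, t5, t6, map_add, map_mul, map_intCast, map_one, map_neg, map_zero, hψ',
    mul_zero, Finset.sum_const_zero, sum_quad S.famM.psi hy' hy1' _ _ hεM] at e2
  rw [hcM, Finset.sum_const, Finset.card_univ, Fintype.card_fin, nsmul_eq_mul] at e2
  have E2 : (nM : ℤ) * c' ^ 2 - 2 * εM * c' + nP * a ^ 2 + 2 * w' ^ 2 = 2 := by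
    apply Int.cast_injective (α := ℂ)
    push_cast at e2 ⊢
    linear_combination -e2
  have e3 := (col_zero (R.not_conj_tori hy hy1 hy' hy1')).symm.trans (S.decomp fun χ => χ.1 xP * conj (χ.1 xM))
  simp only [one, s1, s2, s3, s4, s5, s6, t1, t2, t3, t4, t5, t6, map_add, map_mul, map_intCast, map_one, map_neg,
    map_zero, hψ', mul_zero, Finset.sum_const_zero, ← Finset.sum_mul, ← Finset.mul_sum, sum_lin S.famP.psi hy hy1,
    sum_lin S.famM.psi hy' hy1'] at e3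
  have E3 : 2 + 2 * w * w' + a * ((nP : ℤ) * c - εP) + b * (nM * c' - εM) = 0 := by
    apply Int.cast_injective (α := ℂ)
    push_cast
    linear_combination -e3
  by_cases hbigm : 5 ≤ nP ∧ 5 ≤ nM
  · obtain ⟨rfl, rfl, hw⟩ := arith_five (by omega) (by omega) S.famP.eps E1
    obtain ⟨rfl, rfl, hw'⟩ := arith_five (by omega) (by omega) S.famM.eps E2
    have hww : w' = -w := by rcases hw with rfl | rfl <;> rcases hw' with rfl | rfl <;> omega
    subst hww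
    refine ⟨N, nP, nM, St, W, W', lam, X, ψP, P, εP, ψM, M, εM, w, ⟨S, hw, fun y hy h1 => ?_, fun y hy h1 => ?_⟩⟩
    · obtain ⟨a1, a2, a3, a4, a5, a6⟩ := hv y hy h1
      exact ⟨a1, a2, fun j => by rw [a3]; simp, fun j => by rw [a4]; simp, a5, a6⟩
    · obtain ⟨a1, a2, a3, a4, a5, a6⟩ := hv' y hy h1
      exact ⟨a1, a2, fun j => by rw [a3]; simp, fun j => by rw [a4]; simp, by rw [a5]; simp, by rw [a6]; simp⟩
  -- the field with eight elements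
  obtain ⟨hlt, hlt4⟩ := H.th_add_two_lt
  rw [H.card] at hlt
  rw [R.eP] at hcP
  rw [R.eM] at hcM
  have hm : m = 1 := by
    have hm1 := H.hm
    by_contra hne
    refine hbigm ?_
    have h8 : 8 ≤ 2 ^ (m + 1) :=
      calc 8 = 2 ^ 3 := by norm_num
        _ ≤ _ := Nat.pow_le_pow_right two_pos (by omega)
    have hge : 4 * 2 ^ (m + 1) ≤ 2 ^ (2 * m + 1) :=
      calc 4 * 2 ^ (m + 1) = 2 ^ (m + 3) := by ring
        _ ≤ _ := Nat.pow_le_pow_right two_pos (by omega)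
    omega
  subst hm
  norm_num at hcP hcM
  obtain rfl : nP = 3 := by omega
  obtain rfl : nM = 1 := by omega
  have hP1 : ∀ j, (P j).1 1 = (P 0).1 1 := fun j => S.famP.off 1 (fun h => (cls_subset H R.DP.hx h).2.1 rfl) j 0
  obtain ⟨d, hd⟩ : ∃ d : ℕ, W.1 1 = d ∧ 0 < d := ⟨_, H43.irr_charDegree_spec W, Nat.pos_of_ne_zero fun e =>
    H26.irr_one_ne_zero W (by rw [H43.irr_charDegree_spec W, e, Nat.cast_zero])⟩
  obtain ⟨dP, hdP⟩ : ∃ d : ℕ, (P 0).1 1 = d ∧ 0 < d := ⟨_, H43.irr_charDegree_spec _, Nat.pos_of_ne_zero fun e =>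
    H26.irr_one_ne_zero (P 0) (by rw [H43.irr_charDegree_spec (P 0), e, Nat.cast_zero])⟩
  obtain ⟨dM, hdM⟩ : ∃ d : ℕ, (M 0).1 1 = d ∧ 0 < d := ⟨_, H43.irr_charDegree_spec _, Nat.pos_of_ne_zero fun e =>
    H26.irr_one_ne_zero (M 0) (by rw [H43.irr_charDegree_spec (M 0), e, Nat.cast_zero])⟩
  have hW1 : W'.1 1 = (d : ℂ) := by rw [S.conjW, hd.1, Complex.conj_natCast]
  have e4 := (col_zero (g := (1 : Sz F 1)) (h := xP) (fun h => hy1 (isConj_one_right.1 h))).symm.trans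
    (S.decomp fun χ => χ.1 1 * conj (χ.1 xP))
  simp only [one, S.st.one, s1, s2, s3, s4, s5, s6, hP1, hW1, hd.1, hdP.1, Fin.sum_univ_one, hdM.1, map_add, map_mul,
    map_intCast, map_one, map_neg, map_zero, hψ, mul_zero, Finset.sum_const_zero, ← Finset.mul_sum,
    sum_lin S.famP.psi hy hy1] at e4
  have e5 := (col_zero (g := (1 : Sz F 1)) (h := xM) (fun h => hy1' (isConj_one_right.1 h))).symm.trans
    (S.decomp fun χ => χ.1 1 * conj (χ.1 xM))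
  have hψ0 := S.famM.psi.sum xM hy' hy1'
  rw [Fin.sum_univ_one] at hψ0
  simp only [one, S.st.one, t1, t2, t3, t4, t5, t6, hP1, hW1, hd.1, hdP.1, Fin.sum_univ_one, hdM.1, map_add, map_mul,
    map_intCast, map_one, map_neg, map_zero, hψ', hψ0, mul_zero, Finset.sum_const, Finset.card_univ, Fintype.card_fin,
    nsmul_eq_mul] at e5
  have e6 := H26.sum_sq_degrees (G := Sz F 1)
  rw [S.decomp (fun χ => χ.1 1 ^ 2), H.card_Sz] at e6
  simp only [one, S.st.one, hP1, hW1, hd.1, hdP.1, Fin.sum_univ_one, hdM.1, S.series.one, Finset.sum_const,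
    Finset.card_univ, Fintype.card_fin, nsmul_eq_mul] at e6
  have hN := S.series.card
  norm_num at hN e4 e5 e6
  obtain rfl : N = 3 := by omega
  push_cast at E1 E2 E3
  have E4 : -63 + 2 * (d : ℤ) * w + dP * (3 * c - εP) + dM * b = 0 := by
    apply Int.cast_injective (α := ℂ)
    push_cast
    linear_combination -e4
  have E5 : -63 + 2 * (d : ℤ) * w' + 3 * dP * a + dM * (c' - εM) = 0 := by
    apply Int.cast_injective (α := ℂ)
    push_cast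
    linear_combination -e5
  have E6 : 3 * (dP : ℤ) ^ 2 + (dM : ℤ) ^ 2 + 2 * (d : ℤ) ^ 2 = 12348 := by
    apply Int.cast_injective (α := ℂ)
    norm_num
    linear_combination e6
  have hεsq : εM ^ 2 = 1 := by rcases S.famM.eps with e | e <;> rw [e] <;> norm_num
  obtain ⟨rfl, rfl, hw, rfl, hZ, rfl⟩ := arith_eight (Z := c' - εM) S.famP.eps (by omega) (by omega) (by omega)
    (by linear_combination E1) (by linear_combination E2 + hεsq) (by linear_combination E3) E4 E5 E6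
  refine ⟨3, 3, 1, St, W, W', lam, X, ψP, P, εP, ψM, M, -(c' - εM), w,
    ⟨hsmall le_rfl _ (by omega), hw, fun y hy h1 => ?_, fun y hy h1 => ?_⟩⟩
  · obtain ⟨a1, a2, a3, a4, a5, a6⟩ := hv y hy h1
    exact ⟨a1, a2, fun j => by rw [a3]; simp, fun j => by rw [a4]; simp, a5, a6⟩
  · obtain ⟨a1, a2, a3, a4, a5, a6⟩ := hv' y hy h1
    refine ⟨a1, a2, fun j => ?_, fun j => by rw [a4]; simp, by rw [a5]; simp, by rw [a6]; simp⟩
    have h0 := S.famM.psi.sum y hy h1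
    rw [Fin.sum_univ_one] at h0
    rw [a3, Subsingleton.elim j 0, h0]
    push_cast
    ring

end Cfsg.Agent.H8.SzSub
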