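import Cfsg.Agent.H8.SzCharFamily

/-!
The Steinberg character and the principal series of a Suzuki group.
-/

set_option autoImplicit false

namespace Cfsg.Agent.H8.SzSub

open Cfsg.Agent.H7
open scoped ComplexConjugate

variable {F : Type*} [Field F] {m : ℕ} {H : SzHyp F m} {xT fT xP fP xM fM z x : Sz F m}

theorem ell_arith (m : ℕ) : (2 ^ (2 * m + 1) + 2 ^ (m + 1) + 1) * (2 ^ (2 * m + 1) - 2 ^ (m + 1) + 1) =
    (2 ^ (2 * m + 1)) ^ 2 + 1 := by
  have h2 : 2 ^ (m + 1) * 2 ^ (m + 1) = 2 * 2 ^ (2 * m + 1) := by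
    rw [← pow_add, ← pow_succ']; congr 1; omega
  have hle : 2 ^ (m + 1) ≤ 2 ^ (2 * m + 1) := Nat.pow_le_pow_right two_pos (by omega)
  obtain ⟨c, hc⟩ := Nat.exists_eq_add_of_le hle
  rw [hc] at h2 ⊢
  rw [Nat.add_sub_cancel_left]
  nlinarith

theorem Reps.ell_P (R : Reps H xT fT xP fP xM fM z x) {y : Sz F m} (hy : y ∈ Subgroup.centralizer {xP}) :
    y ^ ((2 ^ (2 * m + 1)) ^ 2 + 1) = 1 := by
  rw [← ell_arith, pow_mul, ← R.eP]
  have h : y ^ Nat.card (Subgroup.centralizer ({xP} : Set (Sz F m))) = 1 :=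
    congrArg Subtype.val (pow_card_eq_one' (x := (⟨y, hy⟩ : Subgroup.centralizer ({xP} : Set (Sz F m)))))
  rw [h, one_pow]

theorem Reps.ell_M (R : Reps H xT fT xP fP xM fM z x) {y : Sz F m} (hy : y ∈ Subgroup.centralizer {xM}) :
    y ^ ((2 ^ (2 * m + 1)) ^ 2 + 1) = 1 := by
  rw [← ell_arith, mul_comm, pow_mul, ← R.eM]
  have h : y ^ Nat.card (Subgroup.centralizer ({xM} : Set (Sz F m))) = 1 :=
    congrArg Subtype.val (pow_card_eq_one' (x := (⟨y, hy⟩ : Subgroup.centralizer ({xM} : Set (Sz F m)))))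
  rw [h, one_pow]

theorem Reps.mem_T (R : Reps H xT fT xP fP xM fM z x) {y : Sz F m} (hy : y ∈ Subgroup.centralizer {xT}) :
    ∃ k : Fˣ, y = H.ds k := by
  rw [R.CT] at hy
  obtain ⟨k, rfl⟩ := hy
  exact ⟨k, rfl⟩

theorem Reps.ds_mem (R : Reps H xT fT xP fP xM fM z x) (k : Fˣ) :
    H.ds k ∈ Subgroup.centralizer ({xT} : Set (Sz F m)) := R.CT ▸ ⟨k, rfl⟩

theorem lin_sq_ne (H : SzHyp F m) [Fintype Fˣ] {lam : Fˣ →* ℂˣ} (h : lam ≠ 1) : lam * lam ≠ 1 := by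
  intro h2
  refine h (MonoidHom.ext fun k => ?_)
  have e1 : lam k ^ 2 = 1 := by rw [sq]; exact DFunLike.congr_fun h2 k
  have e2 : lam k ^ (2 ^ (2 * m + 1) - 1) = 1 := by
    rw [← H.card_units, ← map_pow, pow_card_eq_one', map_one]
  have hodd : Odd (2 ^ (2 * m + 1) - 1) :=
    Nat.Even.sub_odd Nat.one_le_two_pow (by simp [Nat.even_pow]) odd_one
  obtain ⟨j, hj⟩ := hodd
  rw [hj, pow_succ, pow_mul, e1, one_pow, one_mul] at e2
  exact e2

/-- The norm of the functions induced from linear characters of the point stabiliser. -/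
theorem Reps.norm_indB [Fintype (Sz F m)] (R : Reps H xT fT xP fP xM fM z x) (lam : Fˣ →* ℂˣ)
    [Decidable (lam = 1)] : Cfsg.classInner (indB H lam) (indB H lam) = if lam = 1 then 2 else 1 := by
  classical
  haveI := H.finite_Sz
  haveI := H.fin
  haveI := Fintype.ofFinite (Subgroup.centralizer ({xT} : Set (Sz F m)))
  haveI := Fintype.ofFinite (Subgroup.centralizer ({xP} : Set (Sz F m)))
  haveI := Fintype.ofFinite (Subgroup.centralizer ({xM} : Set (Sz F m)))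
  haveI := Fintype.ofFinite Fˣ
  set φ : Sz F m → ℂ := fun g => indB H lam g * conj (indB H lam g) with hφ
  have hcl : Cfsg.IsClassFunction (Sz F m) φ := fun g h => by
    show indB H lam _ * conj (indB H lam _) = indB H lam g * conj (indB H lam g)
    rw [show indB H lam (h * g * h⁻¹) = indB H lam g from H25.isClassFunction_indFun _ _ g h]
  have h := R.integrate φ hcl
  have q1 : φ z = 1 := by
    show indB H lam z * _ = 1
    rw [indB_two H lam R.zB (fun e => by have := R.hz; rw [e, orderOf_one] at this; omega), map_one, mul_one]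
  have hx1 : x ≠ 1 := fun e => by have := R.hx; rw [e, orderOf_one] at this; omega
  have q2 : φ x = 1 := by
    show indB H lam x * _ = 1
    rw [indB_two H lam R.xB hx1, map_one, mul_one]
  have q3 : φ x⁻¹ = 1 := by
    show indB H lam x⁻¹ * _ = 1
    rw [indB_two H lam (inv_mem R.xB) (inv_ne_one.2 hx1), map_one, mul_one]
  have q4 : ∀ U : Subgroup (Sz F m), ∀ [Fintype U], (∀ y ∈ U, y ^ ((2 ^ (2 * m + 1)) ^ 2 + 1) = 1) →
      (∑ y : U, φ y.1) - φ 1 = 0 := by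
    intro U _ hU
    rw [Finset.sum_eq_single (1 : U) (fun y _ hy => ?_) (fun h => absurd (Finset.mem_univ _) h),
      OneMemClass.coe_one, sub_self]
    show indB H lam y.1 * _ = 0
    rw [indB_zero H lam (hU y.1 y.2) (fun e => hy (Subtype.ext e)), zero_mul]
  rw [q1, q2, q3, q4 _ (fun y hy => R.ell_P hy), q4 _ (fun y hy => R.ell_M hy), R.eT] at h
  set G : Fˣ → ℂ := fun k => ((lam k : ℂ) + ((lam k⁻¹ : ℂˣ) : ℂ)) * ((lam k : ℂ) + ((lam k⁻¹ : ℂˣ) : ℂ)) with hG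
  have hds : ∀ k, k ≠ 1 → φ (H.ds k) = G k := fun k hk => by
    show indB H lam _ * conj _ = _
    rw [indB_ds H lam hk, map_add, H27.conj_linear, H27.conj_linear, inv_inv, hG]
    ring
  have hT : (∑ y : Subgroup.centralizer ({xT} : Set (Sz F m)), φ y.1) - φ 1 = (∑ k : Fˣ, G k) - 4 := by
    have hb : Function.Bijective fun k : Fˣ => (⟨H.ds k, R.ds_mem k⟩ : Subgroup.centralizer ({xT} : Set (Sz F m))) :=
      ⟨fun a b e => H.ds_inj (congrArg Subtype.val e), fun y => by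
        obtain ⟨k, hk⟩ := R.mem_T y.2
        exact ⟨k, Subtype.ext hk.symm⟩⟩
    rw [← hb.sum_comp fun y => φ y.1, ← Finset.add_sum_erase _ _ (Finset.mem_univ (1 : Fˣ)),
      ← Finset.add_sum_erase _ G (Finset.mem_univ (1 : Fˣ)),
      Finset.sum_congr rfl fun k hk => hds k (Finset.mem_erase.1 hk).1]
    simp only [H.ds_one, hG, inv_one, map_one, Units.val_one]
    ring
  have hsum : ∑ k : Fˣ, G k = if lam = 1 then 4 * (Fintype.card Fˣ : ℂ) else 2 * (Fintype.card Fˣ : ℂ) := by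
    split_ifs with hl
    · subst hl
      simp [hG]; ring
    · have hd : ∀ k, G k = (((lam * lam) k : ℂˣ) : ℂ) + 2 + (((lam * lam) k⁻¹ : ℂˣ) : ℂ) := fun k => by
        simp only [hG, MonoidHom.mul_apply, map_inv, Units.val_mul, Units.val_inv_eq_inv_val]
        field_simp
        ring
      rw [Finset.sum_congr rfl fun k _ => hd k, Finset.sum_add_distrib, Finset.sum_add_distrib,
        H27.sum_apply_linear (lin_sq_ne H hl), Finset.sum_const, Finset.card_univ,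
        show ∑ k : Fˣ, (((lam * lam) k⁻¹ : ℂˣ) : ℂ) = ∑ k : Fˣ, (((lam * lam) k : ℂˣ) : ℂ) from
          Equiv.sum_comp (Equiv.inv Fˣ) fun k => (((lam * lam) k : ℂˣ) : ℂ), H27.sum_apply_linear (lin_sq_ne H hl),
        nsmul_eq_mul]
      ring
  have hcu : (Fintype.card Fˣ : ℂ) = (2 : ℂ) ^ (2 * m + 1) - 1 := by
    rw [← Nat.card_eq_fintype_card, H.card_units, Nat.cast_sub Nat.one_le_two_pow]
    push_cast; rfl
  have hG1 : φ 1 = ((2 : ℂ) ^ (2 * m + 1) * 2 ^ (2 * m + 1) + 1) * ((2 : ℂ) ^ (2 * m + 1) * 2 ^ (2 * m + 1) + 1) := by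
    show indB H lam 1 * _ = _
    rw [indB_one]; simp [Complex.conj_ofNat]
  rw [hT, hsum, hcu, hG1, H.card_Sz] at h
  have hq : (2 : ℂ) ^ (2 * m + 1) ≠ 0 := pow_ne_zero _ two_ne_zero
  have hq1 : (2 : ℂ) ^ (2 * m + 1) - 1 ≠ 0 := by
    rw [← hcu]; exact Nat.cast_ne_zero.2 Fintype.card_ne_zero
  have hq2 : ((2 : ℂ) ^ (2 * m + 1)) ^ 2 + 1 ≠ 0 := by
    exact_mod_cast Nat.succ_ne_zero ((2 ^ (2 * m + 1)) ^ 2)
  push_cast [Nat.cast_sub (Nat.one_le_two_pow (n := 2 * m + 1))] at h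
  rw [Cfsg.classInner, h, H.card_Sz]
  push_cast [Nat.cast_sub (Nat.one_le_two_pow (n := 2 * m + 1))]
  split_ifs <;> field_simp <;> ring

/-- The Steinberg character. -/
structure IsSt (H : SzHyp F m) (St : Cfsg.IrrCharacter (Sz F m)) : Prop where
  one : St.1 1 = (2 : ℂ) ^ (2 * m + 1) * 2 ^ (2 * m + 1)
  two : ∀ a ∈ H.Q, a ≠ 1 → St.1 a = 0
  torus : ∀ k : Fˣ, k ≠ 1 → St.1 (H.ds k) = 1
  ell : ∀ g : Sz F m, g ^ ((2 ^ (2 * m + 1)) ^ 2 + 1) = 1 → g ≠ 1 → St.1 g = -1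

/-- The principal series. -/
structure IsSeries (H : SzHyp F m) {N : ℕ} (lam : Fin N → (Fˣ →* ℂˣ)) (X : Fin N → Cfsg.IrrCharacter (Sz F m)) :
    Prop where
  card : 2 * N + 2 = 2 ^ (2 * m + 1)
  inj : Function.Injective X
  one : ∀ j, (X j).1 1 = (2 : ℂ) ^ (2 * m + 1) * 2 ^ (2 * m + 1) + 1
  two : ∀ j, ∀ a ∈ H.Q, a ≠ 1 → (X j).1 a = 1
  torus : ∀ j (k : Fˣ), k ≠ 1 → (X j).1 (H.ds k) = (lam j k : ℂ) + ((lam j k⁻¹ : ℂˣ) : ℂ)
  ell : ∀ j, ∀ g : Sz F m, g ^ ((2 ^ (2 * m + 1)) ^ 2 + 1) = 1 → g ≠ 1 → (X j).1 g = 0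
  sum : ∀ k : Fˣ, k ≠ 1 → ∑ j, ((lam j k : ℂ) + ((lam j k⁻¹ : ℂˣ) : ℂ)) = -1
  sq : ∀ k : Fˣ, k ≠ 1 → ∑ j, ((lam j k : ℂ) + ((lam j k⁻¹ : ℂˣ) : ℂ)) * ((lam j k : ℂ) + ((lam j k⁻¹ : ℂˣ) : ℂ)) =
    (2 : ℂ) ^ (2 * m + 1) - 3

theorem Reps.exists_st [Fintype (Sz F m)] (R : Reps H xT fT xP fP xM fM z x) : ∃ St, IsSt H St := by
  classical
  haveI := H.finite_Sz
  haveI := Fintype.ofFinite H.B
  have hc : Cfsg.IsCharacter (Sz F m) (indB H 1) := H68.isCharacter_indFun_hom H.B ((1 : Fˣ →* ℂˣ).comp (kHom H))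
  obtain ⟨a, b, hab, he⟩ := H68.exists_add_of_norm_two hc (by rw [R.norm_indB, if_pos rfl])
  have h1 : Cfsg.classInner (indB H 1) (H26.oneIrr (Sz F m)).1 = 1 := by
    rw [indB, H25.classInner_indFun_left H.B _ _ (fun g h => rfl), Cfsg.classInner]
    simp only [H26.oneIrr_val, MonoidHom.one_apply, Units.val_one, map_one, mul_one, Finset.sum_const,
      Finset.card_univ, nsmul_eq_mul, ← Nat.card_eq_fintype_card]
    exact inv_mul_cancel₀ (Nat.cast_ne_zero.2 Nat.card_pos.ne')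
  rw [he, H26.classInner_add_left, H26.classInner_irr, H26.classInner_irr] at h1
  obtain ⟨St, hSt⟩ : ∃ St : Cfsg.IrrCharacter (Sz F m), indB H 1 = (H26.oneIrr (Sz F m)).1 + St.1 := by
    by_cases ha : a = H26.oneIrr (Sz F m)
    · exact ⟨b, by rw [he, ha]⟩
    · by_cases hb : b = H26.oneIrr (Sz F m)
      · exact ⟨a, by rw [he, hb, add_comm]⟩
      · rw [if_neg ha, if_neg hb, add_zero] at h1; exact absurd h1 zero_ne_one
  have hv : ∀ g, St.1 g = indB H 1 g - 1 := fun g => by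
    rw [hSt, Pi.add_apply, H26.oneIrr_val]; ring
  refine ⟨St, ⟨?_, fun a ha h1 => ?_, fun k hk => ?_, fun g hg h1 => ?_⟩⟩
  · rw [hv, indB_one]; ring
  · rw [hv, indB_two H 1 ha h1, sub_self]
  · rw [hv, indB_ds H 1 hk]; simp
  · rw [hv, indB_zero H 1 hg h1, zero_sub]

theorem Reps.exists_series [Fintype (Sz F m)] (R : Reps H xT fT xP fP xM fM z x) :
    ∃ (N : ℕ) (lam : Fin N → (Fˣ →* ℂˣ)) (X : Fin N → Cfsg.IrrCharacter (Sz F m)), IsSeries H lam X := by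
  classical
  haveI := H.finite_Sz
  haveI := H.fin
  haveI := Fintype.ofFinite Fˣ
  let σ : Equiv.Perm {l : Fˣ →* ℂˣ // l ≠ 1} :=
    { toFun := fun l => ⟨l.1⁻¹, fun e => l.2 (MonoidHom.ext fun k => inv_eq_one.1 (DFunLike.congr_fun e k))⟩
      invFun := fun l => ⟨l.1⁻¹, fun e => l.2 (MonoidHom.ext fun k => inv_eq_one.1 (DFunLike.congr_fun e k))⟩
      left_inv := fun l => Subtype.ext (MonoidHom.ext fun k => inv_inv (l.1 k))
      right_inv := fun l => Subtype.ext (MonoidHom.ext fun k => inv_inv (l.1 k)) }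
  obtain ⟨N, lam, hl⟩ := exists_orbit_reps σ 2 two_pos (Equiv.ext fun l => Subtype.ext (MonoidHom.ext fun k => inv_inv (l.1 k)))
    (fun i h0 h2 l h => by
      obtain rfl : i = 1 := by omega
      rw [pow_one] at h
      exact lin_sq_ne H l.2 (MonoidHom.ext fun k => by
        have := DFunLike.congr_fun (congrArg Subtype.val h) k
        change (l.1 k)⁻¹ = l.1 k at this
        exact inv_eq_iff_mul_eq_one.1 this))
  have horb : ∀ Φ : (Fˣ →* ℂˣ) → ℂ, ∑ μ : Fˣ →* ℂˣ, Φ μ = Φ 1 + ∑ j, (Φ (lam j).1 + Φ (lam j).1⁻¹) := by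
    intro Φ
    rw [← Finset.add_sum_erase _ _ (Finset.mem_univ (1 : Fˣ →* ℂˣ))]
    congr 1
    rw [Finset.sum_subtype (p := fun μ : Fˣ →* ℂˣ => μ ≠ 1) (Finset.univ.erase 1) (by simp) Φ,
      ← hl.sum_comp (fun μ : {μ : Fˣ →* ℂˣ // μ ≠ 1} => Φ μ.1), Fintype.sum_prod_type]
    exact Finset.sum_congr rfl fun j _ => by rw [Fin.sum_univ_two]; rfl
  have hirr : ∀ j, Cfsg.IsIrrCharacter (Sz F m) (indB H (lam j).1) := fun j =>
    H68.isIrrCharacter_of_norm_one (H68.isCharacter_indFun_hom H.B ((lam j).1.comp (kHom H)))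
      (by
        have h := R.norm_indB (lam j).1
        rw [if_neg (lam j).2] at h
        exact h)
  refine ⟨N, fun j => (lam j).1, fun j => ⟨_, hirr j⟩, ⟨?_, ?_, fun j => indB_one H _,
    fun j a ha h1 => indB_two H _ ha h1, fun j k hk => indB_ds H _ hk, fun j g hg h1 => indB_zero H _ hg h1, ?_, ?_⟩⟩
  · have h := horb fun _ => 1
    simp only [Finset.sum_const, Finset.card_univ, Fintype.card_fin, nsmul_eq_mul, mul_one] at h
    rw [← Nat.card_eq_fintype_card, H27.card_linear, H.card_units, Nat.cast_sub Nat.one_le_two_pow] at h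
    push_cast at h
    exact_mod_cast (show (2 * N + 2 : ℂ) = 2 ^ (2 * m + 1) by linear_combination -h)
  · intro i j hij
    have hv : ∀ k : Fˣ, (((lam i).1 k : ℂˣ) : ℂ) + (((lam i).1 k : ℂˣ) : ℂ)⁻¹ =
        (((lam j).1 k : ℂˣ) : ℂ) + (((lam j).1 k : ℂˣ) : ℂ)⁻¹ := by
      intro k
      rcases eq_or_ne k 1 with rfl | hk
      · simp
      have := congrFun (congrArg Subtype.val hij) (H.ds k)
      change indB H (lam i).1 (H.ds k) = indB H (lam j).1 (H.ds k) at this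
      rw [indB_ds H _ hk, indB_ds H _ hk, map_inv, map_inv, Units.val_inv_eq_inv_val,
        Units.val_inv_eq_inv_val] at this
      exact this
    obtain ⟨k, hk⟩ := IsCyclic.exists_generator (α := Fˣ)
    have hgen : ∀ (a b : Fˣ →* ℂˣ), a k = b k → a = b := fun a b h => MonoidHom.ext fun y => by
      obtain ⟨e, rfl⟩ := Subgroup.mem_zpowers_iff.1 (hk y)
      rw [map_zpow, map_zpow, h]
    have h := hv k
    have ha := Units.ne_zero ((lam i).1 k)
    have hb := Units.ne_zero ((lam j).1 k)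
    field_simp at h
    have hc : ((((lam i).1 k : ℂˣ) : ℂ) - ((lam j).1 k : ℂ)) * ((((lam i).1 k : ℂˣ) : ℂ) * ((lam j).1 k : ℂ) - 1) = 0 := by
      linear_combination h
    rcases mul_eq_zero.1 hc with e | e
    · have := hgen _ _ (Units.ext (sub_eq_zero.1 e))
      exact (Prod.ext_iff.1 (hl.1 (a₁ := (i, 0)) (a₂ := (j, 0)) (Subtype.ext this))).1
    · have := hgen (lam i).1 (lam j).1⁻¹ (eq_inv_of_mul_eq_one_left (Units.ext (sub_eq_zero.1 e)))
      exact (Prod.ext_iff.1 (hl.1 (a₁ := (i, 0)) (a₂ := (j, 1)) (Subtype.ext this))).1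
  · intro k hk
    have h := horb fun μ => ((μ k : ℂˣ) : ℂ)
    rw [H27.sum_linear_apply, if_neg hk, MonoidHom.one_apply, Units.val_one] at h
    rw [Finset.sum_congr rfl fun j _ => show _ = ((((lam j).1 k : ℂˣ) : ℂ) + (((lam j).1⁻¹ k : ℂˣ) : ℂ)) by
      rw [map_inv, MonoidHom.inv_apply]]
    linear_combination -h
  · intro k hk
    have h := horb fun μ => (((μ k : ℂˣ) : ℂ) + ((μ k⁻¹ : ℂˣ) : ℂ)) * (((μ k : ℂˣ) : ℂ) + ((μ k⁻¹ : ℂˣ) : ℂ))
    have hk2 : k * k ≠ 1 := fun e => hk (by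
      have h1 : k ^ (2 ^ (2 * m + 1) - 1) = 1 := by rw [← H.card_units, pow_card_eq_one']
      obtain ⟨j, hj⟩ : Odd (2 ^ (2 * m + 1) - 1) :=
        Nat.Even.sub_odd Nat.one_le_two_pow (by simp [Nat.even_pow]) odd_one
      rw [hj, pow_succ, pow_mul, sq, e, one_pow, one_mul] at h1
      exact h1)
    have e1 : ∑ μ : Fˣ →* ℂˣ, (((μ k : ℂˣ) : ℂ) + ((μ k⁻¹ : ℂˣ) : ℂ)) * (((μ k : ℂˣ) : ℂ) + ((μ k⁻¹ : ℂˣ) : ℂ)) =
        ∑ μ : Fˣ →* ℂˣ, (((μ (k * k) : ℂˣ) : ℂ) + 2 + ((μ (k * k)⁻¹ : ℂˣ) : ℂ)) := Finset.sum_congr rfl fun μ _ => by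
      simp only [map_mul, map_inv, Units.val_mul, Units.val_inv_eq_inv_val]
      field_simp
      ring
    rw [e1, Finset.sum_add_distrib, Finset.sum_add_distrib, H27.sum_linear_apply, H27.sum_linear_apply, if_neg hk2,
      if_neg (inv_ne_one.2 hk2), Finset.sum_const, Finset.card_univ, nsmul_eq_mul, ← Nat.card_eq_fintype_card,
      H27.card_linear, H.card_units, Nat.cast_sub Nat.one_le_two_pow] at h
    have h' : ∀ j, ((((lam j).1⁻¹) k : ℂˣ) : ℂ) + ((((lam j).1⁻¹) k⁻¹ : ℂˣ) : ℂ) =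
        (((lam j).1 k : ℂˣ) : ℂ) + (((lam j).1 k⁻¹ : ℂˣ) : ℂ) := fun j => by
      simp only [MonoidHom.inv_apply, map_inv, inv_inv]; ring
    simp only [h', MonoidHom.one_apply, Units.val_one, Finset.sum_add_distrib] at h
    push_cast at h
    linear_combination (-1 / 2 : ℂ) * h

end Cfsg.Agent.H8.SzSub
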