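import Cfsg.Agent.H8.SzCharIrr

/-!
The list of all irreducible characters of a Suzuki group.
-/

set_option autoImplicit false

namespace Cfsg.Agent.H8.SzSub

open Cfsg.Agent.H7
open scoped ComplexConjugate

variable {F : Type*} [Field F] {m : ℕ} {H : SzHyp F m} {xT fT xP fP xM fM z x x₀ : Sz F m}

theorem Fam.ne_const {n : ℕ} {ψ : Fin n → Sz F m → ℂ} {μ : Fin n → Cfsg.IrrCharacter (Sz F m)} {ε : ℤ}
    (Φ : Fam H x₀ n ψ μ ε) (hn : 2 ≤ n) (χ : Cfsg.IrrCharacter (Sz F m)) {c : ℂ}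
    (h : ∀ y ∈ Subgroup.centralizer ({x₀} : Set (Sz F m)), y ≠ 1 → χ.1 y = c) : ∀ j, μ j ≠ χ := by
  intro j e
  obtain ⟨d, hd⟩ := Φ.mem
  refine Φ.psi.nonconst hn j ((ε : ℂ) * (c - d)) fun y hy h1 => ?_
  have h2 := h y hy h1
  rw [← e, hd j y hy h1] at h2
  have hsq : (ε : ℂ) * ε = 1 := by rcases Φ.eps with h | h <;> rw [h] <;> norm_num
  linear_combination (ε : ℂ) * h2 - ψ j y * hsq

theorem Fam.real [Fintype (Sz F m)] {n : ℕ} {ψ : Fin n → Sz F m → ℂ} {μ : Fin n → Cfsg.IrrCharacter (Sz F m)}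
    {ε : ℤ} (Φ : Fam H x₀ n ψ μ ε) (hn : 2 ≤ n) (j : Fin n) (g : Sz F m) : conj ((μ j).1 g) = (μ j).1 g := by
  haveI := H.finite_Sz
  let χ : Cfsg.IrrCharacter (Sz F m) := ⟨Cfsg.conjFun (μ j).1, H57.irr_conjFun (μ j).2⟩
  have hχ : ∀ y ∈ Subgroup.centralizer ({x₀} : Set (Sz F m)), y ≠ 1 → χ.1 y = (μ j).1 y := by
    intro y hy h1
    obtain ⟨d, hd⟩ := Φ.mem
    show conj ((μ j).1 y) = _
    rw [hd j y hy h1, map_add, map_mul, map_intCast, map_intCast, Φ.psi.real j y hy]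
  by_cases hm : χ ∈ Set.range μ
  · obtain ⟨i, hi⟩ := hm
    have : i = j := by
      refine Φ.psi.inj i j fun y hy h1 => ?_
      obtain ⟨d, hd⟩ := Φ.mem
      have h := hχ y hy h1
      rw [← hi, hd i y hy h1, hd j y hy h1] at h
      exact mul_left_cancel₀ (by rcases Φ.eps with e | e <;> rw [e] <;> norm_num) (add_left_cancel h)
    subst this
    exact (congrFun (congrArg Subtype.val hi) g).symm
  · obtain ⟨c, hc⟩ := Φ.oth χ hm
    exact absurd rfl (Φ.ne_const hn (μ j) (c := (c : ℂ)) (fun y hy h1 => (hχ y hy h1).symm.trans (hc y hy h1)) j)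

/-- All irreducible characters of a Suzuki group. -/
structure Setup (H : SzHyp F m) (xP xM x : Sz F m) {N nP nM : ℕ} (St : Cfsg.IrrCharacter (Sz F m))
    (lam : Fin N → (Fˣ →* ℂˣ)) (X : Fin N → Cfsg.IrrCharacter (Sz F m)) (W W' : Cfsg.IrrCharacter (Sz F m))
    (ψP : Fin nP → Sz F m → ℂ) (P : Fin nP → Cfsg.IrrCharacter (Sz F m)) (εP : ℤ)
    (ψM : Fin nM → Sz F m → ℂ) (M : Fin nM → Cfsg.IrrCharacter (Sz F m)) (εM : ℤ) : Prop where
  st : IsSt H St
  series : IsSeries H lam X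
  famP : Fam H xP nP ψP P εP
  famM : Fam H xM nM ψM M εM
  conjW : ∀ g, W'.1 g = conj (W.1 g)
  nonreal : conj (W.1 x) ≠ W.1 x
  realP : ∀ j g, conj ((P j).1 g) = (P j).1 g
  bij : Function.Bijective (Sum.elim (Sum.elim (Sum.elim ![H26.oneIrr (Sz F m), St] ![W, W']) (Sum.elim X P)) M)
  notP : ∀ χ : Cfsg.IrrCharacter (Sz F m), χ = W ∨ χ = W' ∨ χ ∈ Set.range M → χ ∉ Set.range P
  notM : ∀ χ : Cfsg.IrrCharacter (Sz F m), χ = W ∨ χ = W' ∨ χ ∈ Set.range P → χ ∉ Set.range M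

theorem Setup.decomp [Fintype (Sz F m)] {N nP nM : ℕ}
    {St W W' : Cfsg.IrrCharacter (Sz F m)} {lam : Fin N → (Fˣ →* ℂˣ)} {X : Fin N → Cfsg.IrrCharacter (Sz F m)}
    {ψP : Fin nP → Sz F m → ℂ} {P : Fin nP → Cfsg.IrrCharacter (Sz F m)} {εP : ℤ}
    {ψM : Fin nM → Sz F m → ℂ} {M : Fin nM → Cfsg.IrrCharacter (Sz F m)} {εM : ℤ}
    (S : Setup H xP xM x St lam X W W' ψP P εP ψM M εM) (Φ : Cfsg.IrrCharacter (Sz F m) → ℂ) :
    ∑ χ, Φ χ = Φ (H26.oneIrr (Sz F m)) + Φ St + (Φ W + Φ W') + ∑ j, Φ (X j) + ∑ j, Φ (P j) + ∑ j, Φ (M j) := by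
  rw [← S.bij.sum_comp Φ, Fintype.sum_sum_type, Fintype.sum_sum_type, Fintype.sum_sum_type, Fintype.sum_sum_type,
    Fin.sum_univ_two, Fin.sum_univ_two]
  simp only [Sum.elim_inl, Sum.elim_inr, Matrix.cons_val_zero, Matrix.cons_val_one]
  ring

theorem torus_disjoint [Fintype (Sz F m)] (R : Reps H xT fT xP fP xM fM z x) {y : Sz F m} :
    (y ∈ cls H ⊤ xP → y ∉ cls H ⊤ xM) ∧ (y ∈ cls H ⊤ xT → y ∉ cls H ⊤ xP ∧ y ∉ cls H ⊤ xM) := by
  obtain ⟨hlt, hlt2⟩ := H.th_add_two_lt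
  rw [H.card] at hlt
  have a := fun h => card_centralizer_cls R.DT (g := y) h
  have b := fun h => card_centralizer_cls R.DP (g := y) h
  have c := fun h => card_centralizer_cls R.DM (g := y) h
  rw [R.eT] at a
  rw [R.eP] at b
  rw [R.eM] at c
  refine ⟨fun h h' => ?_, fun h => ⟨fun h' => ?_, fun h' => ?_⟩⟩
  · have := b h; have := c h'; omega
  · have := a h; have := b h'; omega
  · have := a h; have := c h'; omega

theorem mem_cls_self {e : ℕ} {f : Sz F m} (D : TorusData H x₀ f e) {y : Sz F m}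
    (hy : y ∈ Subgroup.centralizer ({x₀} : Set (Sz F m))) (h1 : y ≠ 1) : y ∈ cls H ⊤ x₀ :=
  ⟨1, Subgroup.mem_top _, y, ⟨hy, Subgroup.mem_top _, h1⟩, by group⟩

theorem Reps.exists_nonreal [Fintype (Sz F m)] (R : Reps H xT fT xP fP xM fM z x) :
    ∃ W W' : Cfsg.IrrCharacter (Sz F m), (∀ g, W'.1 g = conj (W.1 g)) ∧ conj (W.1 x) ≠ W.1 x := by
  haveI := H.finite_Sz
  by_contra hne
  push Not at hne
  refine R.not_conj ((H26.isConj_iff_forall_irr x x⁻¹).2 fun χ => ?_)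
  rw [H26.irr_inv]
  exact (hne χ ⟨Cfsg.conjFun χ.1, H57.irr_conjFun χ.2⟩ fun g => rfl).symm

theorem fam_numbers {nP nM N : ℕ} {q r : ℕ} (hP : q + r + 1 = 4 * nP + 1) (hM : q - r + 1 = 4 * nM + 1)
    (hle : r ≤ q) (hN : 2 * N + 2 = q) : 4 + (N + nP) + nM = q + 3 := by
  omega

theorem Reps.exists_setup [Fintype (Sz F m)] (R : Reps H xT fT xP fP xM fM z x) :
    ∃ (N nP nM : ℕ) (St W W' : Cfsg.IrrCharacter (Sz F m)) (lam : Fin N → (Fˣ →* ℂˣ))
      (X : Fin N → Cfsg.IrrCharacter (Sz F m)) (ψP : Fin nP → Sz F m → ℂ) (P : Fin nP → Cfsg.IrrCharacter (Sz F m))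
      (εP : ℤ) (ψM : Fin nM → Sz F m → ℂ) (M : Fin nM → Cfsg.IrrCharacter (Sz F m)),
      2 ≤ nP ∧ (2 ≤ nM → ∃ εM, Setup H xP xM x St lam X W W' ψP P εP ψM M εM) ∧
        (nM ≤ 1 → ∀ εM, εM = 1 ∨ εM = -1 → Setup H xP xM x St lam X W W' ψP P εP ψM M εM) := by
  classical
  haveI := H.finite_Sz
  obtain ⟨St, hSt⟩ := R.exists_st
  obtain ⟨N, lam, X, hX⟩ := R.exists_series
  obtain ⟨W, W', hW, hWx⟩ := R.exists_nonreal
  obtain ⟨nP, ψP, hψP, hfP, -⟩ := exists_fam R.DP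
  obtain ⟨nM, ψM, hψM, hfM, hfM1⟩ := exists_fam R.DM
  obtain ⟨hlt, hlt4⟩ := H.th_add_two_lt
  rw [H.card] at hlt
  have hcP := hψP.card
  have hcM := hψM.card
  rw [R.eP] at hcP
  rw [R.eM] at hcM
  have hn2 : 2 ≤ nP := by omega
  obtain ⟨P, εP, hP⟩ := hfP hn2
  have hq2 : (2 : ℂ) ^ (2 * m + 1) * 2 ^ (2 * m + 1) ≠ 1 ∧ (2 : ℂ) ^ (2 * m + 1) * 2 ^ (2 * m + 1) + 1 ≠ 1 ∧
      (2 : ℂ) ^ (2 * m + 1) * 2 ^ (2 * m + 1) + 1 ≠ 2 ^ (2 * m + 1) * 2 ^ (2 * m + 1) := by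
    refine ⟨?_, ?_, by simp⟩
    · have : 2 ≤ 2 ^ (2 * m + 1) * 2 ^ (2 * m + 1) := by nlinarith
      exact_mod_cast (show 2 ^ (2 * m + 1) * 2 ^ (2 * m + 1) ≠ 1 by omega)
    · simp
  have hx1 : x ≠ 1 := fun e => by have := R.hx; rw [e, orderOf_one] at this; omega
  have hWreal : ∀ χ : Cfsg.IrrCharacter (Sz F m), conj (χ.1 x) = χ.1 x → χ ≠ W ∧ χ ≠ W' := fun χ h =>
    ⟨fun e => hWx (e ▸ h), fun e => hWx (by
      have := hW x
      rw [← e] at this
      rw [this, Complex.conj_conj] at h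
      exact h.symm)⟩
  have hone : ∀ g, (H26.oneIrr (Sz F m)).1 g = 1 := fun g => rfl
  have hpow : ∀ y ∈ Subgroup.centralizer ({xP} : Set (Sz F m)), y ^ ((2 ^ (2 * m + 1)) ^ 2 + 1) = 1 := fun y => R.ell_P
  have hB : Function.Injective (Sum.elim (Sum.elim ![H26.oneIrr (Sz F m), St] ![W, W']) (Sum.elim X P)) := by
    have h1 : H26.oneIrr (Sz F m) ≠ St := fun e => hq2.1 (by rw [← hSt.one, ← e, hone])
    have h2 : W ≠ W' := fun e => hWx (by rw [← hW, ← e])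
    have h3 : ∀ j, X j ≠ H26.oneIrr (Sz F m) ∧ X j ≠ St := fun j =>
      ⟨fun e => hq2.2.1 (by rw [← hX.one j, e, hone]), fun e => hq2.2.2 (by rw [← hX.one j, e, hSt.one])⟩
    have h4 : ∀ j, P j ≠ H26.oneIrr (Sz F m) ∧ P j ≠ St := fun j =>
      ⟨hP.ne_const hn2 _ (c := 1) (fun y _ _ => hone y) j,
        hP.ne_const hn2 _ (c := -1) (fun y hy h1 => hSt.ell y (hpow y hy) h1) j⟩
    refine Function.Injective.sumElim (Function.Injective.sumElim ?_ ?_ ?_) (Function.Injective.sumElim hX.inj hP.inj ?_) ?_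
    · intro a b h; fin_cases a <;> fin_cases b <;> simp_all
    · intro a b h; fin_cases a <;> fin_cases b <;> simp_all
    · intro a b
      fin_cases a <;> fin_cases b <;> simp
      · exact (hWreal _ (by rw [hone, map_one])).1
      · exact (hWreal _ (by rw [hone, map_one])).2
      · exact (hWreal _ (by rw [hSt.two x R.xB hx1, map_zero])).1
      · exact (hWreal _ (by rw [hSt.two x R.xB hx1, map_zero])).2
    · exact fun i j e => hP.ne_const hn2 (X i) (c := 0) (fun y hy h1 => hX.ell i y (hpow y hy) h1) j e.symm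
    · rintro (a | a) (b | b) <;> fin_cases a <;> simp
      · exact (h3 b).1.symm
      · exact (h3 b).2.symm
      · exact (h4 b).1.symm
      · exact (h4 b).2.symm
      · exact (hWreal _ (by rw [hX.two b x R.xB hx1, map_one])).1.symm
      · exact (hWreal _ (by rw [hX.two b x R.xB hx1, map_one])).2.symm
      · exact (hWreal _ (hP.real hn2 b x)).1.symm
      · exact (hWreal _ (hP.real hn2 b x)).2.symm
  set B := Sum.elim (Sum.elim ![H26.oneIrr (Sz F m), St] ![W, W']) (Sum.elim X P) with hBdef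
  have hcard : Fintype.card ((((Fin 2 ⊕ Fin 2) ⊕ (Fin N ⊕ Fin nP)) ⊕ Fin nM)) =
      Fintype.card (Cfsg.IrrCharacter (Sz F m)) := by
    rw [← Nat.card_eq_fintype_card (α := Cfsg.IrrCharacter (Sz F m)), R.card_irr]
    simp only [Fintype.card_sum, Fintype.card_fin]
    exact fam_numbers hcP hcM (by omega) hX.card
  have mk : ∀ (M : Fin nM → Cfsg.IrrCharacter (Sz F m)) (εM : ℤ), Fam H xM nM ψM M εM →
      (∀ a b, B a ≠ M b) → Setup H xP xM x St lam X W W' ψP P εP ψM M εM := by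
    intro M εM hM hd
    refine ⟨hSt, hX, hP, hM, hW, hWx, hP.real hn2,
      (Fintype.bijective_iff_injective_and_card _).2 ⟨hB.sumElim hM.inj hd, hcard⟩, ?_, ?_⟩
    · rintro χ (rfl | rfl | ⟨k, rfl⟩) ⟨j, hj⟩
      · exact (hWreal _ (hP.real hn2 j x)).1 hj
      · exact (hWreal _ (hP.real hn2 j x)).2 hj
      · exact hd (Sum.inr (Sum.inr j)) k hj
    · rintro χ (rfl | rfl | ⟨k, rfl⟩) ⟨j, hj⟩
      · exact hd (Sum.inl (Sum.inr 0)) j hj.symm
      · exact hd (Sum.inl (Sum.inr 1)) j hj.symm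
      · exact hd (Sum.inr (Sum.inr k)) j hj.symm
  rcases le_or_gt 2 nM with hn | hn
  · obtain ⟨M, εM, hM⟩ := hfM hn
    refine ⟨N, nP, nM, St, W, W', lam, X, ψP, P, εP, ψM, M, hn2, fun _ => ⟨εM, mk M εM hM ?_⟩, by omega⟩
    have hpowM : ∀ y ∈ Subgroup.centralizer ({xM} : Set (Sz F m)), y ^ ((2 ^ (2 * m + 1)) ^ 2 + 1) = 1 :=
      fun y => R.ell_M
    rintro ((a | a) | (a | a)) b
    · fin_cases a
      · exact fun e => hM.ne_const hn _ (c := 1) (fun y _ _ => hone y) b e.symm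
      · exact fun e => hM.ne_const hn _ (c := -1) (fun y hy h1 => hSt.ell y (hpowM y hy) h1) b e.symm
    · fin_cases a
      · exact fun e => (hWreal _ (hM.real hn b x)).1 e.symm
      · exact fun e => (hWreal _ (hM.real hn b x)).2 e.symm
    · exact fun e => hM.ne_const hn _ (c := 0) (fun y hy h1 => hX.ell a y (hpowM y hy) h1) b e.symm
    · intro e
      change P a = M b at e
      obtain ⟨k, hk⟩ : ∃ k : Fin nM, k ≠ b := Fintype.exists_ne_of_one_lt_card (by simp; omega) b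
      obtain ⟨d, hd⟩ := hP.mem
      have hagree : ∀ y ∈ Subgroup.centralizer ({xP} : Set (Sz F m)), y ≠ 1 →
          (M k).1 y = (d : ℂ) + εP * ψP a y := fun y hy h1 => by
        rw [hM.off y ((torus_disjoint R).1 (mem_cls_self R.DP hy h1)) k b, ← e]
        exact hd a y hy h1
      by_cases hr : M k ∈ Set.range P
      · obtain ⟨l, hl⟩ := hr
        have : l = a := hP.psi.inj l a fun y hy h1 => by
          have h := hagree y hy h1
          rw [← hl, hd l y hy h1] at h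
          exact mul_left_cancel₀ (by rcases hP.eps with h | h <;> rw [h] <;> norm_num) (add_left_cancel h)
        subst this
        exact hk (hM.inj (hl.symm.trans e))
      · obtain ⟨c, hc⟩ := hP.oth _ hr
        refine hP.psi.nonconst hn2 a ((εP : ℂ) * (c - d)) fun y hy h1 => ?_
        have h := (hc y hy h1).symm.trans (hagree y hy h1)
        have hsq : (εP : ℂ) * εP = 1 := by rcases hP.eps with e | e <;> rw [e] <;> norm_num
        linear_combination -(εP : ℂ) * h - ψP a y * hsq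
  · have hpos := hψM.pos
    have h1 : nM = 1 := by omega
    obtain ⟨Z, hZ⟩ : ∃ Z, ∀ a, B a ≠ Z := by
      by_contra hne
      push Not at hne
      have := Fintype.card_le_of_surjective B hne
      simp only [Fintype.card_sum, Fintype.card_fin] at this hcard
      omega
    exact ⟨N, nP, nM, St, W, W', lam, X, ψP, P, εP, ψM, fun _ => Z, hn2, by omega,
      fun _ εM hε => mk _ εM (hfM1 h1 Z εM hε) fun a _ => hZ a⟩

end Cfsg.Agent.H8.SzSub
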