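import Cfsg.Agent.H8.SzCharGood

/-!
The character table of the Suzuki groups.
-/

set_option autoImplicit false

namespace Cfsg.Agent.H8.SzSub

open Cfsg.Agent.H7
open scoped ComplexConjugate

variable {F : Type*} [Field F] {m : ℕ} {H : SzHyp F m} {xT fT xP fP xM fM z x : Sz F m}

/-- The character table. -/
structure Table (H : SzHyp F m) (xP xM z x : Sz F m) {N nP nM : ℕ} (St : Cfsg.IrrCharacter (Sz F m))
    (lam : Fin N → (Fˣ →* ℂˣ)) (X : Fin N → Cfsg.IrrCharacter (Sz F m)) (W W' : Cfsg.IrrCharacter (Sz F m))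
    (ψP : Fin nP → Sz F m → ℂ) (P : Fin nP → Cfsg.IrrCharacter (Sz F m))
    (ψM : Fin nM → Sz F m → ℂ) (M : Fin nM → Cfsg.IrrCharacter (Sz F m)) : Prop where
  good : Good H xP xM x St lam X W W' ψP P (-1) ψM M (-1) 1
  numP : (nP : ℂ) * 4 = (2 : ℂ) ^ (2 * m + 1) + 2 ^ (m + 1)
  numM : (nM : ℂ) * 4 = (2 : ℂ) ^ (2 * m + 1) - 2 ^ (m + 1)
  degP : ∀ j, (P j).1 1 = ((2 : ℂ) ^ (2 * m + 1) - 1) * (2 ^ (2 * m + 1) - 2 ^ (m + 1) + 1)
  degM : ∀ j, (M j).1 1 = ((2 : ℂ) ^ (2 * m + 1) - 1) * (2 ^ (2 * m + 1) + 2 ^ (m + 1) + 1)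
  degW : W.1 1 = ((2 : ℂ) ^ (2 * m + 1) - 1) * 2 ^ m ∧ W'.1 1 = ((2 : ℂ) ^ (2 * m + 1) - 1) * 2 ^ m
  valT : ∀ k : Fˣ, k ≠ 1 → (∀ j, (P j).1 (H.ds k) = 0) ∧ (∀ j, (M j).1 (H.ds k) = 0) ∧
    W.1 (H.ds k) = 0 ∧ W'.1 (H.ds k) = 0
  valz : (∀ j, (P j).1 z = (2 : ℂ) ^ (m + 1) - 1) ∧ (∀ j, (M j).1 z = -(2 : ℂ) ^ (m + 1) - 1) ∧
    W.1 z = -(2 : ℂ) ^ m ∧ W'.1 z = -(2 : ℂ) ^ m
  valx : (∀ j, (P j).1 x = -1) ∧ (∀ j, (M j).1 x = -1) ∧ W.1 x * W.1 x = -((2 : ℂ) ^ m) ^ 2 ∧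
    W'.1 x = -W.1 x

/-- No algebraic integer times an odd number greater than one is a power of two. -/
theorem integral_two_pow {ξ : ℂ} (hξ : IsIntegral ℤ ξ) {K j : ℕ} (hK : Odd K) (hK1 : 1 < K) :
    (K : ℂ) * ξ ≠ (2 : ℂ) ^ j := by
  intro h
  have hK0 : (K : ℂ) ≠ 0 := Nat.cast_ne_zero.2 (by omega)
  have hrat : ξ = algebraMap ℚ ℂ ((2 : ℚ) ^ j / K) := by
    simp only [eq_ratCast, Rat.cast_div, Rat.cast_pow, Rat.cast_ofNat, Rat.cast_natCast]
    rw [eq_div_iff hK0, mul_comm, h]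
  rw [hrat, isIntegral_algebraMap_iff (algebraMap ℚ ℂ).injective] at hξ
  obtain ⟨n, hn⟩ := IsIntegrallyClosed.isIntegral_iff.1 hξ
  have hn' : (n : ℚ) * K = (2 : ℚ) ^ j := by
    rw [show (n : ℚ) = (2 : ℚ) ^ j / K from hn, div_mul_cancel₀ _ (Nat.cast_ne_zero.2 (by omega))]
  have hn'' : n * K = (2 : ℤ) ^ j := by exact_mod_cast hn'
  have hdvd : K ∣ 2 ^ j := Int.natCast_dvd_natCast.1 ⟨n, by push_cast; rw [← hn'', mul_comm]⟩
  have hco : Nat.Coprime K (2 ^ j) := ((Nat.coprime_two_left.2 hK).pow_left j).symm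
  have := Nat.eq_one_of_dvd_coprimes hco dvd_rfl hdvd
  omega

theorem deg_pos [Finite (Sz F m)] (χ : Cfsg.IrrCharacter (Sz F m)) : ∃ d : ℕ, χ.1 1 = (d : ℂ) ∧ 0 < d :=
  ⟨_, H43.irr_charDegree_spec χ, Nat.pos_of_ne_zero fun e =>
    H26.irr_one_ne_zero χ (by rw [H43.irr_charDegree_spec χ, e, Nat.cast_zero])⟩

theorem Reps.exists_table [Fintype (Sz F m)] (R : Reps H xT fT xP fP xM fM z x) :
    ∃ (N nP nM : ℕ) (St W W' : Cfsg.IrrCharacter (Sz F m)) (lam : Fin N → (Fˣ →* ℂˣ))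
      (X : Fin N → Cfsg.IrrCharacter (Sz F m)) (ψP : Fin nP → Sz F m → ℂ) (P : Fin nP → Cfsg.IrrCharacter (Sz F m))
      (ψM : Fin nM → Sz F m → ℂ) (M : Fin nM → Cfsg.IrrCharacter (Sz F m)),
      Table H xP xM z x St lam X W W' ψP P ψM M := by
  classical
  haveI := H.finite_Sz
  obtain ⟨N, nP, nM, St, W, W', lam, X, ψP, P, εP, ψM, M, εM, w, G⟩ := R.exists_good
  have S := G.setup
  obtain ⟨hlt, hlt4⟩ := H.th_add_two_lt
  rw [H.card] at hlt
  have hm := H.hm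
  have l1 : 1 ≤ 2 ^ (2 * m + 1) := Nat.one_le_two_pow
  have l2 : 2 ^ (m + 1) ≤ 2 ^ (2 * m + 1) := Nat.pow_le_pow_right two_pos (by omega)
  have cP := S.famP.psi.card
  have cM := S.famM.psi.card
  rw [R.eP] at cP
  rw [R.eM] at cM
  have numP : (nP : ℂ) * 4 = (2 : ℂ) ^ (2 * m + 1) + 2 ^ (m + 1) := by
    have : ((2 ^ (2 * m + 1) + 2 ^ (m + 1) + 1 : ℕ) : ℂ) = ((4 * nP + 1 : ℕ) : ℂ) := by rw [cP]
    push_cast at this
    linear_combination -this
  have numM : (nM : ℂ) * 4 = (2 : ℂ) ^ (2 * m + 1) - 2 ^ (m + 1) := by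
    have : ((2 ^ (2 * m + 1) - 2 ^ (m + 1) + 1 : ℕ) : ℂ) = ((4 * nM + 1 : ℕ) : ℂ) := by rw [cM]
    push_cast [Nat.cast_sub l2] at this
    linear_combination -this
  have hN : 2 * (N : ℂ) + 2 = (2 : ℂ) ^ (2 * m + 1) := by exact_mod_cast S.series.card
  have one : ∀ g, (H26.oneIrr (Sz F m)).1 g = 1 := fun g => rfl
  have hy := mem_centralizer_self xP
  have hy1 : xP ≠ 1 := R.DP.hx.2.1
  have hy' := mem_centralizer_self xM
  have hy1' : xM ≠ 1 := R.DM.hx.2.1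
  obtain ⟨s1, s2, s3, s4, s5, s6⟩ := G.valP xP hy hy1
  obtain ⟨t1, t2, t3, t4, t5, t6⟩ := G.valM xM hy' hy1'
  have hψ := fun j => S.famP.psi.real j xP hy
  have hψ' := fun j => S.famM.psi.real j xM hy'
  have hsψ := S.famP.psi.sum xP hy hy1
  have hsψ' := S.famM.psi.sum xM hy' hy1'
  have p0 : Fin nP := ⟨0, S.famP.psi.pos⟩
  have m0 : Fin nM := ⟨0, S.famM.psi.pos⟩
  -- degrees
  obtain ⟨d, hd, hd0⟩ := deg_pos W
  obtain ⟨dP, hdP, hdP0⟩ := deg_pos (P p0)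
  obtain ⟨dM, hdM, hdM0⟩ := deg_pos (M m0)
  have offP := fun (g : Sz F m) (hg : g ∉ cls H ⊤ xP) j => S.famP.off g hg j p0
  have offM := fun (g : Sz F m) (hg : g ∉ cls H ⊤ xM) j => S.famM.off g hg j m0
  have hP1 : ∀ j, (P j).1 1 = (dP : ℂ) := fun j =>
    (offP 1 (fun h => (cls_subset H R.DP.hx h).2.1 rfl) j).trans hdP
  have hM1 : ∀ j, (M j).1 1 = (dM : ℂ) := fun j =>
    (offM 1 (fun h => (cls_subset H R.DM.hx h).2.1 rfl) j).trans hdM
  have hW1 : W'.1 1 = (d : ℂ) := by rw [S.conjW, hd, Complex.conj_natCast]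
  have hεP : (εP : ℂ) * εP = 1 := by rcases S.famP.eps with e | e <;> rw [e] <;> norm_num
  have hεM : (εM : ℂ) * εM = 1 := by rcases S.famM.eps with e | e <;> rw [e] <;> norm_num
  have hw2 : (w : ℂ) * w = 1 := by rcases G.hw with e | e <;> rw [e] <;> norm_num
  have e4 := (col_zero (g := (1 : Sz F m)) (h := xP) (fun h => hy1 (isConj_one_right.1 h))).symm.trans
    (S.decomp fun χ => χ.1 1 * conj (χ.1 xP))
  simp only [one, S.st.one, s1, s2, s3, s4, s5, s6, hP1, hW1, hd, map_mul, map_intCast, map_one, map_neg, map_zero,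
    hψ, mul_zero, Finset.sum_const_zero, ← Finset.mul_sum, hsψ] at e4
  have e5 := (col_zero (g := (1 : Sz F m)) (h := xM) (fun h => hy1' (isConj_one_right.1 h))).symm.trans
    (S.decomp fun χ => χ.1 1 * conj (χ.1 xM))
  simp only [one, S.st.one, t1, t2, t3, t4, t5, t6, hM1, hW1, hd, map_mul, map_intCast, map_one, map_neg, map_zero,
    hψ', mul_zero, Finset.sum_const_zero, ← Finset.mul_sum, hsψ'] at e5
  have e6 := H26.sum_sq_degrees (G := Sz F m)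
  rw [S.decomp (fun χ => χ.1 1 ^ 2), H.card_Sz] at e6
  simp only [one, S.st.one, hP1, hM1, hW1, hd, S.series.one, Finset.sum_const, Finset.card_univ, Fintype.card_fin,
    nsmul_eq_mul] at e6
  push_cast [Nat.cast_sub l1] at e6
  have hA : (εP : ℂ) * dP = 1 - (2 : ℂ) ^ (2 * m + 1) * 2 ^ (2 * m + 1) + 2 * d * w := by linear_combination e4
  have hB : (εM : ℂ) * dM = 1 - (2 : ℂ) ^ (2 * m + 1) * 2 ^ (2 * m + 1) - 2 * d * w := by linear_combination e5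
  have hA2 : (dP : ℂ) ^ 2 = (1 - (2 : ℂ) ^ (2 * m + 1) * 2 ^ (2 * m + 1) + 2 * d * w) ^ 2 := by
    rw [← hA]; linear_combination -(dP : ℂ) ^ 2 * hεP
  have hB2 : (dM : ℂ) ^ 2 = (1 - (2 : ℂ) ^ (2 * m + 1) * 2 ^ (2 * m + 1) - 2 * d * w) ^ 2 := by
    rw [← hB]; linear_combination -(dM : ℂ) ^ 2 * hεM
  rw [hA2, hB2] at e6
  have hsq : 2 * ((2 : ℂ) ^ (2 * m + 1) + 1) *
      (2 * (d : ℂ) - 2 ^ (m + 1) * w * ((2 : ℂ) ^ (2 * m + 1) - 1)) ^ 2 = 0 := by
    linear_combination 4 * e6 - 2 * ((2 : ℂ) ^ (2 * m + 1) * 2 ^ (2 * m + 1) + 1) ^ 2 * hN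
      - (1 - (2 : ℂ) ^ (2 * m + 1) * 2 ^ (2 * m + 1) + 2 * d * w) ^ 2 * numP
      - (1 - (2 : ℂ) ^ (2 * m + 1) * 2 ^ (2 * m + 1) - 2 * d * w) ^ 2 * numM
      + (4 * (2 : ℂ) ^ (2 * m + 1) * (2 ^ (2 * m + 1) + 1) * ((2 : ℂ) ^ (2 * m + 1) - 1) ^ 2
        - 8 * (2 : ℂ) ^ (2 * m + 1) * (d : ℂ) ^ 2) * hw2
  have hq1 : (2 : ℂ) ^ (2 * m + 1) + 1 ≠ 0 := by exact_mod_cast Nat.succ_ne_zero (2 ^ (2 * m + 1))
  have hd' : (d : ℂ) = 2 ^ m * w * ((2 : ℂ) ^ (2 * m + 1) - 1) := by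
    have := pow_eq_zero_iff two_ne_zero |>.1 ((mul_eq_zero.1 hsq).resolve_left (mul_ne_zero two_ne_zero hq1))
    linear_combination (1 / 2 : ℂ) * this
  obtain rfl : w = 1 := by
    rcases G.hw with e | e
    · exact e
    · exfalso
      have hz : (d : ℤ) = -((2 : ℤ) ^ m * ((2 ^ (2 * m + 1) - 1 : ℕ) : ℤ)) := by
        apply Int.cast_injective (α := ℂ)
        push_cast [Nat.cast_sub l1]
        rw [hd', e]; push_cast; ring
      have : 0 ≤ (2 : ℤ) ^ m * ((2 ^ (2 * m + 1) - 1 : ℕ) : ℤ) := by positivity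
      omega
  push_cast at hd' hA hB
  have hPv : (εP : ℤ) * dP = -(((2 ^ (2 * m + 1) - 1 : ℕ) : ℤ) * ((2 ^ (2 * m + 1) - 2 ^ (m + 1) + 1 : ℕ) : ℤ)) := by
    apply Int.cast_injective (α := ℂ)
    push_cast [Nat.cast_sub l1, Nat.cast_sub l2]
    rw [hA, hd']; ring
  have hMv : (εM : ℤ) * dM = -(((2 ^ (2 * m + 1) - 1 : ℕ) : ℤ) * ((2 ^ (2 * m + 1) + 2 ^ (m + 1) + 1 : ℕ) : ℤ)) := by
    apply Int.cast_injective (α := ℂ)
    push_cast [Nat.cast_sub l1]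
    rw [hB, hd']; ring
  obtain rfl : εP = -1 := by
    rcases S.famP.eps with e | e
    · exfalso
      rw [e, one_mul] at hPv
      have : 0 ≤ ((2 ^ (2 * m + 1) - 1 : ℕ) : ℤ) * ((2 ^ (2 * m + 1) - 2 ^ (m + 1) + 1 : ℕ) : ℤ) := by positivity
      omega
    · exact e
  obtain rfl : εM = -1 := by
    rcases S.famM.eps with e | e
    · exfalso
      rw [e, one_mul] at hMv
      have : 0 ≤ ((2 ^ (2 * m + 1) - 1 : ℕ) : ℤ) * ((2 ^ (2 * m + 1) + 2 ^ (m + 1) + 1 : ℕ) : ℤ) := by positivity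
      omega
    · exact e
  push_cast at hA hB
  have degP : ∀ j, (P j).1 1 = ((2 : ℂ) ^ (2 * m + 1) - 1) * (2 ^ (2 * m + 1) - 2 ^ (m + 1) + 1) := fun j => by
    rw [hP1]; linear_combination -hA - 2 * hd'
  have degM : ∀ j, (M j).1 1 = ((2 : ℂ) ^ (2 * m + 1) - 1) * (2 ^ (2 * m + 1) + 2 ^ (m + 1) + 1) := fun j => by
    rw [hM1]; linear_combination -hB + 2 * hd'
  -- the split torus
  have valT : ∀ k : Fˣ, k ≠ 1 → (∀ j, (P j).1 (H.ds k) = 0) ∧ (∀ j, (M j).1 (H.ds k) = 0) ∧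
      W.1 (H.ds k) = 0 ∧ W'.1 (H.ds k) = 0 := by
    intro k hk
    have e := (col_self (H.ds k)).symm.trans (S.decomp fun χ => χ.1 (H.ds k) * conj (χ.1 (H.ds k)))
    rw [H.centralizer_ds hk, H.card_T] at e
    have hX : ∀ j, conj ((lam j k : ℂ) + ((lam j k⁻¹ : ℂˣ) : ℂ)) = (lam j k : ℂ) + ((lam j k⁻¹ : ℂˣ) : ℂ) := fun j => by
      haveI := H.fin
      rw [map_add, H27.conj_linear, H27.conj_linear, inv_inv, add_comm]
    simp only [one, S.st.torus k hk, S.series.torus _ k hk, hX, map_one, mul_one, S.series.sq k hk,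
      Complex.mul_conj] at e
    push_cast [Nat.cast_sub l1] at e
    have e' : Complex.normSq (W.1 (H.ds k)) + Complex.normSq (W'.1 (H.ds k))
        + ∑ j, Complex.normSq ((P j).1 (H.ds k)) + ∑ j, Complex.normSq ((M j).1 (H.ds k)) = 0 := by
      apply Complex.ofReal_injective
      push_cast
      linear_combination -e
    have n1 := Complex.normSq_nonneg (W.1 (H.ds k))
    have n2 := Complex.normSq_nonneg (W'.1 (H.ds k))
    have n3 : 0 ≤ ∑ j, Complex.normSq ((P j).1 (H.ds k)) := Finset.sum_nonneg fun j _ => Complex.normSq_nonneg _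
    have n4 : 0 ≤ ∑ j, Complex.normSq ((M j).1 (H.ds k)) := Finset.sum_nonneg fun j _ => Complex.normSq_nonneg _
    refine ⟨fun j => Complex.normSq_eq_zero.1 ?_, fun j => Complex.normSq_eq_zero.1 ?_,
      Complex.normSq_eq_zero.1 (by linarith), Complex.normSq_eq_zero.1 (by linarith)⟩
    · have z3 : ∑ j, Complex.normSq ((P j).1 (H.ds k)) = 0 := by linarith
      exact (Finset.sum_eq_zero_iff_of_nonneg fun i _ => Complex.normSq_nonneg _).1 z3 j (Finset.mem_univ j)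
    · have z4 : ∑ j, Complex.normSq ((M j).1 (H.ds k)) = 0 := by linarith
      exact (Finset.sum_eq_zero_iff_of_nonneg fun i _ => Complex.normSq_nonneg _).1 z4 j (Finset.mem_univ j)
  -- the involution
  have hz1 : z ≠ 1 := fun e => by have := R.hz; rw [e, orderOf_one] at this; omega
  have hx1 : x ≠ 1 := fun e => by have := R.hx; rw [e, orderOf_one] at this; omega
  have nQP : ∀ a ∈ H.Q, a ∉ cls H ⊤ xP := fun a ha => two_not_cls R.DP ha (IsConj.refl a)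
  have nQM : ∀ a ∈ H.Q, a ∉ cls H ⊤ xM := fun a ha => two_not_cls R.DM ha (IsConj.refl a)
  have ncP : ∀ a ∈ H.Q, ¬ IsConj xP a := fun a ha h =>
    two_not_cls R.DP ha h.symm (mem_cls_self R.DP hy hy1)
  have ncM : ∀ a ∈ H.Q, ¬ IsConj xM a := fun a ha h =>
    two_not_cls R.DM ha h.symm (mem_cls_self R.DM hy' hy1')
  have hzz : z⁻¹ = z := inv_eq_of_mul_eq_one_right (by rw [← sq, ← R.hz, pow_orderOf_eq_one])
  have hreal : ∀ χ : Cfsg.IrrCharacter (Sz F m), conj (χ.1 z) = χ.1 z := fun χ => by rw [← H26.irr_inv, hzz]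
  obtain ⟨ω, hω⟩ : ∃ ω, W.1 z = ω := ⟨_, rfl⟩
  have hω' : W'.1 z = ω := by rw [S.conjW, hreal, hω]
  have hωr : conj ω = ω := by rw [← hω]; exact hreal W
  have hzP : ∀ j, (P j).1 z = (P p0).1 z := fun j => offP z (nQP z R.zB) j
  have hzM : ∀ j, (M j).1 z = (M m0).1 z := fun j => offM z (nQM z R.zB) j
  have f1 := (col_zero (ncP z R.zB)).symm.trans (S.decomp fun χ => χ.1 xP * conj (χ.1 z))
  simp only [one, hreal, hωr, map_one, map_zero, S.st.two z R.zB hz1, s2, s3, s4, s5, s6, hω, hω', hzP, Int.cast_one, Int.cast_neg, mul_zero,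
    zero_mul, Finset.sum_const_zero, ← Finset.sum_mul, ← Finset.mul_sum, hsψ] at f1
  have f2 := (col_zero (ncM z R.zB)).symm.trans (S.decomp fun χ => χ.1 xM * conj (χ.1 z))
  simp only [one, hreal, hωr, map_one, map_zero, S.st.two z R.zB hz1, t2, t3, t4, t5, t6, hω, hω', hzM, Int.cast_one, Int.cast_neg, mul_zero,
    zero_mul, Finset.sum_const_zero, ← Finset.sum_mul, ← Finset.mul_sum, hsψ'] at f2
  have f3 := (col_self z).symm.trans (S.decomp fun χ => χ.1 z * conj (χ.1 z))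
  rw [R.cC.1] at f3
  simp only [one, hreal, hωr, map_one, map_zero, S.st.two z R.zB hz1, S.series.two _ z R.zB hz1, hω, hω', hzP, hzM, mul_zero, mul_one,
    Finset.sum_const, Finset.card_univ, Fintype.card_fin, nsmul_eq_mul] at f3
  push_cast at f3
  have hzA : (P p0).1 z = -1 - 2 * ω := by linear_combination -f1
  have hzB : (M m0).1 z = -1 + 2 * ω := by linear_combination -f2
  rw [hzA, hzB] at f3
  have hfac : (2 * ω + 2 ^ (m + 1)) * (((2 : ℂ) ^ (2 * m + 1) + 1) * ω + 2 ^ m * (1 - 2 ^ (2 * m + 1))) = 0 := by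
    linear_combination -f3 - (1 / 2 : ℂ) * hN - (1 / 4 : ℂ) * (-1 - 2 * ω) ^ 2 * numP
      - (1 / 4 : ℂ) * (-1 + 2 * ω) ^ 2 * numM
  have hωv : ω = -(2 : ℂ) ^ m := by
    rcases mul_eq_zero.1 hfac with e | e
    · linear_combination (1 / 2 : ℂ) * e
    · exfalso
      have h2m : IsIntegral ℤ ((2 : ℂ) ^ m) := by
        have := isIntegral_algebraMap (R := ℤ) (A := ℂ) (x := (2 : ℤ) ^ m)
        simpa using this
      refine integral_two_pow (K := 2 ^ (2 * m + 1) + 1) (j := m + 1)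
        (h2m.sub (hω ▸ H43.irr_isIntegral W z)) (Even.add_one (by simp [Nat.even_pow])) (by omega) ?_
      push_cast
      linear_combination -e
  subst hωv
  -- elements of order four
  obtain ⟨A, hA'⟩ : ∃ A, W.1 x = A := ⟨_, rfl⟩
  have hA'' : W'.1 x = conj A := by rw [S.conjW, hA']
  have hxP : ∀ j, (P j).1 x = (P p0).1 x := fun j => offP x (nQP x R.xB) j
  have hxM : ∀ j, (M j).1 x = (M m0).1 x := fun j => offM x (nQM x R.xB) j
  have g1 := (col_zero (ncP x R.xB)).symm.trans (S.decomp fun χ => χ.1 xP * conj (χ.1 x))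
  simp only [one, S.realP, S.st.two x R.xB hx1, s2, s3, s4, s5, s6, hA', hA'', hxP, Int.cast_one, Int.cast_neg,
    mul_zero, zero_mul, map_zero, map_one, Finset.sum_const_zero, ← Finset.sum_mul, ← Finset.mul_sum, hsψ,
    Complex.conj_conj] at g1
  have g2 := (col_zero (ncM x R.xB)).symm.trans (S.decomp fun χ => χ.1 xM * conj (χ.1 x))
  simp only [one, S.st.two x R.xB hx1, t2, t3, t4, t5, t6, hA', hA'', hxM, Int.cast_one, Int.cast_neg, mul_zero,
    zero_mul, map_zero, map_one, Finset.sum_const_zero, ← Finset.sum_mul, ← Finset.mul_sum, hsψ',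
    Complex.conj_conj] at g2
  have ncz : ¬ IsConj z x := fun h => by
    obtain ⟨c, hc⟩ := isConj_iff.1 h
    have hox : orderOf x = orderOf z := by rw [← hc]; exact MulEquiv.orderOf_eq (MulAut.conj c) z
    rw [R.hx, R.hz] at hox
    omega
  have g3 := (col_zero ncz).symm.trans (S.decomp fun χ => χ.1 z * conj (χ.1 x))
  simp only [one, S.realP, S.st.two z R.zB hz1, S.series.two _ z R.zB hz1, S.series.two _ x R.xB hx1, hω, hω', hA',
    hA'', hzP, hzM, hxP, hxM, mul_zero, zero_mul, mul_one, map_one, Finset.sum_const, Finset.card_univ,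
    Fintype.card_fin, nsmul_eq_mul, Complex.conj_conj] at g3
  have g4 := (col_self x).symm.trans (S.decomp fun χ => χ.1 x * conj (χ.1 x))
  rw [R.cC.2.1] at g4
  simp only [one, S.realP, S.st.two x R.xB hx1, S.series.two _ x R.xB hx1, hA', hA'', hxP, hxM, mul_zero, zero_mul,
    mul_one, map_one, Finset.sum_const, Finset.card_univ, Fintype.card_fin, nsmul_eq_mul, Complex.conj_conj] at g4
  push_cast at g4
  have hxA : (P p0).1 x = -1 - (A + conj A) := by linear_combination -g1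
  have hxB : conj ((M m0).1 x) = -1 + (A + conj A) := by linear_combination -g2
  rw [hzA, hzB, hxA, hxB] at g3
  have hS : (2 : ℂ) ^ (2 * m + 1) * 2 ^ (m + 1) * (A + conj A) = 0 := by
    linear_combination 2 * g3 + hN + (1 / 2 : ℂ) * (2 ^ (m + 1) - 1) * (-1 - (A + conj A)) * numP
      + (1 / 2 : ℂ) * (-2 ^ (m + 1) - 1) * (-1 + (A + conj A)) * numM
  have hS0 : A + conj A = 0 := (mul_eq_zero.1 hS).resolve_left
    (mul_ne_zero (pow_ne_zero _ two_ne_zero) (pow_ne_zero _ two_ne_zero))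
  have hxA' : (P p0).1 x = -1 := by rw [hxA, hS0, sub_zero]
  have hxB' : (M m0).1 x = -1 := by
    have := congrArg conj hxB
    rw [Complex.conj_conj, hS0, add_zero, map_neg, map_one] at this
    exact this
  have hcA : conj A = -A := by linear_combination hS0
  rw [hxA', hxB', hcA, map_neg, map_one] at g4
  have hAA : A * A = -((2 : ℂ) ^ m) ^ 2 := by
    linear_combination (1 / 2 : ℂ) * g4 + (1 / 4 : ℂ) * hN + (1 / 8 : ℂ) * numP + (1 / 8 : ℂ) * numM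
  refine ⟨N, nP, nM, St, W, W', lam, X, ψP, P, ψM, M, ⟨G, numP, numM, degP, degM,
    ⟨by rw [hd, hd']; ring, by rw [hW1, hd']; ring⟩, valT,
    ⟨fun j => by rw [hzP, hzA]; ring, fun j => by rw [hzM, hzB]; ring, hω, hω'⟩,
    fun j => by rw [hxP, hxA'], fun j => by rw [hxM, hxB'], by rw [hA', hAA], by rw [hA', hA'', hcA]⟩⟩

end Cfsg.Agent.H8.SzSub
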