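import Cfsg.Agent.H8.SzCharTable
import Cfsg.Agent.H38.ClassCoeff

/-!
Every non-trivial element of a Suzuki group is a product of two conjugates of any given element of order above two.
-/

set_option autoImplicit false

namespace Cfsg.Agent.H8.SzSub

open Cfsg.Agent.H7
open scoped ComplexConjugate

variable {F : Type*} [Field F] {m : ℕ} {H : SzHyp F m} {xT fT xP fP xM fM z x : Sz F m}

/-- Every non-identity element is conjugate to a standard one. -/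
theorem Reps.normal_form [Fintype (Sz F m)] (R : Reps H xT fT xP fP xM fM z x) {g : Sz F m} (hg : g ≠ 1) :
    ∃ g', IsConj g g' ∧ (g' = z ∨ g' = x ∨ g' = x⁻¹ ∨ (∃ k : Fˣ, k ≠ 1 ∧ g' = H.ds k) ∨
      (g' ∈ Subgroup.centralizer ({xP} : Set (Sz F m)) ∧ g' ≠ 1) ∨
      (g' ∈ Subgroup.centralizer ({xM} : Set (Sz F m)) ∧ g' ≠ 1)) := by
  rcases R.class_cases g with h | h | h | h | h | h | h
  · exact absurd h hg
  · exact ⟨z, h.symm, Or.inl rfl⟩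
  · exact ⟨x, h.symm, Or.inr (Or.inl rfl)⟩
  · exact ⟨x⁻¹, h.symm, Or.inr (Or.inr (Or.inl rfl))⟩
  · obtain ⟨c, -, y, ⟨hy, -, hy1⟩, rfl⟩ := h
    obtain ⟨k, rfl⟩ := R.mem_T hy
    exact ⟨H.ds k, (isConj_iff.2 ⟨c, rfl⟩).symm, Or.inr (Or.inr (Or.inr (Or.inl ⟨k, fun e => hy1 (by rw [e, H.ds_one]), rfl⟩)))⟩
  · obtain ⟨c, -, y, ⟨hy, -, hy1⟩, rfl⟩ := h
    exact ⟨y, (isConj_iff.2 ⟨c, rfl⟩).symm, Or.inr (Or.inr (Or.inr (Or.inr (Or.inl ⟨hy, hy1⟩))))⟩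
  · obtain ⟨c, -, y, ⟨hy, -, hy1⟩, rfl⟩ := h
    exact ⟨y, (isConj_iff.2 ⟨c, rfl⟩).symm, Or.inr (Or.inr (Or.inr (Or.inr (Or.inr ⟨hy, hy1⟩))))⟩

theorem cover_ineq {h q r : ℝ} (hq : q = 2 * h ^ 2) (hr : r = 2 * h) (h2 : 2 ≤ h) :
    7 ≤ q - 1 ∧ 5 ≤ q - r + 1 ∧ 13 ≤ q + r + 1 ∧ 64 ≤ q * q ∧
    q + r < 2 * ((q - 1) * (q - r + 1)) ∧ q - r < 2 * ((q - 1) * (q + r + 1)) ∧
    (q - r) * (r + 1) < 4 * ((q - 1) * (q + r + 1)) ∧
    2 * (q - 3) < (1 / 2 : ℝ) * (q * q + 1) ∧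
    4 * (3 * (q + r + 1) - 16) ≤ 3 * ((q - 1) * (q - r + 1)) ∧
    2 * (q - r + 1 - 4) * (r + 1) ≤ (q - 1) * (q + r + 1) ∧
    2 * (3 * (q - r + 1) - 16) ≤ (q - 1) * (q + r + 1) ∧
    2 * h < q - 1 ∧ 14 ≤ (q - 1) * h := by
  subst hq hr
  have h4 : 4 ≤ h ^ 2 := by nlinarith
  have e1 : (0:ℝ) ≤ h ^ 2 - 2 * h := by nlinarith
  have e2 : (0:ℝ) ≤ h * (h ^ 2 - 2 * h) := mul_nonneg (by linarith) e1
  have e3 : (0:ℝ) ≤ h ^ 2 * (h ^ 2 - 2 * h) := mul_nonneg (by positivity) e1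
  refine ⟨?_, ?_, ?_, ?_, ?_, ?_, ?_, ?_, ?_, ?_, ?_, ?_, ?_⟩ <;> nlinarith

variable {N nP nM : ℕ} {St W W' : Cfsg.IrrCharacter (Sz F m)} {lam : Fin N → (Fˣ →* ℂˣ)}
  {X : Fin N → Cfsg.IrrCharacter (Sz F m)} {ψP : Fin nP → Sz F m → ℂ} {P : Fin nP → Cfsg.IrrCharacter (Sz F m)}
  {ψM : Fin nM → Sz F m → ℂ} {M : Fin nM → Cfsg.IrrCharacter (Sz F m)}

/-- The character sum deciding whether an element is a product of two conjugates of another. -/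
noncomputable def pairSum [Fintype (Sz F m)] (a c : Sz F m) : ℂ :=
  ∑ χ : Cfsg.IrrCharacter (Sz F m), χ.1 a * χ.1 a * conj (χ.1 c) / χ.1 1

theorem Table.pairSum_eq [Fintype (Sz F m)] (T : Table H xP xM z x St lam X W W' ψP P ψM M) (a c : Sz F m) :
    (pairSum a c).re = 1
      + (St.1 a * St.1 a * conj (St.1 c)).re / ((2 : ℝ) ^ (2 * m + 1) * 2 ^ (2 * m + 1))
      + ((W.1 a * W.1 a * conj (W.1 c)).re + (W'.1 a * W'.1 a * conj (W'.1 c)).re) /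
          (((2 : ℝ) ^ (2 * m + 1) - 1) * 2 ^ m)
      + (∑ j, (X j).1 a * (X j).1 a * conj ((X j).1 c)).re / ((2 : ℝ) ^ (2 * m + 1) * 2 ^ (2 * m + 1) + 1)
      + (∑ j, (P j).1 a * (P j).1 a * conj ((P j).1 c)).re /
          (((2 : ℝ) ^ (2 * m + 1) - 1) * ((2 : ℝ) ^ (2 * m + 1) - 2 ^ (m + 1) + 1))
      + (∑ j, (M j).1 a * (M j).1 a * conj ((M j).1 c)).re /
          (((2 : ℝ) ^ (2 * m + 1) - 1) * ((2 : ℝ) ^ (2 * m + 1) + 2 ^ (m + 1) + 1)) := by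
  rw [pairSum, T.good.setup.decomp fun χ => χ.1 a * χ.1 a * conj (χ.1 c) / χ.1 1]
  have a1 : St.1 1 = (((2 : ℝ) ^ (2 * m + 1) * 2 ^ (2 * m + 1) : ℝ) : ℂ) := by
    rw [T.good.setup.st.one]; push_cast; rfl
  have a2 : ∀ j, (X j).1 1 = (((2 : ℝ) ^ (2 * m + 1) * 2 ^ (2 * m + 1) + 1 : ℝ) : ℂ) := fun j => by
    rw [T.good.setup.series.one]; push_cast; rfl
  have a3 : ∀ j, (P j).1 1 =
      ((((2 : ℝ) ^ (2 * m + 1) - 1) * ((2 : ℝ) ^ (2 * m + 1) - 2 ^ (m + 1) + 1) : ℝ) : ℂ) := fun j => by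
    rw [T.degP]; push_cast; rfl
  have a4 : ∀ j, (M j).1 1 =
      ((((2 : ℝ) ^ (2 * m + 1) - 1) * ((2 : ℝ) ^ (2 * m + 1) + 2 ^ (m + 1) + 1) : ℝ) : ℂ) := fun j => by
    rw [T.degM]; push_cast; rfl
  have a5 : W.1 1 = ((((2 : ℝ) ^ (2 * m + 1) - 1) * 2 ^ m : ℝ) : ℂ) := by rw [T.degW.1]; push_cast; rfl
  have a6 : W'.1 1 = ((((2 : ℝ) ^ (2 * m + 1) - 1) * 2 ^ m : ℝ) : ℂ) := by rw [T.degW.2]; push_cast; rfl
  simp only [H26.oneIrr_val, a1, a2, a3, a4, a5, a6, map_one, mul_one, div_one, ← Finset.sum_div, Complex.add_re,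
    Complex.div_ofReal_re, Complex.one_re]
  rw [← add_div]

theorem lam_re (H : SzHyp F m) (l : Fˣ →* ℂˣ) (k : Fˣ) :
    (l k : ℂ) + ((l k⁻¹ : ℂˣ) : ℂ) = ((2 * ((l k : ℂˣ) : ℂ).re : ℝ) : ℂ) ∧ |((l k : ℂˣ) : ℂ).re| ≤ 1 := by
  haveI := H.fin
  refine ⟨by rw [← H27.conj_linear, Complex.add_conj], ?_⟩
  have h1 : ((l k : ℂˣ) : ℂ) ^ Nat.card Fˣ = 1 := by
    rw [← Units.val_pow_eq_pow_val, ← map_pow, pow_card_eq_one', map_one, Units.val_one]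
  have h2 := Complex.norm_eq_one_of_pow_eq_one h1 Nat.card_pos.ne'
  exact (Complex.abs_re_le_norm _).trans h2.le

theorem Table.pos_four [Fintype (Sz F m)] (R : Reps H xT fT xP fP xM fM z x)
    (T : Table H xP xM z x St lam X W W' ψP P ψM M) {a c : Sz F m} (ha : a = x ∨ a = x⁻¹)
    (hc : c = z ∨ c = x ∨ c = x⁻¹ ∨ (∃ k : Fˣ, k ≠ 1 ∧ c = H.ds k) ∨
      (c ∈ Subgroup.centralizer ({xP} : Set (Sz F m)) ∧ c ≠ 1) ∨
      (c ∈ Subgroup.centralizer ({xM} : Set (Sz F m)) ∧ c ≠ 1)) :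
    0 < (pairSum a c).re := by
  have S := T.good.setup
  have hh : (2 : ℝ) ≤ 2 ^ m := le_self_pow₀ one_le_two (by have := H.hm; omega)
  obtain ⟨t7, v5, u13, q64, i1, i2, i3, i4, i5, i6, i7, i8, i9⟩ :=
    cover_ineq (q := (2 : ℝ) ^ (2 * m + 1)) (r := (2 : ℝ) ^ (m + 1)) (by ring) (by ring) hh
  have hz1 : z ≠ 1 := fun e => by have := R.hz; rw [e, orderOf_one] at this; omega
  have hx1 : x ≠ 1 := fun e => by have := R.hx; rw [e, orderOf_one] at this; omega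
  have va : St.1 a = 0 ∧ (∀ j, (X j).1 a = 1) ∧ (∀ j, (P j).1 a * (P j).1 a = 1) ∧ (∀ j, (M j).1 a * (M j).1 a = 1) ∧
      W.1 a * W.1 a = -((2 : ℂ) ^ m) ^ 2 ∧ W'.1 a * W'.1 a = -((2 : ℂ) ^ m) ^ 2 := by
    obtain ⟨p1, m1, w1, w2⟩ := T.valx
    rcases ha with rfl | rfl
    · exact ⟨S.st.two _ R.xB hx1, fun j => S.series.two j _ R.xB hx1, fun j => by rw [p1]; norm_num,
        fun j => by rw [m1]; norm_num, w1, by rw [w2, neg_mul_neg, w1]⟩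
    · refine ⟨S.st.two _ (inv_mem R.xB) (inv_ne_one.2 hx1), fun j => S.series.two j _ (inv_mem R.xB) (inv_ne_one.2 hx1),
        fun j => by rw [H26.irr_inv, p1]; simp, fun j => by rw [H26.irr_inv, m1]; simp, ?_, ?_⟩
      · rw [H26.irr_inv, ← map_mul, w1]; simp [Complex.conj_ofNat]
      · rw [H26.irr_inv, ← map_mul, w2, neg_mul_neg, w1]; simp [Complex.conj_ofNat]
  obtain ⟨a1, a2, a3, a4, a5, a6⟩ := va
  have hs : ((2 : ℂ) ^ m) ^ 2 = ((((2 : ℝ) ^ m) ^ 2 : ℝ) : ℂ) := by push_cast; rfl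
  rw [T.pairSum_eq]
  simp only [a1, a2, a3, a4, a5, a6, mul_zero, zero_mul, one_mul, hs, ← Complex.ofReal_neg, Complex.re_ofReal_mul,
    Complex.conj_re, Complex.zero_re, zero_div, add_zero, Complex.re_sum]
  have nPr : (nP : ℝ) * 4 = (2 : ℝ) ^ (2 * m + 1) + 2 ^ (m + 1) := by
    apply Complex.ofReal_injective; push_cast; exact T.numP
  have nMr : (nM : ℝ) * 4 = (2 : ℝ) ^ (2 * m + 1) - 2 ^ (m + 1) := by
    apply Complex.ofReal_injective; push_cast; exact T.numM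
  rcases hc with rfl | hc | hc | ⟨k, hk, rfl⟩ | ⟨hy, hy1⟩ | ⟨hy, hy1⟩
  · obtain ⟨p1, m1, w1, w2⟩ := T.valz
    have hp : ∀ j, ((P j).1 c).re = (2 : ℝ) ^ (m + 1) - 1 := fun j => by
      rw [p1, show ((2 : ℂ) ^ (m + 1) - 1) = (((2 : ℝ) ^ (m + 1) - 1 : ℝ) : ℂ) by push_cast; rfl, Complex.ofReal_re]
    have hm' : ∀ j, ((M j).1 c).re = -(2 : ℝ) ^ (m + 1) - 1 := fun j => by
      rw [m1, show (-(2 : ℂ) ^ (m + 1) - 1) = ((-(2 : ℝ) ^ (m + 1) - 1 : ℝ) : ℂ) by push_cast; rfl, Complex.ofReal_re]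
    have hw : (W.1 c).re = -(2 : ℝ) ^ m ∧ (W'.1 c).re = -(2 : ℝ) ^ m := by
      rw [w1, w2, show (-(2 : ℂ) ^ m) = ((-(2 : ℝ) ^ m : ℝ) : ℂ) by push_cast; rfl, Complex.ofReal_re]
      exact ⟨rfl, rfl⟩
    simp only [S.series.two _ c R.zB hz1, hp, hm', hw.1, hw.2, Complex.one_re, Finset.sum_const, Finset.card_univ,
      Fintype.card_fin, nsmul_eq_mul, mul_one]
    have A1 : 0 ≤ (N : ℝ) / ((2 : ℝ) ^ (2 * m + 1) * 2 ^ (2 * m + 1) + 1) := by positivity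
    have A2 : 0 ≤ (nP : ℝ) * ((2 : ℝ) ^ (m + 1) - 1) /
        (((2 : ℝ) ^ (2 * m + 1) - 1) * ((2 : ℝ) ^ (2 * m + 1) - 2 ^ (m + 1) + 1)) :=
      div_nonneg (mul_nonneg (Nat.cast_nonneg _) (by linarith [one_le_pow₀ (M₀ := ℝ) one_le_two (n := m + 1)]))
        (mul_nonneg (by linarith) (by linarith))
    have A3 : -1 < (nM : ℝ) * (-(2 : ℝ) ^ (m + 1) - 1) /
        (((2 : ℝ) ^ (2 * m + 1) - 1) * ((2 : ℝ) ^ (2 * m + 1) + 2 ^ (m + 1) + 1)) := by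
      rw [lt_div_iff₀ (mul_pos (by linarith) (by linarith))]
      nlinarith
    have A4 : 0 ≤ (-((2 : ℝ) ^ m) ^ 2 * -(2 : ℝ) ^ m + -((2 : ℝ) ^ m) ^ 2 * -(2 : ℝ) ^ m) /
        (((2 : ℝ) ^ (2 * m + 1) - 1) * 2 ^ m) :=
      div_nonneg (by nlinarith [pow_pos (show (0:ℝ) < 2 by norm_num) m]) (mul_nonneg (by linarith) (by positivity))
    linarith
  all_goals first
    | (have hcx : c = x ∨ c = x⁻¹ := Or.inl hc)
    | (have hcx : c = x ∨ c = x⁻¹ := Or.inr hc)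
    | skip
  iterate 2
    · have vx : (∀ j, ((X j).1 c).re = 1) ∧ (∀ j, ((P j).1 c).re = -1) ∧ (∀ j, ((M j).1 c).re = -1) ∧
          (W.1 c).re + (W'.1 c).re = 0 := by
        obtain ⟨p1, m1, w1, w2⟩ := T.valx
        rcases hcx with rfl | rfl
        · exact ⟨fun j => by rw [S.series.two j _ R.xB hx1]; rfl, fun j => by rw [p1]; simp,
            fun j => by rw [m1]; simp, by rw [w2]; simp⟩
        · exact ⟨fun j => by rw [S.series.two j _ (inv_mem R.xB) (inv_ne_one.2 hx1)]; rfl,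
            fun j => by rw [H26.irr_inv, p1]; simp, fun j => by rw [H26.irr_inv, m1]; simp,
            by rw [H26.irr_inv, H26.irr_inv, w2]; simp⟩
      obtain ⟨v1, v2, v3, v4⟩ := vx
      simp only [v1, v2, v3, Finset.sum_const, Finset.card_univ, Fintype.card_fin, nsmul_eq_mul, mul_one,
        ← mul_add, v4, mul_zero, zero_div, add_zero]
      have A1 : 0 ≤ (N : ℝ) / ((2 : ℝ) ^ (2 * m + 1) * 2 ^ (2 * m + 1) + 1) := by positivity
      have A2 : -(1 / 2 : ℝ) < (nP : ℝ) * -1 /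
          (((2 : ℝ) ^ (2 * m + 1) - 1) * ((2 : ℝ) ^ (2 * m + 1) - 2 ^ (m + 1) + 1)) := by
        rw [lt_div_iff₀ (mul_pos (by linarith) (by linarith))]
        linarith
      have A3 : -(1 / 2 : ℝ) < (nM : ℝ) * -1 /
          (((2 : ℝ) ^ (2 * m + 1) - 1) * ((2 : ℝ) ^ (2 * m + 1) + 2 ^ (m + 1) + 1)) := by
        rw [lt_div_iff₀ (mul_pos (by linarith) (by linarith))]
        linarith
      linarith
  · obtain ⟨p1, m1, w1, w2⟩ := T.valT k hk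
    have hs := congrArg Complex.re (S.series.sum k hk)
    rw [Complex.re_sum, Complex.neg_re, Complex.one_re] at hs
    simp only [S.series.torus _ k hk, p1, m1, w1, w2, Complex.zero_re, mul_zero, Finset.sum_const_zero, zero_div,
      add_zero, hs]
    rw [neg_div]
    have : 1 / ((2 : ℝ) ^ (2 * m + 1) * 2 ^ (2 * m + 1) + 1) < 1 := by rw [div_lt_one (by linarith)]; linarith
    linarith
  · obtain ⟨b1, b2, b3, b4, b5, b6⟩ := T.good.valP c hy hy1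
    have hs := congrArg Complex.re (S.famP.psi.sum c hy hy1)
    rw [Complex.re_sum, Complex.neg_re, Complex.one_re] at hs
    simp only [b2, b3, b4, b5, b6, Complex.zero_re, Finset.sum_const_zero, zero_div, add_zero, Int.cast_neg,
      Int.cast_one, neg_one_mul, Complex.neg_re, Complex.one_re, mul_one, Finset.sum_neg_distrib, hs, neg_neg]
    have A1 : 0 ≤ 1 / (((2 : ℝ) ^ (2 * m + 1) - 1) * ((2 : ℝ) ^ (2 * m + 1) - 2 ^ (m + 1) + 1)) :=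
      div_nonneg zero_le_one (mul_nonneg (by linarith) (by linarith))
    have A2 : -1 < (-((2 : ℝ) ^ m) ^ 2 + -((2 : ℝ) ^ m) ^ 2) / (((2 : ℝ) ^ (2 * m + 1) - 1) * 2 ^ m) := by
      rw [lt_div_iff₀ (mul_pos (by linarith) (by linarith))]
      nlinarith
    linarith
  · obtain ⟨b1, b2, b3, b4, b5, b6⟩ := T.good.valM c hy hy1
    have hs := congrArg Complex.re (S.famM.psi.sum c hy hy1)
    rw [Complex.re_sum, Complex.neg_re, Complex.one_re] at hs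
    simp only [b2, b3, b4, b5, b6, Complex.zero_re, Finset.sum_const_zero, zero_div, add_zero, Int.cast_neg,
      Int.cast_one, neg_one_mul, Complex.neg_re, Complex.one_re, mul_one, mul_neg, Finset.sum_neg_distrib, hs, neg_neg]
    have A1 : 0 ≤ 1 / (((2 : ℝ) ^ (2 * m + 1) - 1) * ((2 : ℝ) ^ (2 * m + 1) + 2 ^ (m + 1) + 1)) :=
      div_nonneg zero_le_one (mul_nonneg (by linarith) (by linarith))
    have A2 : 0 ≤ (((2 : ℝ) ^ m) ^ 2 + ((2 : ℝ) ^ m) ^ 2) / (((2 : ℝ) ^ (2 * m + 1) - 1) * 2 ^ m) :=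
      div_nonneg (by positivity) (mul_nonneg (by linarith) (by positivity))
    linarith

theorem Table.pos_split [Fintype (Sz F m)] (R : Reps H xT fT xP fP xM fM z x)
    (T : Table H xP xM z x St lam X W W' ψP P ψM M) {k : Fˣ} (hk : k ≠ 1) {c : Sz F m}
    (hc : c = z ∨ c = x ∨ c = x⁻¹ ∨ (∃ k : Fˣ, k ≠ 1 ∧ c = H.ds k) ∨
      (c ∈ Subgroup.centralizer ({xP} : Set (Sz F m)) ∧ c ≠ 1) ∨
      (c ∈ Subgroup.centralizer ({xM} : Set (Sz F m)) ∧ c ≠ 1)) :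
    0 < (pairSum (H.ds k) c).re := by
  have S := T.good.setup
  have hh : (2 : ℝ) ≤ 2 ^ m := le_self_pow₀ one_le_two (by have := H.hm; omega)
  obtain ⟨t7, v5, u13, q64, i1, i2, i3, i4, i5, i6, i7, i8, i9⟩ :=
    cover_ineq (q := (2 : ℝ) ^ (2 * m + 1)) (r := (2 : ℝ) ^ (m + 1)) (by ring) (by ring) hh
  have hz1 : z ≠ 1 := fun e => by have := R.hz; rw [e, orderOf_one] at this; omega
  have hx1 : x ≠ 1 := fun e => by have := R.hx; rw [e, orderOf_one] at this; omega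
  have hb : -1 ≤ (St.1 c).re ∧ ∀ j, -2 ≤ ((X j).1 c).re := by
    rcases hc with rfl | rfl | rfl | ⟨l, hl, rfl⟩ | ⟨hy, hy1⟩ | ⟨hy, hy1⟩
    · rw [S.st.two c R.zB hz1]; exact ⟨by simp, fun j => by rw [S.series.two j c R.zB hz1]; norm_num⟩
    · rw [S.st.two c R.xB hx1]; exact ⟨by simp, fun j => by rw [S.series.two j c R.xB hx1]; norm_num⟩
    · rw [S.st.two _ (inv_mem R.xB) (inv_ne_one.2 hx1)]
      exact ⟨by simp, fun j => by rw [S.series.two j _ (inv_mem R.xB) (inv_ne_one.2 hx1)]; norm_num⟩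
    · rw [S.st.torus l hl]
      refine ⟨by simp, fun j => ?_⟩
      obtain ⟨e, he⟩ := lam_re H (lam j) l
      rw [S.series.torus j l hl, e, Complex.ofReal_re]
      linarith [(abs_le.1 he).1]
    · obtain ⟨b1, b2, -⟩ := T.good.valP c hy hy1
      exact ⟨by rw [b1]; simp, fun j => by rw [b2]; simp⟩
    · obtain ⟨b1, b2, -⟩ := T.good.valM c hy hy1
      exact ⟨by rw [b1]; simp, fun j => by rw [b2]; simp⟩
  obtain ⟨p1, m1, w1, w2⟩ := T.valT k hk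
  rw [T.pairSum_eq]
  simp only [S.st.torus k hk, S.series.torus _ k hk, (lam_re H _ k).1, p1, m1, w1, w2, one_mul, zero_mul,
    Complex.zero_re, zero_div, add_zero, Finset.sum_const_zero, Complex.conj_re, Complex.re_sum, ← Complex.ofReal_mul,
    Complex.re_ofReal_mul]
  set s : Fin N → ℝ := fun j => 2 * ((lam j k : ℂˣ) : ℂ).re * (2 * ((lam j k : ℂˣ) : ℂ).re) with hsd
  have hs2 : ∑ j, s j = (2 : ℝ) ^ (2 * m + 1) - 3 := by
    apply Complex.ofReal_injective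
    push_cast
    rw [← S.series.sq k hk]
    refine Finset.sum_congr rfl fun j _ => ?_
    rw [(lam_re H (lam j) k).1, hsd]
    push_cast; ring
  have hsum : -2 * ((2 : ℝ) ^ (2 * m + 1) - 3) ≤ ∑ j, s j * ((X j).1 c).re := by
    rw [← hs2, Finset.mul_sum]
    refine Finset.sum_le_sum fun j _ => ?_
    rw [mul_comm (-2 : ℝ)]
    exact mul_le_mul_of_nonneg_left (hb.2 j) (mul_self_nonneg _)
  have A1 : -(1 / 64 : ℝ) ≤ (St.1 c).re / ((2 : ℝ) ^ (2 * m + 1) * 2 ^ (2 * m + 1)) := by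
    rw [le_div_iff₀ (by linarith)]
    nlinarith [hb.1]
  have A2 : -(1 / 2 : ℝ) < (∑ j, s j * ((X j).1 c).re) / ((2 : ℝ) ^ (2 * m + 1) * 2 ^ (2 * m + 1) + 1) := by
    rw [lt_div_iff₀ (by linarith)]
    linarith
  linarith

theorem Table.pos_plus [Fintype (Sz F m)] (R : Reps H xT fT xP fP xM fM z x)
    (T : Table H xP xM z x St lam X W W' ψP P ψM M) {a : Sz F m}
    (ha : a ∈ Subgroup.centralizer ({xP} : Set (Sz F m))) (ha1 : a ≠ 1) {c : Sz F m}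
    (hc : c = z ∨ c = x ∨ c = x⁻¹ ∨ (∃ k : Fˣ, k ≠ 1 ∧ c = H.ds k) ∨
      (c ∈ Subgroup.centralizer ({xP} : Set (Sz F m)) ∧ c ≠ 1) ∨
      (c ∈ Subgroup.centralizer ({xM} : Set (Sz F m)) ∧ c ≠ 1)) :
    0 < (pairSum a c).re := by
  have S := T.good.setup
  have hh : (2 : ℝ) ≤ 2 ^ m := le_self_pow₀ one_le_two (by have := H.hm; omega)
  obtain ⟨t7, v5, u13, q64, i1, i2, i3, i4, i5, i6, i7, i8, i9⟩ :=
    cover_ineq (q := (2 : ℝ) ^ (2 * m + 1)) (r := (2 : ℝ) ^ (m + 1)) (by ring) (by ring) hh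
  have hz1 : z ≠ 1 := fun e => by have := R.hz; rw [e, orderOf_one] at this; omega
  have hx1 : x ≠ 1 := fun e => by have := R.hx; rw [e, orderOf_one] at this; omega
  obtain ⟨a1, a2, a3, a4, a5, a6⟩ := T.good.valP a ha ha1
  have hu : (Nat.card (Subgroup.centralizer ({xP} : Set (Sz F m))) : ℝ) = (2 : ℝ) ^ (2 * m + 1) + 2 ^ (m + 1) + 1 := by
    rw [R.eP]; push_cast; rfl
  have hsq : (∑ j, ψP j a * ψP j a).re = (2 : ℝ) ^ (2 * m + 1) + 2 ^ (m + 1) + 1 - 4 := by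
    rw [S.famP.psi.sq a ha ha1, Complex.sub_re, Complex.natCast_re, hu]; norm_num
  rw [T.pairSum_eq]
  simp only [a1, a2, a3, a4, a5, a6, Int.cast_neg, Int.cast_one, neg_one_mul, neg_mul_neg, mul_one, one_mul, zero_mul,
    Finset.sum_const_zero, Complex.zero_re, zero_div, add_zero, Complex.conj_re]
  have P0 : (0 : ℝ) < ((2 : ℝ) ^ (2 * m + 1) - 1) * ((2 : ℝ) ^ (2 * m + 1) - 2 ^ (m + 1) + 1) :=
    mul_pos (by linarith) (by linarith)
  have hP0 : ∀ e : ℂ, (∀ j, (P j).1 c = e) →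
      (∑ j, ψP j a * ψP j a * conj ((P j).1 c)).re = ((∑ j, ψP j a * ψP j a) * conj e).re := fun e he => by
    simp only [he, Finset.sum_mul]
  rcases hc with rfl | hc | hc | ⟨k, hk, rfl⟩ | ⟨hy, hy1⟩ | ⟨hy, hy1⟩
  · obtain ⟨p1, -, w1, w2⟩ := T.valz
    rw [hP0 _ p1, w1, w2, S.st.two c R.zB hz1,
      show ((2 : ℂ) ^ (m + 1) - 1) = (((2 : ℝ) ^ (m + 1) - 1 : ℝ) : ℂ) by push_cast; rfl,
      show (-(2 : ℂ) ^ m) = ((-(2 : ℝ) ^ m : ℝ) : ℂ) by push_cast; rfl, Complex.conj_ofReal, Complex.re_mul_ofReal,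
      hsq, Complex.ofReal_re, Complex.zero_re, zero_div, add_zero]
    have A1 : 0 ≤ ((2 : ℝ) ^ (2 * m + 1) + 2 ^ (m + 1) + 1 - 4) * ((2 : ℝ) ^ (m + 1) - 1) /
        (((2 : ℝ) ^ (2 * m + 1) - 1) * ((2 : ℝ) ^ (2 * m + 1) - 2 ^ (m + 1) + 1)) :=
      div_nonneg (mul_nonneg (by linarith) (by linarith [one_le_pow₀ (M₀ := ℝ) one_le_two (n := m + 1)])) P0.le
    have A2 : -(1 / 2 : ℝ) < (-(2 : ℝ) ^ m + -(2 : ℝ) ^ m) / (((2 : ℝ) ^ (2 * m + 1) - 1) * 2 ^ m) := by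
      rw [lt_div_iff₀ (mul_pos (by linarith) (by linarith))]
      nlinarith
    linarith
  all_goals first
    | (have hcx : c = x ∨ c = x⁻¹ := Or.inl hc)
    | (have hcx : c = x ∨ c = x⁻¹ := Or.inr hc)
    | skip
  iterate 2
    · have vx : (St.1 c).re = 0 ∧ (∀ j, (P j).1 c = -1) ∧ (W.1 c).re + (W'.1 c).re = 0 := by
        obtain ⟨p1, m1, w1, w2⟩ := T.valx
        rcases hcx with rfl | rfl
        · exact ⟨by rw [S.st.two _ R.xB hx1]; rfl, p1, by rw [w2]; simp⟩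
        · exact ⟨by rw [S.st.two _ (inv_mem R.xB) (inv_ne_one.2 hx1)]; rfl,
            fun j => by rw [H26.irr_inv, p1]; simp, by rw [H26.irr_inv, H26.irr_inv, w2]; simp⟩
      obtain ⟨v1, v2, v3⟩ := vx
      rw [hP0 _ v2, v1, v3, map_neg, map_one, mul_neg_one, Complex.neg_re, hsq, zero_div, zero_div, add_zero, add_zero]
      have A1 : -1 < -((2 : ℝ) ^ (2 * m + 1) + 2 ^ (m + 1) + 1 - 4) /
          (((2 : ℝ) ^ (2 * m + 1) - 1) * ((2 : ℝ) ^ (2 * m + 1) - 2 ^ (m + 1) + 1)) := by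
        rw [lt_div_iff₀ P0]; linarith
      linarith
  · obtain ⟨p1, -, w1, w2⟩ := T.valT k hk
    rw [hP0 _ p1, w1, w2, S.st.torus k hk, map_zero, mul_zero, Complex.zero_re, Complex.one_re]
    simp only [zero_div, add_zero]
    positivity
  · obtain ⟨b1, b2, b3, b4, b5, b6⟩ := T.good.valP c hy hy1
    have htr := S.famP.psi.triple a ha ha1 c hy hy1
    rw [hu] at htr
    have e : (∑ j, ψP j a * ψP j a * conj ((P j).1 c)).re = -(∑ j, ψP j a * ψP j a * ψP j c).re := by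
      rw [← Complex.neg_re, ← Finset.sum_neg_distrib]
      refine congrArg Complex.re (Finset.sum_congr rfl fun j _ => ?_)
      rw [b3]; simp [S.famP.psi.real j c hy]
    rw [e, b1, b5, b6, Complex.neg_re, Complex.one_re]
    simp only [Int.cast_one, Complex.one_re]
    have A1 : -(1 / 64 : ℝ) ≤ -1 / ((2 : ℝ) ^ (2 * m + 1) * 2 ^ (2 * m + 1)) := by
      rw [le_div_iff₀ (by linarith)]; linarith
    have A2 : 0 ≤ (1 + 1) / (((2 : ℝ) ^ (2 * m + 1) - 1) * 2 ^ m) :=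
      div_nonneg (by norm_num) (mul_nonneg (by linarith) (by positivity))
    have A3 : -(3 / 4 : ℝ) ≤ -(∑ j, ψP j a * ψP j a * ψP j c).re /
        (((2 : ℝ) ^ (2 * m + 1) - 1) * ((2 : ℝ) ^ (2 * m + 1) - 2 ^ (m + 1) + 1)) := by
      rw [le_div_iff₀ P0]; linarith
    linarith
  · obtain ⟨b1, b2, b3, b4, b5, b6⟩ := T.good.valM c hy hy1
    rw [hP0 _ b4, b1, b5, b6, map_zero, mul_zero, Complex.zero_re, zero_div, add_zero]
    simp only [Complex.neg_re, Complex.one_re, Int.cast_one]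
    have A1 : -(1 / 64 : ℝ) ≤ -1 / ((2 : ℝ) ^ (2 * m + 1) * 2 ^ (2 * m + 1)) := by
      rw [le_div_iff₀ (by linarith)]; linarith
    have A2 : -(1 / 7 : ℝ) ≤ (-1 + -1) / (((2 : ℝ) ^ (2 * m + 1) - 1) * 2 ^ m) := by
      rw [le_div_iff₀ (mul_pos (by linarith) (by linarith))]; linarith
    linarith

theorem Table.pos_minus [Fintype (Sz F m)] (R : Reps H xT fT xP fP xM fM z x)
    (T : Table H xP xM z x St lam X W W' ψP P ψM M) {a : Sz F m}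
    (ha : a ∈ Subgroup.centralizer ({xM} : Set (Sz F m))) (ha1 : a ≠ 1) {c : Sz F m}
    (hc : c = z ∨ c = x ∨ c = x⁻¹ ∨ (∃ k : Fˣ, k ≠ 1 ∧ c = H.ds k) ∨
      (c ∈ Subgroup.centralizer ({xP} : Set (Sz F m)) ∧ c ≠ 1) ∨
      (c ∈ Subgroup.centralizer ({xM} : Set (Sz F m)) ∧ c ≠ 1)) :
    0 < (pairSum a c).re := by
  have S := T.good.setup
  have hh : (2 : ℝ) ≤ 2 ^ m := le_self_pow₀ one_le_two (by have := H.hm; omega)
  obtain ⟨t7, v5, u13, q64, i1, i2, i3, i4, i5, i6, i7, i8, i9⟩ :=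
    cover_ineq (q := (2 : ℝ) ^ (2 * m + 1)) (r := (2 : ℝ) ^ (m + 1)) (by ring) (by ring) hh
  have hz1 : z ≠ 1 := fun e => by have := R.hz; rw [e, orderOf_one] at this; omega
  have hx1 : x ≠ 1 := fun e => by have := R.hx; rw [e, orderOf_one] at this; omega
  obtain ⟨a1, a2, a3, a4, a5, a6⟩ := T.good.valM a ha ha1
  have hu : (Nat.card (Subgroup.centralizer ({xM} : Set (Sz F m))) : ℝ) = (2 : ℝ) ^ (2 * m + 1) - 2 ^ (m + 1) + 1 := by
    rw [R.eM, Nat.cast_add, Nat.cast_sub (Nat.pow_le_pow_right two_pos (by omega))]; push_cast; rfl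
  have hsq : (∑ j, ψM j a * ψM j a).re = (2 : ℝ) ^ (2 * m + 1) - 2 ^ (m + 1) + 1 - 4 := by
    rw [S.famM.psi.sq a ha ha1, Complex.sub_re, Complex.natCast_re, hu]; norm_num
  rw [T.pairSum_eq]
  simp only [a1, a2, a3, a4, a5, a6, Int.cast_neg, Int.cast_one, neg_one_mul, neg_mul_neg, mul_one, one_mul, zero_mul,
    Finset.sum_const_zero, Complex.zero_re, zero_div, add_zero, Complex.conj_re]
  have P0 : (0 : ℝ) < ((2 : ℝ) ^ (2 * m + 1) - 1) * ((2 : ℝ) ^ (2 * m + 1) + 2 ^ (m + 1) + 1) :=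
    mul_pos (by linarith) (by linarith)
  have hM0 : ∀ e : ℂ, (∀ j, (M j).1 c = e) →
      (∑ j, ψM j a * ψM j a * conj ((M j).1 c)).re = ((∑ j, ψM j a * ψM j a) * conj e).re := fun e he => by
    simp only [he, Finset.sum_mul]
  have B1 : -(1 / 64 : ℝ) ≤ -1 / ((2 : ℝ) ^ (2 * m + 1) * 2 ^ (2 * m + 1)) := by
    rw [le_div_iff₀ (by linarith)]; linarith
  rcases hc with rfl | hc | hc | ⟨k, hk, rfl⟩ | ⟨hy, hy1⟩ | ⟨hy, hy1⟩
  · obtain ⟨-, m1, w1, w2⟩ := T.valz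
    rw [hM0 _ m1, w1, w2, S.st.two c R.zB hz1,
      show (-(2 : ℂ) ^ (m + 1) - 1) = ((-(2 : ℝ) ^ (m + 1) - 1 : ℝ) : ℂ) by push_cast; rfl,
      show (-(2 : ℂ) ^ m) = ((-(2 : ℝ) ^ m : ℝ) : ℂ) by push_cast; rfl, Complex.conj_ofReal, Complex.re_mul_ofReal,
      hsq, Complex.ofReal_re, Complex.zero_re, zero_div, add_zero]
    have A1 : -(1 / 2 : ℝ) ≤ ((2 : ℝ) ^ (2 * m + 1) - 2 ^ (m + 1) + 1 - 4) * (-(2 : ℝ) ^ (m + 1) - 1) /
        (((2 : ℝ) ^ (2 * m + 1) - 1) * ((2 : ℝ) ^ (2 * m + 1) + 2 ^ (m + 1) + 1)) := by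
      rw [le_div_iff₀ P0]; linarith
    have A2 : -(1 / 3 : ℝ) < (-(2 : ℝ) ^ m + -(2 : ℝ) ^ m) / (((2 : ℝ) ^ (2 * m + 1) - 1) * 2 ^ m) := by
      rw [lt_div_iff₀ (mul_pos (by linarith) (by linarith))]
      nlinarith
    linarith
  all_goals first
    | (have hcx : c = x ∨ c = x⁻¹ := Or.inl hc)
    | (have hcx : c = x ∨ c = x⁻¹ := Or.inr hc)
    | skip
  iterate 2
    · have vx : (St.1 c).re = 0 ∧ (∀ j, (M j).1 c = -1) ∧ (W.1 c).re + (W'.1 c).re = 0 := by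
        obtain ⟨p1, m1, w1, w2⟩ := T.valx
        rcases hcx with rfl | rfl
        · exact ⟨by rw [S.st.two _ R.xB hx1]; rfl, m1, by rw [w2]; simp⟩
        · exact ⟨by rw [S.st.two _ (inv_mem R.xB) (inv_ne_one.2 hx1)]; rfl,
            fun j => by rw [H26.irr_inv, m1]; simp, by rw [H26.irr_inv, H26.irr_inv, w2]; simp⟩
      obtain ⟨v1, v2, v3⟩ := vx
      rw [hM0 _ v2, v1, v3, map_neg, map_one, mul_neg_one, Complex.neg_re, hsq, zero_div, zero_div, add_zero, add_zero]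
      have A1 : -1 < -((2 : ℝ) ^ (2 * m + 1) - 2 ^ (m + 1) + 1 - 4) /
          (((2 : ℝ) ^ (2 * m + 1) - 1) * ((2 : ℝ) ^ (2 * m + 1) + 2 ^ (m + 1) + 1)) := by
        rw [lt_div_iff₀ P0]; linarith
      linarith
  · obtain ⟨-, m1, w1, w2⟩ := T.valT k hk
    rw [hM0 _ m1, w1, w2, S.st.torus k hk, map_zero, mul_zero, Complex.zero_re, Complex.one_re]
    simp only [zero_div, add_zero]
    positivity
  · obtain ⟨b1, b2, b3, b4, b5, b6⟩ := T.good.valP c hy hy1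
    rw [hM0 _ b4, b1, b5, b6, map_zero, mul_zero, Complex.zero_re, zero_div, add_zero]
    simp only [Complex.neg_re, Complex.one_re, Int.cast_one]
    have A2 : 0 ≤ (1 + 1) / (((2 : ℝ) ^ (2 * m + 1) - 1) * 2 ^ m) :=
      div_nonneg (by norm_num) (mul_nonneg (by linarith) (by positivity))
    linarith
  · obtain ⟨b1, b2, b3, b4, b5, b6⟩ := T.good.valM c hy hy1
    have htr := S.famM.psi.triple a ha ha1 c hy hy1
    rw [hu] at htr
    have e : (∑ j, ψM j a * ψM j a * conj ((M j).1 c)).re = -(∑ j, ψM j a * ψM j a * ψM j c).re := by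
      rw [← Complex.neg_re, ← Finset.sum_neg_distrib]
      refine congrArg Complex.re (Finset.sum_congr rfl fun j _ => ?_)
      rw [b3]; simp [S.famM.psi.real j c hy]
    rw [e, b1, b5, b6, Complex.neg_re, Complex.one_re]
    simp only [Int.cast_one, Complex.neg_re, Complex.one_re]
    have A2 : -(1 / 7 : ℝ) ≤ (-1 + -1) / (((2 : ℝ) ^ (2 * m + 1) - 1) * 2 ^ m) := by
      rw [le_div_iff₀ (mul_pos (by linarith) (by linarith))]; linarith
    have A3 : -(1 / 2 : ℝ) ≤ -(∑ j, ψM j a * ψM j a * ψM j c).re /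
        (((2 : ℝ) ^ (2 * m + 1) - 1) * ((2 : ℝ) ^ (2 * m + 1) + 2 ^ (m + 1) + 1)) := by
      rw [le_div_iff₀ P0]; linarith
    linarith

/-- The covering property. -/
theorem exists_pair (H : SzHyp F m) (a g : Sz F m) (ha : 2 < orderOf a) (hg : g ≠ 1) :
    ∃ u v : Sz F m, g = (u * a * u⁻¹) * (v * a * v⁻¹) := by
  classical
  haveI := H.finite_Sz
  haveI := Fintype.ofFinite (Sz F m)
  obtain ⟨xT, fT, xP, fP, xM, fM, z, x, R⟩ := exists_reps H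
  obtain ⟨N, nP, nM, St, W, W', lam, X, ψP, P, ψM, M, T⟩ := R.exists_table
  obtain ⟨a', haa, hca⟩ := R.normal_form (g := a) (fun e => by rw [e, orderOf_one] at ha; omega)
  obtain ⟨g', hgg, hcg⟩ := R.normal_form hg
  have hpos : 0 < (pairSum a' g').re := by
    rcases hca with rfl | h | h | ⟨k, hk, rfl⟩ | ⟨h, h1⟩ | ⟨h, h1⟩
    · exfalso
      obtain ⟨c, rfl⟩ := isConj_iff.1 haa
      have := R.hz
      rw [show orderOf (c * a * c⁻¹) = orderOf a from MulEquiv.orderOf_eq (MulAut.conj c) a] at this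
      omega
    · exact T.pos_four R (Or.inl h) hcg
    · exact T.pos_four R (Or.inr h) hcg
    · exact T.pos_split R hk hcg
    · exact T.pos_plus R h h1 hcg
    · exact T.pos_minus R h h1 hcg
  have heq : pairSum a g = pairSum a' g' := Finset.sum_congr rfl fun χ _ => by
    rw [H26.irr_eq_of_isConj χ haa, H26.irr_eq_of_isConj χ hgg]
  have hne : (Nat.card {p : Sz F m × Sz F m // IsConj a p.1 ∧ IsConj a p.2 ∧ p.1 * p.2 = g} : ℂ) ≠ 0 := by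
    rw [H38.class_coeff]
    refine mul_ne_zero (div_ne_zero (mul_ne_zero ?_ ?_) (Nat.cast_ne_zero.2 Nat.card_pos.ne')) ?_
    · haveI : Nonempty {y : Sz F m // IsConj a y} := ⟨⟨a, IsConj.refl a⟩⟩
      exact Nat.cast_ne_zero.2 Nat.card_pos.ne'
    · haveI : Nonempty {y : Sz F m // IsConj a y} := ⟨⟨a, IsConj.refl a⟩⟩
      exact Nat.cast_ne_zero.2 Nat.card_pos.ne'
    · intro h0
      change pairSum a g = 0 at h0
      rw [← heq, h0, Complex.zero_re] at hpos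
      exact lt_irrefl 0 hpos
  obtain ⟨⟨⟨p, p'⟩, h1, h2, h3⟩⟩ := (Finite.card_pos_iff.1 (Nat.pos_of_ne_zero (Nat.cast_ne_zero.1 hne)))
  obtain ⟨u, rfl⟩ := isConj_iff.1 h1
  obtain ⟨v, rfl⟩ := isConj_iff.1 h2
  exact ⟨u, v, h3.symm⟩

end Cfsg.Agent.H8.SzSub
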