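import Cfsg.Agent.H8.SzSubEmbed

/-!
The normalisers of the tori of the Suzuki group: generators, 2-elements and stabilisers of points.
-/

set_option autoImplicit false

namespace Cfsg.Agent.H8.SzSub

open Cfsg.Agent.H7

variable {F : Type*} [Field F] {m : ℕ}

/-- The normaliser of the centraliser of `x₀`. -/
abbrev NC (x₀ : Sz F m) : Subgroup (Sz F m) :=
  Subgroup.normalizer ((Subgroup.centralizer {x₀} : Subgroup (Sz F m)) : Set (Sz F m))

/-- A torus `C(x₀)` whose normaliser is generated over it by `f` of order `e`. -/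
structure TorusData (H : SzHyp F m) (x₀ f : Sz F m) (e : ℕ) : Prop where
  hx : x₀ ∈ Xt H ⊤
  hf : f ∈ NC x₀
  hord : orderOf f = e
  he : e = 2 ∨ e = 4
  hcard : Nat.card (NC x₀) = e * Nat.card (Subgroup.centralizer {x₀})

theorem isPGroup_of_pow_two {G : Type*} [Group G] {g : G} {n : ℕ} (h : orderOf g ∣ 2 ^ n) :
    ∃ j, orderOf g = 2 ^ j := by
  obtain ⟨j, -, hj⟩ := (Nat.dvd_prime_pow Nat.prime_two).1 h
  exact ⟨j, hj⟩

variable {H : SzHyp F m} {x₀ f : Sz F m} {e : ℕ}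

namespace TorusData

theorem e_two_pow (D : TorusData H x₀ f e) : ∃ j, e = 2 ^ j ∧ 1 ≤ j :=
  D.he.elim (fun h => ⟨1, by omega, le_rfl⟩) (fun h => ⟨2, by omega, one_le_two⟩)

theorem mem_of_odd (D : TorusData H x₀ f e) {d : Sz F m} (hd : d ∈ NC x₀) (ho : Odd (orderOf d)) :
    d ∈ Subgroup.centralizer {x₀} := by
  haveI := H.finite_Sz
  set U := Subgroup.centralizer {x₀} with hU
  haveI : (U.subgroupOf (NC x₀)).Normal := Subgroup.normal_in_normalizer
  have hidx : (U.subgroupOf (NC x₀)).index = e := by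
    have h := (U.subgroupOf (NC x₀)).card_mul_index
    rw [Nat.card_congr (Subgroup.subgroupOfEquivOfLe (Subgroup.le_normalizer : U ≤ NC x₀)).toEquiv, D.hcard,
      mul_comm e] at h
    exact Nat.eq_of_mul_eq_mul_left Nat.card_pos h
  have h1 : (⟨d, hd⟩ : NC x₀) ^ e ∈ U.subgroupOf (NC x₀) := hidx ▸ Subgroup.pow_index_mem _ _
  have h2 : d ^ e ∈ U := h1
  obtain ⟨j, rfl, -⟩ := D.e_two_pow
  obtain ⟨c, hc⟩ := exists_pow_eq_self_of_coprime (x := d) (n := 2 ^ j)
    (Nat.Coprime.pow_left _ (Nat.coprime_two_left.2 ho))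
  rw [← hc]
  exact pow_mem h2 c

theorem two_notMem (D : TorusData H x₀ f e) {z : Sz F m} (hz1 : z ≠ 1) {n : ℕ} (hz : orderOf z ∣ 2 ^ n) :
    z ∉ Subgroup.centralizer {x₀} := fun h =>
  (part_facts H D.hx).2.2.2 z h hz1 (H.exists_conj_mem_Q ⟨n, orderOf_dvd_iff_pow_eq_one.1 hz⟩)

/-- The involution of `⟨f⟩`. -/
theorem invol (D : TorusData H x₀ f e) :
    f ^ (e / 2) ∈ invSet (⊤ : Subgroup (Sz F m)) ∧ f ^ (e / 2) ∈ NC x₀ := by
  refine ⟨⟨Subgroup.mem_top _, ?_, ?_⟩, pow_mem D.hf _⟩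
  · refine pow_ne_one_of_lt_orderOf ?_ ?_ <;> (try rw [D.hord]) <;> rcases D.he with h | h <;> omega
  · rw [← pow_add, show e / 2 + e / 2 = e by rcases D.he with h | h <;> omega, ← D.hord, pow_orderOf_eq_one]

/-- Every involution of the normaliser is conjugate to the one of `⟨f⟩` by a torus element. -/
theorem involution_eq (D : TorusData H x₀ f e) {z : Sz F m} (hz : z ∈ NC x₀) (hz1 : z ≠ 1) (hzz : z * z = 1) :
    ∃ y ∈ Subgroup.centralizer {x₀}, z = y * f ^ (e / 2) * y⁻¹ := by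
  haveI := H.finite_Sz
  obtain ⟨hodd, hcomm, -, -⟩ := part_facts H D.hx
  obtain ⟨⟨-, hi1, hii⟩, hiN⟩ := D.invol
  set i := f ^ (e / 2) with hi
  have hzi : ∀ y ∈ Subgroup.centralizer {x₀}, z * y * z = y⁻¹ := fun y hy => (inverts H D.hx hz1 hzz hz hy).1
  have hii' : ∀ y ∈ Subgroup.centralizer {x₀}, i * y * i = y⁻¹ := fun y hy => (inverts H D.hx hi1 hii hiN hy).1
  have hw : i * z ∈ Subgroup.centralizer {x₀} := by
    rw [Subgroup.mem_centralizer_singleton_iff]
    have hx₀ := mem_centralizer_self x₀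
    have h1 : z * x₀ = x₀⁻¹ * z := by rw [← hzi _ hx₀, mul_assoc, hzz, mul_one]
    have h2 : i * x₀⁻¹ = x₀ * i := by
      have := hii' _ (inv_mem hx₀)
      rw [inv_inv] at this
      nth_rw 2 [← this]
      rw [mul_assoc, hii, mul_one]
    rw [mul_assoc, h1, ← mul_assoc, h2, mul_assoc]
  have ho : Odd (orderOf (i * z)) := hodd.of_dvd_nat (Subgroup.orderOf_dvd_natCard _ hw)
  obtain ⟨s, hs⟩ := conj_of_odd_mul hii hzz ho
  exact ⟨_, pow_mem hw s, hs.symm⟩

theorem stab_card_le (D : TorusData H x₀ f e) {z : Sz F m} (hz : z ∈ NC x₀) (hz1 : z ≠ 1) {n : ℕ}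
    (hz2 : orderOf z ∣ 2 ^ n) {p : Projectivization F (Fin 4 → F)} (hp : p ∈ suzukiOvoid F m) (hfix : z • p = p) :
    Nat.card ↥(NC x₀ ⊓ MulAction.stabilizer (Sz F m) p) ≤ e := by
  classical
  haveI := H.finite_Sz
  obtain ⟨hodd, hcomm, heq, hnq⟩ := part_facts H D.hx
  set U := Subgroup.centralizer {x₀} with hU
  set S := MulAction.stabilizer (Sz F m) p with hS
  have hz' : ∀ g : Sz F m, (g * z * g⁻¹) • (g • p) = g • p := fun g => by
    rw [mul_smul, mul_smul, inv_smul_smul, hfix]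
  have hbot : U ⊓ S = ⊥ := by
    refine (Subgroup.eq_bot_iff_forall _).2 fun y hy => ?_
    by_contra hy1
    obtain ⟨hyU, hyp⟩ := Subgroup.mem_inf.1 hy
    rcases (H.trichotomy hy1).resolve_left (hnq y hyU hy1) with ⟨g, k, hk⟩ | h
    · have hk1 : k ≠ 1 := fun e => hy1 (conj_eq_one_iff.1 (hk.symm.trans (by rw [e, map_one])))
      have hT : cj g U = H.T := by
        rw [← heq y hyU hy1, cj, map_conj_centralizer, ← show H.ds k = g * y * g⁻¹ from hk, H.centralizer_ds hk1]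
      have hzN : g * z * g⁻¹ ∈ Subgroup.normalizer (H.T : Set (Sz F m)) := by
        rw [← hT, cj, ← Subgroup.map_equiv_normalizer_eq _ (MulAut.conj g)]
        exact ⟨z, hz, rfl⟩
      have hfix' : H.ds k • (g • p) = g • p := by
        rw [show H.ds k = g * y * g⁻¹ from hk, mul_smul, mul_smul, inv_smul_smul, MulAction.mem_stabilizer_iff.1 hyp]
      rcases normalizer_T_cases H hzN with ⟨l, hl⟩ | ⟨l, hl⟩
      · refine hnq z ?_ hz1 (H.exists_conj_mem_Q ⟨n, orderOf_dvd_iff_pow_eq_one.1 hz2⟩)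
        have : g * z * g⁻¹ ∈ cj g U := by rw [hT]; exact ⟨l, hl⟩
        simpa [mem_cj, mul_assoc] using this
      · have hgz : g * z * g⁻¹ = H.ws * H.ds l := by
          rw [show H.ds l = H.ws * (g * z * g⁻¹) from hl, ← mul_assoc H.ws, H.ws_mul_self, one_mul]
        have hfix2 := hz' g
        rw [hgz, mul_smul] at hfix2
        rcases mem_ovoid.1 (SzHyp.smul_mem g hp) with h | ⟨x, y', h⟩
        · rw [h, H.ds_inf, H.ws_inf] at hfix2
          exact inf_ne_zero hfix2.symm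
        · rw [h, H.ds_pt, pt_inj] at hfix'
          have hk' : (k : F) ≠ 1 := fun e => hk1 (Units.ext e)
          have hx : x = 0 := by_contra fun hx => hk' ((mul_eq_right₀ hx).1 hfix'.1)
          have hy' : y' = 0 := by_contra fun hy => hk' (H.ker_norm ((mul_eq_right₀ hy).1 hfix'.2))
          rw [h, hx, hy', pt_zero, H.ds_zero_pt, H.ws_zero] at hfix2
          exact inf_ne_zero hfix2
    · exact H.ell_not_fix h hy1 hp (MulAction.mem_stabilizer_iff.1 hyp)
  set J := NC x₀ ⊓ S with hJ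
  have h1 : U.relIndex J = Nat.card J := by
    have hUJ : U ⊓ J = ⊥ := eq_bot_iff.2 fun y hy => hbot ▸ (⟨hy.1, hy.2.2⟩ : y ∈ U ⊓ S)
    rw [← Subgroup.inf_relIndex_right, hUJ, Subgroup.relIndex_bot_left]
  have h2 : U.relIndex (NC x₀) = e := by
    have h := Subgroup.relIndex_mul_relIndex ⊥ U (NC x₀) bot_le Subgroup.le_normalizer
    rw [Subgroup.relIndex_bot_left, Subgroup.relIndex_bot_left, D.hcard, mul_comm e] at h
    exact Nat.eq_of_mul_eq_mul_left Nat.card_pos h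
  rw [← h1, ← h2]
  exact Subgroup.relIndex_le_of_le_right inf_le_left (by rw [h2]; rcases D.he with h | h <;> omega)

theorem exists_fixed (H : SzHyp F m) {z : Sz F m} {n : ℕ} (hz : orderOf z ∣ 2 ^ n) :
    ∃ p ∈ suzukiOvoid F m, z • p = p := by
  obtain ⟨g, hg⟩ := H.exists_conj_mem_Q (g := z) ⟨n, orderOf_dvd_iff_pow_eq_one.1 hz⟩
  refine ⟨g⁻¹ • pinf F, SzHyp.smul_mem _ inf_mem, ?_⟩
  have h := MulAction.mem_stabilizer_iff.1 (H.Q_le_B hg)
  rw [mul_smul, mul_smul] at h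
  exact smul_left_cancel g (h.trans (smul_inv_smul _ _).symm)

/-- Every element of order 4 of the normaliser is conjugate to `f` or `f⁻¹` by a torus element. -/
theorem order_four_eq (D : TorusData H x₀ f e) {z : Sz F m} (hz : z ∈ NC x₀) (hz4 : orderOf z = 4) :
    e = 4 ∧ ∃ y ∈ Subgroup.centralizer {x₀}, z = y * f * y⁻¹ ∨ z = y * f⁻¹ * y⁻¹ := by
  classical
  haveI := H.finite_Sz
  have hz1 : z ≠ 1 := fun e => by rw [e, orderOf_one] at hz4; omega
  have hzz : z ^ 4 = 1 := by have := pow_orderOf_eq_one z; rwa [hz4] at this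
  have hz21 : z * z ≠ 1 := fun h => by
    have := orderOf_dvd_of_pow_eq_one (n := 2) (x := z) (by rw [sq, h])
    rw [hz4] at this
    omega
  obtain ⟨y, hy, hzy⟩ := D.involution_eq (mul_mem hz hz) hz21 (by rw [← hzz, pow_succ, pow_succ, pow_two]; group)
  set i := f ^ (e / 2) with hi
  set z' := y⁻¹ * z * y with hz'
  have hyN : y ∈ NC x₀ := Subgroup.le_normalizer hy
  have hz'N : z' ∈ NC x₀ := mul_mem (mul_mem (inv_mem hyN) hz) hyN
  have hz'2 : z' * z' = i := by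
    rw [hz', show y⁻¹ * z * y * (y⁻¹ * z * y) = y⁻¹ * (z * z) * y by group, hzy]
    group
  have hord' : orderOf z' = 4 := by
    refine Eq.trans ?_ hz4
    rw [hz']
    simpa using MulEquiv.orderOf_eq (MulAut.conj y⁻¹) z
  obtain ⟨⟨-, hi1, hii⟩, hiN⟩ := D.invol
  have hio : orderOf i ∣ 2 ^ 1 := orderOf_dvd_of_pow_eq_one (by rw [pow_one, sq, hii])
  obtain ⟨p, hp, hpfix⟩ := exists_fixed H hio
  have hcomm_fix : ∀ w : Sz F m, w * i = i * w → w • p = p := by
    intro w hw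
    obtain ⟨g, hg⟩ : ∃ g : Sz F m, g • pinf F = p := by rw [← H.orbit_inf] at hp; exact hp
    have hiB : g⁻¹ * i * g ∈ H.B := by
      rw [MulAction.mem_stabilizer_iff, mul_smul, mul_smul, hg, hpfix, inv_smul_eq_iff, hg]
    have hii' : g⁻¹ * i * g * (g⁻¹ * i * g) = 1 := by
      rw [show g⁻¹ * i * g * (g⁻¹ * i * g) = g⁻¹ * (i * i) * g by group, hii]; group
    have hQ := Q0_le_Q H (involution_mem_Q0 H hiB hii')
    have hne : g⁻¹ * i * g ≠ 1 := fun h => hi1 (by calc i = g * (g⁻¹ * i * g) * g⁻¹ := by group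
                                                      _ = 1 := by rw [h]; group)
    have hfix : (g⁻¹ * i * g) • ((g⁻¹ * w * g) • pinf F) = (g⁻¹ * w * g) • pinf F := by
      rw [← mul_smul, show g⁻¹ * i * g * (g⁻¹ * w * g) = g⁻¹ * (i * w) * g by group, ← hw,
        show g⁻¹ * (w * i) * g = g⁻¹ * w * g * (g⁻¹ * i * g) by group, mul_smul,
        MulAction.mem_stabilizer_iff.1 hiB]
    have := H.eq_inf_of_fixed hQ hne (SzHyp.smul_mem _ inf_mem) hfix
    rw [mul_smul, mul_smul, hg, inv_smul_eq_iff, hg] at this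
    exact this
  have hle := D.stab_card_le hiN hi1 hio hp hpfix
  have hzJ : z' ∈ NC x₀ ⊓ MulAction.stabilizer (Sz F m) p := ⟨hz'N, hcomm_fix z' (by rw [← hz'2]; group)⟩
  have hfJ : f ∈ NC x₀ ⊓ MulAction.stabilizer (Sz F m) p := ⟨D.hf, hcomm_fix f (Commute.self_pow f _).eq⟩
  have he4 : e = 4 := by
    rcases D.he with h | h
    · exfalso
      have := (Nat.card_zpowers z' ▸ Subgroup.card_le_of_le (Subgroup.zpowers_le.2 hzJ) :
        orderOf z' ≤ Nat.card ↥(NC x₀ ⊓ MulAction.stabilizer (Sz F m) p))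
      omega
    · exact h
  refine ⟨he4, y, hy, ?_⟩
  have heqz : Subgroup.zpowers f = NC x₀ ⊓ MulAction.stabilizer (Sz F m) p :=
    Subgroup.eq_of_le_of_card_ge (Subgroup.zpowers_le.2 hfJ) (by rw [Nat.card_zpowers, D.hord]; exact hle)
  rw [← heqz] at hzJ
  obtain ⟨j, hj, hfj⟩ : ∃ j < 4, f ^ j = z' := by
    obtain ⟨c, hc⟩ := (mem_powers_iff_mem_zpowers (x := f)).2 hzJ
    refine ⟨c % 4, Nat.mod_lt _ (by norm_num), ?_⟩
    rw [← hc]
    have := pow_mod_orderOf f c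
    rwa [D.hord.trans he4] at this
  have hback : z = y * z' * y⁻¹ := by rw [hz']; group
  interval_cases j
  · simp at hfj; rw [← hfj, orderOf_one] at hord'; omega
  · left; rw [hback, ← hfj, pow_one]
  · exfalso
    have : z' ^ 2 = 1 := by rw [← hfj, ← pow_mul, show 2 * 2 = orderOf f by rw [D.hord, he4], pow_orderOf_eq_one]
    have := orderOf_dvd_of_pow_eq_one this
    rw [hord'] at this
    omega
  · right
    have : f⁻¹ = f ^ 3 := inv_eq_of_mul_eq_one_right (by rw [← pow_succ', show 3 + 1 = orderOf f by rw [D.hord, he4], pow_orderOf_eq_one])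
    rw [hback, ← hfj, this]

theorem conj_injective (D : TorusData H x₀ f e) {f' : Sz F m} (hf' : f' = f ∨ f' = f⁻¹ ∨ f' = f ^ (e / 2)) :
    Function.Injective fun y : Subgroup.centralizer {x₀} => y.1 * f' * y.1⁻¹ := by
  haveI := H.finite_Sz
  obtain ⟨⟨-, hi1, hii⟩, hiN⟩ := D.invol
  obtain ⟨hodd, -, -, -⟩ := part_facts H D.hx
  intro a b h
  have h' : a.1 * f' * a.1⁻¹ = b.1 * f' * b.1⁻¹ := h
  set w := b.1⁻¹ * a.1 with hw
  have hwU : w ∈ Subgroup.centralizer {x₀} := mul_mem (inv_mem b.2) a.2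
  have hwc : Commute w f' := by
    show w * f' = f' * w
    calc w * f' = b.1⁻¹ * (a.1 * f' * a.1⁻¹) * a.1 := by rw [hw]; group
      _ = b.1⁻¹ * (b.1 * f' * b.1⁻¹) * a.1 := by rw [h']
      _ = f' * w := by rw [hw]; group
  have hwi : Commute w (f ^ (e / 2)) := by
    rcases hf' with rfl | rfl | rfl
    · exact hwc.pow_right _
    · exact (by simpa using hwc.inv_right : Commute w f).pow_right _
    · exact hwc
  have hinv := (inverts H D.hx hi1 hii hiN hwU).1
  rw [← hwi.eq, mul_assoc, hii, mul_one] at hinv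
  have hw2 : orderOf w ∣ 2 := orderOf_dvd_of_pow_eq_one (by rw [sq]; exact mul_eq_one_iff_eq_inv.2 hinv)
  have hw1 : orderOf w = 1 := eq_one_of_odd_dvd_two (hodd.of_dvd_nat (Subgroup.orderOf_dvd_natCard _ hwU)) hw2
  rw [orderOf_eq_one_iff, hw, inv_mul_eq_one] at hw1
  exact Subtype.ext hw1.symm

theorem card_le_stab (D : TorusData H x₀ f e) {z : Sz F m} (hz : z ∈ NC x₀) (hz1 : z ≠ 1) {n : ℕ}
    (hz2 : orderOf z ∣ 2 ^ n) (hz4 : orderOf z = 2 ∨ orderOf z = 4) {p : Projectivization F (Fin 4 → F)}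
    (hp : p ∈ suzukiOvoid F m) (hfix : z • p = p) : e ≤ Nat.card ↥(NC x₀ ⊓ MulAction.stabilizer (Sz F m) p) := by
  haveI := H.finite_Sz
  have hfin : ∀ g ∈ NC x₀, orderOf g = e → z ∈ Subgroup.zpowers g →
      e ≤ Nat.card ↥(NC x₀ ⊓ MulAction.stabilizer (Sz F m) p) := by
    intro g hg ho hzg
    rw [← ho, ← Nat.card_zpowers]
    refine Subgroup.card_le_of_le (Subgroup.zpowers_le.2 ⟨hg, ?_⟩)
    -- `g` commutes with `z`, hence fixes the only fixed point of `z`
    obtain ⟨j, rfl⟩ := Subgroup.mem_zpowers_iff.1 hzg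
    obtain ⟨c, hc⟩ : ∃ c : Sz F m, c • pinf F = p := by rw [← H.orbit_inf] at hp; exact hp
    have hB : c⁻¹ * g ^ j * c ∈ H.B := by
      rw [MulAction.mem_stabilizer_iff, mul_smul, mul_smul, hc, hfix, inv_smul_eq_iff, hc]
    obtain ⟨u, hu, k, huk⟩ := exists_Q_ds H hB
    have hQ : c⁻¹ * g ^ j * c ∈ H.Q := by
      obtain ⟨x, hx⟩ := H.exists_conj_mem_Q (g := c⁻¹ * g ^ j * c) ⟨n, orderOf_dvd_iff_pow_eq_one.1 (by
        rw [show c⁻¹ * g ^ j * c = MulAut.conj c⁻¹ (g ^ j) by simp, MulEquiv.orderOf_eq]; exact hz2)⟩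
      have hx1 : x * (c⁻¹ * g ^ j * c) * x⁻¹ ≠ 1 := fun e => hz1 (by
        rw [conj_eq_one_iff] at e
        calc g ^ j = c * (c⁻¹ * g ^ j * c) * c⁻¹ := by group
          _ = 1 := by rw [e]; group)
      have hfx : (x * (c⁻¹ * g ^ j * c) * x⁻¹) • (x • pinf F) = x • pinf F := by
        rw [mul_smul, mul_smul, inv_smul_smul, MulAction.mem_stabilizer_iff.1 hB]
      have hxB : x⁻¹ ∈ H.B := inv_mem (MulAction.mem_stabilizer_iff.2 (H.eq_inf_of_fixed hx hx1 (SzHyp.smul_mem x inf_mem) hfx))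
      have := H.Q_conj_mem hxB hx
      simpa [mul_assoc] using this
    have hne : c⁻¹ * g ^ j * c ≠ 1 := fun e => hz1 (by
      calc g ^ j = c * (c⁻¹ * g ^ j * c) * c⁻¹ := by group
        _ = 1 := by rw [e]; group)
    have hcomm : (c⁻¹ * g ^ j * c) * (c⁻¹ * g * c) = (c⁻¹ * g * c) * (c⁻¹ * g ^ j * c) := by group
    have hfx : (c⁻¹ * g ^ j * c) • ((c⁻¹ * g * c) • pinf F) = (c⁻¹ * g * c) • pinf F := by
      rw [← mul_smul, hcomm, mul_smul, MulAction.mem_stabilizer_iff.1 hB]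
    have := H.eq_inf_of_fixed hQ hne (SzHyp.smul_mem _ inf_mem) hfx
    rw [mul_smul, mul_smul, hc, inv_smul_eq_iff, hc] at this
    exact this
  rcases hz4 with h | h
  · obtain ⟨y, hy, rfl⟩ := D.involution_eq hz hz1 (by rw [← sq, ← h, pow_orderOf_eq_one])
    refine hfin (y * f * y⁻¹) (mul_mem (mul_mem (Subgroup.le_normalizer hy) D.hf) (inv_mem (Subgroup.le_normalizer hy))) ?_ ?_
    · rw [← D.hord]
      simpa using MulEquiv.orderOf_eq (MulAut.conj y) f
    · rw [← conj_pow]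
      exact pow_mem (Subgroup.mem_zpowers _) _
  · obtain ⟨he4, y, hy, h'⟩ := D.order_four_eq hz h
    exact hfin z hz (by rw [h, he4]) (Subgroup.mem_zpowers z)

end TorusData

end Cfsg.Agent.H8.SzSub
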