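import Cfsg.Agent.H8.SzNormalizer

/-!
Solubilizers in the Suzuki group over a field of prime degree.
-/

set_option autoImplicit false

namespace Cfsg.Agent.H8.SzSub

open Cfsg.Agent.H7

variable {F : Type*} [Field F] {m : ℕ} {H : SzHyp F m}

/-- The solubilizer of `x`. -/
def sol (x : Sz F m) : Set (Sz F m) := {y | Group.IsSolvable (Subgroup.closure ({x, y} : Set (Sz F m)))}

theorem torus_eq {U : Subgroup (Sz F m)} (hc : IsCyclic U) (hcard : Nat.card U ∈ SzHyp.toriOrders m) {a : Sz F m}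
    (ha : a ∈ U) (ha1 : a ≠ 1) (H : SzHyp F m) : a ∈ Xt H ⊤ ∧ U = Subgroup.centralizer {a} := by
  have hQ := H.not_conj_Q_of_coprime ha1 (H.toriOrders_coprime.1 _ hcard).2 (Subgroup.orderOf_dvd_natCard _ ha)
  obtain ⟨hc', hcard', -⟩ := H.centralizer_cases ha1 hQ
  exact ⟨⟨Subgroup.mem_top _, ha1, hQ⟩,
    (H.partition a ha1).unique ⟨Or.inr ⟨hc, hcard⟩, ha⟩ ⟨Or.inr ⟨hc', hcard'⟩, mem_centralizer_self a⟩⟩

theorem torus_conj {a b : Sz F m} (ha : a ∈ Xt H ⊤) (hb : b ∈ Xt H ⊤)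
    (h : Nat.card (Subgroup.centralizer {a}) = Nat.card (Subgroup.centralizer {b})) :
    ∃ g, Subgroup.centralizer {b} = cj g (Subgroup.centralizer {a}) := by
  obtain ⟨r, hr, hrd⟩ := Nat.exists_prime_and_dvd (n := Nat.card (Subgroup.centralizer {a}))
    ((H.toriOrders_coprime.1 _ (H.centralizer_cases ha.2.1 ha.2.2).2.1).1.ne')
  have := cls_of_common_prime H ha hb hr (by rwa [inf_top_eq]) (by rwa [inf_top_eq, ← h])
  obtain ⟨g, -, hg⟩ := cls_conj H ha this
  exact ⟨g, hg⟩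

theorem NC_conj {a b g : Sz F m} (h : Subgroup.centralizer {b} = cj g (Subgroup.centralizer {a})) :
    NC b = cj g (NC a) := by
  show _ = (Subgroup.normalizer _).map _
  rw [Subgroup.map_equiv_normalizer_eq _ (MulAut.conj g), NC, h]

theorem data_split (H : SzHyp F m) : ∃ x₀ f, TorusData H x₀ f 2 ∧
    Nat.card (Subgroup.centralizer {x₀}) = 2 ^ (2 * m + 1) - 1 := by
  haveI := H.finite_Sz
  obtain ⟨k, hk⟩ := H.exists_unit_ne_one
  have hC := H.centralizer_ds hk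
  have hd1 : H.ds k ≠ 1 := fun e => hk (H.ds_inj (e.trans H.ds_one.symm))
  have hx : H.ds k ∈ Xt H ⊤ := ⟨Subgroup.mem_top _, hd1, H.not_conj_Q_of_coprime (n := 2 ^ (2 * m + 1) - 1) hd1
    (Nat.Even.sub_odd Nat.one_le_two_pow (by simp [Nat.even_pow]) odd_one)
    (by rw [← H.card_T]; exact Subgroup.orderOf_dvd_natCard _ ⟨k, rfl⟩)⟩
  have hws : H.ws ∈ Subgroup.normalizer (H.T : Set (Sz F m)) := by
    rw [Subgroup.mem_normalizer_iff]
    intro h
    constructor
    · rintro ⟨l, rfl⟩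
      exact ⟨l⁻¹, by rw [H.ws_inv]; exact (H.ws_ds_ws l).symm⟩
    · rintro ⟨l, hl⟩
      refine ⟨l⁻¹, ?_⟩
      show H.ds l⁻¹ = h
      rw [← H.ws_ds_ws, show H.ds l = H.ws * h * H.ws⁻¹ from hl, H.ws_inv]
      simp only [← mul_assoc, H.ws_mul_self, one_mul]
      rw [mul_assoc, H.ws_mul_self, mul_one]
  have hord : orderOf H.ws = 2 := by
    refine orderOf_eq_prime (by rw [sq]; exact H.ws_mul_self) ?_
    exact fun e => H.ws_notMem_B (e ▸ one_mem _)
  have hwsT : H.ws ∉ H.T := fun ⟨l, hl⟩ => H.ws_notMem_B (hl ▸ H.ds_mem_B l)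
  refine ⟨H.ds k, H.ws, ⟨hx, by rw [NC, hC]; exact hws, hord, Or.inl rfl, ?_⟩, by rw [hC, H.card_T]⟩
  rw [NC, hC]
  refine le_antisymm ?_ ?_
  · have := card_normalizer_T_inf_le H (⊤ : Subgroup (Sz F m))
    rwa [top_inf_eq, inf_top_eq] at this
  · have hsub : (H.T : Set (Sz F m)) ∪ (fun y => H.ws * y) '' (H.T : Set (Sz F m)) ⊆
        (Subgroup.normalizer (H.T : Set (Sz F m)) : Set (Sz F m)) := by
      rintro y (hy | ⟨y', hy, rfl⟩)
      · exact Subgroup.le_normalizer hy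
      · exact mul_mem hws (Subgroup.le_normalizer hy)
    have hdisj : Disjoint (H.T : Set (Sz F m)) ((fun y => H.ws * y) '' (H.T : Set (Sz F m))) := by
      rw [Set.disjoint_right]
      rintro _ ⟨y, hy, rfl⟩ h
      exact hwsT (by simpa using H.T.mul_mem h (H.T.inv_mem hy))
    have := Set.ncard_le_ncard hsub
    rw [Set.ncard_union_eq hdisj, Set.ncard_image_of_injective _ (fun _ _ e => mul_left_cancel e)] at this
    simp only [← Nat.card_coe_set_eq, SetLike.coe_sort_coe] at this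
    omega

theorem data_of_ell (H : SzHyp F m) {x : Sz F m} (hx : x ^ ((2 ^ (2 * m + 1)) ^ 2 + 1) = 1) (h1 : x ≠ 1)
    (hN : Nat.card (NC x) = 4 * Nat.card (Subgroup.centralizer {x})) : ∃ f, TorusData H x f 4 := by
  classical
  haveI := H.finite_Sz
  haveI : Fact (Nat.Prime 2) := ⟨Nat.prime_two⟩
  have hodd : Odd ((2 ^ (2 * m + 1)) ^ 2 + 1) := Even.add_one (by simp [Nat.even_pow])
  have hxt : x ∈ Xt H ⊤ := ⟨Subgroup.mem_top _, h1,
    H.not_conj_Q_of_coprime h1 hodd (orderOf_dvd_of_pow_eq_one hx)⟩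
  obtain ⟨hoddU, hcomm, -, -⟩ := part_facts H hxt
  obtain ⟨S, hS⟩ := Sylow.exists_subgroup_card_pow_prime (G := NC x) 2 (n := 2) (hN ▸ dvd_mul_right 4 _)
  have hex : ∃ s ∈ S, orderOf s = 4 := by
    by_contra hc
    push Not at hc
    have hsq : ∀ s ∈ S, s * s = 1 := fun s hs => by
      have h4 : orderOf s ∣ 2 ^ 2 := hS ▸ Subgroup.orderOf_dvd_natCard S hs
      obtain ⟨j, hj2, hj⟩ := (Nat.dvd_prime_pow Nat.prime_two).1 h4
      have hj' : j ≠ 2 := fun e => hc s hs (by rw [hj, e]; norm_num)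
      rw [← sq, ← orderOf_dvd_iff_pow_eq_one, hj]
      exact (pow_dvd_pow 2 (show j ≤ 1 by omega)).trans (by norm_num)
    have h2 : 2 < (S : Set (NC x)).ncard := by rw [← Nat.card_coe_set_eq, SetLike.coe_sort_coe, hS]; norm_num
    obtain ⟨a, ha, b, hb, c, hc', hab, hac, hbc⟩ := (Set.two_lt_ncard (hs := Set.toFinite _)).1 h2
    obtain ⟨i, j, hi, hj, hi1, hj1, hij⟩ : ∃ i j, i ∈ S ∧ j ∈ S ∧ i ≠ 1 ∧ j ≠ 1 ∧ i ≠ j := by
      rcases eq_or_ne a 1 with rfl | ha1
      · exact ⟨b, c, hb, hc', hab.symm, hac.symm, hbc⟩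
      · rcases eq_or_ne b 1 with rfl | hb1
        · exact ⟨a, c, ha, hc', ha1, hbc.symm, hac⟩
        · exact ⟨a, b, ha, hb, ha1, hb1, hab⟩
    have val : ∀ s ∈ S, s ≠ 1 → (s.1 ≠ 1 ∧ s.1 * s.1 = 1) := fun s hs hs1 =>
      ⟨fun e => hs1 (Subtype.ext e), congrArg Subtype.val (hsq s hs)⟩
    obtain ⟨hi1', hii⟩ := val i hi hi1
    obtain ⟨hj1', hjj⟩ := val j hj hj1
    have hij1 : i * j ≠ 1 := fun e => hij (by
      rw [eq_inv_of_mul_eq_one_left e, inv_eq_of_mul_eq_one_right (hsq j hj)])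
    obtain ⟨hk1, hkk⟩ := val (i * j) (mul_mem hi hj) hij1
    have e1 := (inverts H hxt hi1' hii i.2 (mem_centralizer_self x)).1
    have e2 := (inverts H hxt hj1' hjj j.2 (mem_centralizer_self x)).1
    refine (inverts H hxt hk1 hkk (i * j).2 (mem_centralizer_self x)).2 ?_
    rw [Subgroup.mem_centralizer_singleton_iff, Subgroup.coe_mul]
    have e3 : j.1 * x = x⁻¹ * j.1 := by
      calc j.1 * x = j.1 * x * j.1 * j.1 := by rw [mul_assoc (j.1 * x), hjj, mul_one]
        _ = _ := by rw [e2]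
    have e4 : i.1 * x⁻¹ = x * i.1 := by
      rw [← e1, ← mul_assoc, ← mul_assoc, hii, one_mul]
    rw [mul_assoc, e3, ← mul_assoc, e4, mul_assoc]
  obtain ⟨s, -, hs⟩ := hex
  exact ⟨s.1, hxt, s.2, by rw [Subgroup.orderOf_coe]; exact hs, Or.inr rfl, hN⟩

/-- Representatives of the three classes of tori. -/
theorem exists_data (H : SzHyp F m) : ∃ xT fT xP fP xM fM,
    TorusData H xT fT 2 ∧ TorusData H xP fP 4 ∧ TorusData H xM fM 4 ∧
      Nat.card (Subgroup.centralizer {xT}) = 2 ^ (2 * m + 1) - 1 ∧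
      Nat.card (Subgroup.centralizer {xP}) = 2 ^ (2 * m + 1) + 2 ^ (m + 1) + 1 ∧
      Nat.card (Subgroup.centralizer {xM}) = 2 ^ (2 * m + 1) - 2 ^ (m + 1) + 1 := by
  obtain ⟨xT, fT, DT, eT⟩ := data_split H
  obtain ⟨x, y, hx, hy, ex, ey, nx, ny⟩ := H.exists_ell_tori
  obtain ⟨fP, DP⟩ := data_of_ell H hx.1 hx.2 nx
  obtain ⟨fM, DM⟩ := data_of_ell H hy.1 hy.2 ny
  obtain ⟨-, hle⟩ := suzuki_number_identity m
  exact ⟨xT, fT, x, fP, y, fM, DT, DP, DM, eT, ex, by rw [ey]; omega⟩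

theorem torus_cases (H : SzHyp F m) {xT xP xM : Sz F m} {fT fP fM : Sz F m}
    (DT : TorusData H xT fT 2) (DP : TorusData H xP fP 4) (DM : TorusData H xM fM 4)
    (eT : Nat.card (Subgroup.centralizer {xT}) = 2 ^ (2 * m + 1) - 1)
    (eP : Nat.card (Subgroup.centralizer {xP}) = 2 ^ (2 * m + 1) + 2 ^ (m + 1) + 1)
    (eM : Nat.card (Subgroup.centralizer {xM}) = 2 ^ (2 * m + 1) - 2 ^ (m + 1) + 1)
    {a : Sz F m} (ha : a ∈ Xt H ⊤) :
    ∃ x₀ f e, TorusData H x₀ f e ∧ (x₀ = xT ∨ x₀ = xP ∨ x₀ = xM) ∧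
      ∃ g, Subgroup.centralizer {a} = cj g (Subgroup.centralizer {x₀}) := by
  rcases (H.centralizer_cases ha.2.1 ha.2.2).2.1 with h | h | h
  · exact ⟨xT, fT, 2, DT, Or.inl rfl, torus_conj DT.hx ha (eT.trans h.symm)⟩
  · exact ⟨xP, fP, 4, DP, Or.inr (Or.inl rfl), torus_conj DP.hx ha (eP.trans h.symm)⟩
  · exact ⟨xM, fM, 4, DM, Or.inr (Or.inr rfl), torus_conj DM.hx ha (eM.trans (Set.mem_singleton_iff.1 h).symm)⟩

theorem TorusData.solvable {x₀ f : Sz F m} {e : ℕ} (D : TorusData H x₀ f e) : Group.IsSolvable (NC x₀) := by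
  haveI := H.finite_Sz
  haveI : Fact (Nat.Prime 2) := ⟨Nat.prime_two⟩
  obtain ⟨-, hcomm, -, -⟩ := part_facts H D.hx
  set U := (Subgroup.centralizer {x₀}).subgroupOf (NC x₀) with hU
  haveI : U.Normal := Subgroup.normal_in_normalizer
  haveI : Group.IsSolvable U := Group.isSolvable_of_comm fun a b =>
    Subtype.ext (Subtype.ext (hcomm a.1.1 a.2 b.1.1 b.2))
  have hq : IsPGroup 2 (NC x₀ ⧸ U) := by
    obtain ⟨j, hj, -⟩ := D.e_two_pow
    refine IsPGroup.of_card (n := j) ?_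
    rw [← Subgroup.index_eq_card, ← hj]
    have h := U.card_mul_index
    rw [Nat.card_congr (Subgroup.subgroupOfEquivOfLe (Subgroup.le_normalizer :
      Subgroup.centralizer {x₀} ≤ NC x₀)).toEquiv, D.hcard, mul_comm e] at h
    exact Nat.eq_of_mul_eq_mul_left Nat.card_pos h
  haveI := hq.isNilpotent
  exact Group.isSolvable_of_ker_le_range U.subtype (QuotientGroup.mk' U)
    (by rw [QuotientGroup.ker_mk', Subgroup.range_subtype])

theorem solvable_of_le {M N : Subgroup (Sz F m)} (h : M ≤ N) (hN : Group.IsSolvable N) : Group.IsSolvable M :=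
  Group.isSolvable_of_isSolvable_injective (f := Subgroup.inclusion h) (Subgroup.inclusion_injective h)

theorem solvable_cj {N : Subgroup (Sz F m)} (g : Sz F m) (hN : Group.IsSolvable N) : Group.IsSolvable (cj g N) :=
  Group.isSolvable_of_surjective (f := ((Subgroup.equivMapOfInjective N (MulAut.conj g).toMonoidHom
    (MulAut.conj g).injective) : N →* cj g N)) (MulEquiv.surjective _)

theorem mem_sol_of_le {x y : Sz F m} {N : Subgroup (Sz F m)} (hN : Group.IsSolvable N) (hx : x ∈ N) (hy : y ∈ N) :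
    y ∈ sol x :=
  solvable_of_le ((Subgroup.closure_le N).2 (Set.insert_subset hx (Set.singleton_subset_iff.2 hy))) hN

theorem mem_sol_stab (H : SzHyp F m) {x y : Sz F m} {p : Projectivization F (Fin 4 → F)} (hp : p ∈ suzukiOvoid F m)
    (hx : x • p = p) (hy : y • p = p) : y ∈ sol x := by
  obtain ⟨g, rfl⟩ : ∃ g : Sz F m, g • pinf F = p := by rw [← H.orbit_inf] at hp; exact hp
  exact mem_sol_of_le (solvable_cj g H.solvable_B)
    (by rw [mem_cj, MulAction.mem_stabilizer_iff, mul_smul, mul_smul, hx, inv_smul_smul])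
    (by rw [mem_cj, MulAction.mem_stabilizer_iff, mul_smul, mul_smul, hy, inv_smul_smul])

/-- A soluble two-generated subgroup fixes a point or normalises a torus. -/
theorem sol_cases (H : SzHyp F m) (hp : (2 * m + 1).Prime) {x y : Sz F m} (hx : x ≠ 1) (h : y ∈ sol x) :
    (∃ p ∈ suzukiOvoid F m, x • p = p ∧ y • p = p) ∨ ∃ a ∈ Xt H ⊤, x ∈ NC a ∧ y ∈ NC a := by
  classical
  haveI := H.finite_Sz
  haveI := H.fin
  set D := Subgroup.closure ({x, y} : Set (Sz F m)) with hD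
  have hsol : Group.IsSolvable D := h
  have hxD : x ∈ D := Subgroup.subset_closure (Or.inl rfl)
  have hyD : y ∈ D := Subgroup.subset_closure (Or.inr rfl)
  have hne : D ≠ ⊥ := fun e => hx (Subgroup.mem_bot.1 (e ▸ hxD))
  have hA : ¬ NoAbNormal D := by
    intro hA
    obtain ⟨g, k, K, hk, hdvd, hK, hg⟩ := classify H hA hne
    obtain hk' | hk' := hp.eq_one_or_self_of_dvd _ hdvd
    · omega
    obtain rfl : k = m := by omega
    have hKtop : K = ⊤ := subfield_eq_of_card hK (by rw [← H.card]; exact Nat.card_congr Subfield.topEquiv.toEquiv)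
    rw [hKtop, SzK_top H] at hg
    haveI := solvable_cj g hsol
    haveI : Group.IsSolvable (Sz F k) := Group.isSolvable_of_surjective
      (f := (cj g D).subtype) (fun z => ⟨⟨z, hg ▸ Subgroup.mem_top z⟩, rfl⟩)
    haveI := H.nontrivial_Sz
    exact (Group.IsSolvable.commutator_lt_top_of_nontrivial (G := Sz F k)).ne H.perfect
  unfold NoAbNormal at hA
  push Not at hA
  obtain ⟨A, hAD, hn, hc, hne'⟩ := hA
  obtain ⟨a, ha, ha1⟩ := (Subgroup.bot_or_exists_ne_one A).resolve_left hne'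
  by_cases hQ : ∃ z, z * a * z⁻¹ ∈ H.Q
  · left
    obtain ⟨z, hz⟩ := hQ
    have hza : z * a * z⁻¹ ≠ 1 := fun e => ha1 (conj_eq_one_iff.1 e)
    have key : ∀ g ∈ D, g • (z⁻¹ • pinf F) = z⁻¹ • pinf F := by
      intro g hg
      have hga : z * (g * a * g⁻¹) * z⁻¹ ∈ H.Q := H.centralizer_le_Q hz hza (by
        rw [Subgroup.mem_centralizer_singleton_iff, conj_mul, conj_mul, hc _ (hn g hg a ha) a ha])
      have hgB : z * g * z⁻¹ ∈ H.B := H.mem_B_of_conj_mem_Q hz hza (by convert hga using 1; group)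
      rw [MulAction.mem_stabilizer_iff, mul_smul, mul_smul] at hgB
      exact smul_left_cancel z (hgB.trans (smul_inv_smul _ _).symm)
    exact ⟨z⁻¹ • pinf F, SzHyp.smul_mem _ inf_mem, key x hxD, key y hyD⟩
  · right
    obtain ⟨-, -, heq⟩ := H.centralizer_cases ha1 hQ
    have hN : D ≤ NC a := fun g hg => by
      have hmem : g * a * g⁻¹ ∈ Subgroup.centralizer {a} :=
        Subgroup.mem_centralizer_singleton_iff.2 (hc _ (hn g hg a ha) a ha)
      rw [NC, Subgroup.mem_normalizer_iff_map_conj_eq]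
      show (Subgroup.centralizer {a}).map (MulAut.conj g).toMonoidHom = _
      rw [map_conj_centralizer, heq _ hmem (fun e => ha1 (conj_eq_one_iff.1 e))]
    exact ⟨a, ⟨Subgroup.mem_top _, ha1, hQ⟩, hN hxD, hN hyD⟩

end Cfsg.Agent.H8.SzSub
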