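import Cfsg.Agent.H8.SzSolub

/-!
The sizes of the solubilizers in the Suzuki group over a field of prime degree.
-/

set_option autoImplicit false

namespace Cfsg.Agent.H8.SzSub

open Cfsg.Agent.H7

variable {F : Type*} [Field F] {m : ℕ} {H : SzHyp F m}

/-- The conjugacy of involutions and of elements of order four of `Q`. -/
theorem conj_involution (H : SzHyp F m) {x z : Sz F m} (hx : orderOf x = 2) (hz : orderOf z = 2) :
    ∃ g, g * x * g⁻¹ = z := by
  haveI := H.finite_Sz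
  have red : ∀ x : Sz F m, orderOf x = 2 → ∃ g, ∃ b : Fˣ, g * x * g⁻¹ = H.us 0 (b : F) := by
    intro x hx
    obtain ⟨g, hg⟩ := H.exists_conj_mem_Q (g := x) ⟨1, by rw [pow_one, ← hx, pow_orderOf_eq_one]⟩
    have hsq : g * x * g⁻¹ * (g * x * g⁻¹) = 1 := by
      rw [conj_mul, ← sq, ← hx, pow_orderOf_eq_one, mul_one, mul_inv_cancel]
    obtain ⟨b, hb⟩ := mem_Q0_of_sq H hg hsq
    have hb0 : b ≠ 0 := fun e => by
      rw [e, H.us_zero, conj_eq_one_iff] at hb
      rw [hb, orderOf_one] at hx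
      omega
    exact ⟨g, Units.mk0 b hb0, hb⟩
  obtain ⟨g, b, hg⟩ := red x hx
  obtain ⟨g', b', hg'⟩ := red z hz
  obtain ⟨k, hk⟩ := H.normBij_surjective (b' / b)
  refine ⟨g'⁻¹ * H.ds k * g, ?_⟩
  calc g'⁻¹ * H.ds k * g * x * (g'⁻¹ * H.ds k * g)⁻¹
      = g'⁻¹ * (H.ds k * (g * x * g⁻¹) * (H.ds k)⁻¹) * g' := by group
    _ = g'⁻¹ * (g' * z * g'⁻¹) * g' := by
        rw [hg, hg', H.ds_us_conj, mul_zero, hk]
        congr 3
        rw [Units.val_div_eq_div_val, div_mul_cancel₀ _ b.ne_zero]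
    _ = z := by group

theorem ncard_range_AS (H : SzHyp F m) (b : F) :
    (∃ c : F, b = th m c + c) ∨ ∃ c : F, b = th m c + c + 1 := by
  classical
  haveI := H.fin
  let f : F →+ F := AddMonoidHom.mk' (fun c => th m c + c) (fun a c => by show th m (a + c) + (a + c) = _; rw [H.th_add]; abel)
  have hker : Nat.card f.ker = 2 := by
    have hset : (f.ker : Set F) = {0, 1} := by
      ext c
      simp only [SetLike.mem_coe, AddMonoidHom.mem_ker, Set.mem_insert_iff, Set.mem_singleton_iff]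
      show th m c + c = 0 ↔ _
      rw [H.add_eq_zero_iff]
      constructor
      · intro e
        have e' : c ^ 2 = c := by rw [← H.th_th c, e, e]
        rcases eq_or_ne c 0 with h | h
        · exact Or.inl h
        · rw [sq] at e'
          exact Or.inr ((mul_eq_right₀ h).1 e')
      · rintro (rfl | rfl) <;> simp
    rw [← SetLike.coe_sort_coe, hset, Nat.card_coe_set_eq, Set.ncard_pair zero_ne_one]
  have hcard := f.ker.card_mul_index
  rw [hker, AddSubgroup.index_ker] at hcard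
  have h1 : Function.Injective fun r : F => r + 1 := fun _ _ e => add_right_cancel e
  have hdisj : Disjoint (f.range : Set F) ((fun r => r + 1) '' (f.range : Set F)) := by
    rw [Set.disjoint_right]
    rintro _ ⟨r, ⟨c, rfl⟩, rfl⟩ ⟨d, hd⟩
    refine H.th_add_self_add_one_ne (c + d) ?_
    have hd' : th m d + d = th m c + c + 1 := hd
    rw [H.th_add]
    linear_combination hd' + (th m c + c + 1) * H.two_eq
  have hU : (f.range : Set F) ∪ (fun r => r + 1) '' (f.range : Set F) = Set.univ := by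
    refine Set.eq_of_subset_of_ncard_le (Set.subset_univ _) ?_
    rw [Set.ncard_univ, Set.ncard_union_eq hdisj, Set.ncard_image_of_injective _ h1, ← Nat.card_coe_set_eq,
      SetLike.coe_sort_coe]
    omega
  have hb : b ∈ (f.range : Set F) ∪ (fun r => r + 1) '' (f.range : Set F) := hU ▸ Set.mem_univ b
  rcases hb with ⟨c, hc⟩ | ⟨_, ⟨c, rfl⟩, hc⟩
  · exact Or.inl ⟨c, hc.symm⟩
  · exact Or.inr ⟨c, hc.symm⟩

theorem conj_four (H : SzHyp F m) {x z : Sz F m} (hx : orderOf x = 4) (hz : orderOf z = 4) :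
    (∃ g, g * x * g⁻¹ = z) ∨ ∃ g, g * x⁻¹ * g⁻¹ = z := by
  haveI := H.finite_Sz
  have red : ∀ x : Sz F m, orderOf x = 4 → ∃ g, ∃ b : F, g * x * g⁻¹ = H.us 1 b := by
    intro x hx
    obtain ⟨g, hg⟩ := H.exists_conj_mem_Q (g := x) ⟨2, orderOf_dvd_iff_pow_eq_one.1 (by rw [hx]; norm_num)⟩
    obtain ⟨a, b, hab⟩ := hg
    have ha : a ≠ 0 := by
      intro e
      have h1 : orderOf (H.us a b) = 4 := by
        rw [← hab, show g * x * g⁻¹ = MulAut.conj g x from rfl, MulEquiv.orderOf_eq, hx]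
      have h2 : orderOf (H.us a b) ∣ 2 := orderOf_dvd_of_pow_eq_one (by rw [H.us_sq, e, mul_zero, H.us_zero])
      rw [h1] at h2
      omega
    refine ⟨H.ds (Units.mk0 a ha)⁻¹ * g,
      ((Units.mk0 a ha)⁻¹ : Fˣ).val * th m ((Units.mk0 a ha)⁻¹ : Fˣ).val * b, ?_⟩
    calc H.ds (Units.mk0 a ha)⁻¹ * g * x * (H.ds (Units.mk0 a ha)⁻¹ * g)⁻¹
        = H.ds (Units.mk0 a ha)⁻¹ * (g * x * g⁻¹) * (H.ds (Units.mk0 a ha)⁻¹)⁻¹ := by group
      _ = _ := by
        rw [hab, H.ds_us_conj]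
        congr 1
        rw [Units.val_inv_eq_inv_val, Units.val_mk0, inv_mul_cancel₀ ha]
  obtain ⟨g, b, hg⟩ := red x hx
  obtain ⟨g', b', hg'⟩ := red z hz
  have hc : ∀ c : F, H.us c 0 * H.us 1 b * (H.us c 0)⁻¹ = H.us 1 (b + (th m c + c)) := fun c => by
    rw [H.us_conj, mul_one, th_one, one_mul]
  rcases ncard_range_AS H (b + b') with ⟨c, hc'⟩ | ⟨c, hc'⟩
  · left
    refine ⟨g'⁻¹ * H.us c 0 * g, ?_⟩
    calc g'⁻¹ * H.us c 0 * g * x * (g'⁻¹ * H.us c 0 * g)⁻¹
        = g'⁻¹ * (H.us c 0 * (g * x * g⁻¹) * (H.us c 0)⁻¹) * g' := by group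
      _ = g'⁻¹ * (g' * z * g'⁻¹) * g' := by
          rw [hg, hg', hc, ← hc', ← add_assoc, H.add_self, zero_add]
      _ = z := by group
  · right
    refine ⟨g'⁻¹ * H.us c 0 * g, ?_⟩
    have hinv : g * x⁻¹ * g⁻¹ = H.us 1 (b + 1) := by
      rw [← conj_inv, hg, H.us_inv, th_one, mul_one]
    have hc1 : H.us c 0 * H.us 1 (b + 1) * (H.us c 0)⁻¹ = H.us 1 b' := by
      rw [H.us_conj, mul_one, th_one, one_mul]
      congr 1
      linear_combination -hc' + b * H.two_eq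
    calc g'⁻¹ * H.us c 0 * g * x⁻¹ * (g'⁻¹ * H.us c 0 * g)⁻¹
        = g'⁻¹ * (H.us c 0 * (g * x⁻¹ * g⁻¹) * (H.us c 0)⁻¹) * g' := by group
      _ = g'⁻¹ * (g' * z * g'⁻¹) * g' := by rw [hinv, hg', hc1]
      _ = z := by group

theorem not_conj_inv (H : SzHyp F m) {x g : Sz F m} (hx : orderOf x = 4) (h : g * x * g⁻¹ = x⁻¹) : False := by
  haveI := H.finite_Sz
  obtain ⟨c, hc⟩ := H.exists_conj_mem_Q (g := x) ⟨2, orderOf_dvd_iff_pow_eq_one.1 (by rw [hx]; norm_num)⟩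
  have hx1 : x ≠ 1 := fun e => by rw [e, orderOf_one] at hx; omega
  have hne : c * x * c⁻¹ ≠ 1 := fun e => hx1 (conj_eq_one_iff.1 e)
  have hmem : c * x * c⁻¹ ∈ (H.sylowQ : Subgroup (Sz F m)) := by rw [H.coe_sylowQ]; exact hc
  have h2 := (H.sylow_not_isConj_inv H.sylowQ hmem hne).1
    (isConj_iff.2 ⟨c * g * c⁻¹, by
      calc c * g * c⁻¹ * (c * x * c⁻¹) * (c * g * c⁻¹)⁻¹ = c * (g * x * g⁻¹) * c⁻¹ := by group
        _ = (c * x * c⁻¹)⁻¹ := by rw [h, conj_inv]⟩)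
  rw [show c * x * c⁻¹ = MulAut.conj c x from rfl, MulEquiv.orderOf_eq, hx] at h2
  omega

/-- The members of the normaliser of a torus which are conjugate to `x`. -/
def clN (x x₀ : Sz F m) : Set (Sz F m) := {z | z ∈ NC x₀ ∧ ∃ g, g * x * g⁻¹ = z}

/-- The elements moving infinity which together with `x` normalise a conjugate of a torus. -/
def part (H : SzHyp F m) (x x₀ : Sz F m) : Set (Sz F m) :=
  {y | y ∉ H.B ∧ ∃ g, g⁻¹ * x * g ∈ NC x₀ ∧ g⁻¹ * y * g ∈ NC x₀}

variable {x₀ f : Sz F m} {e : ℕ}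

theorem ncard_clN (D : TorusData H x₀ f e) {x : Sz F m} :
    (orderOf x = 2 → (clN x x₀).ncard = Nat.card (Subgroup.centralizer {x₀})) ∧
    (orderOf x = 4 → (clN x x₀).ncard = if e = 4 then Nat.card (Subgroup.centralizer {x₀}) else 0) := by
  haveI := H.finite_Sz
  have horb : ∀ f' : Sz F m, (f' = f ∨ f' = f⁻¹ ∨ f' = f ^ (e / 2)) →
      clN x x₀ = (fun y => y * f' * y⁻¹) '' (Subgroup.centralizer {x₀} : Set (Sz F m)) →
      (clN x x₀).ncard = Nat.card (Subgroup.centralizer {x₀}) := by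
    intro f' hf' h
    rw [h, Set.ncard_image_of_injOn (fun a ha b hb hab =>
      congrArg Subtype.val (D.conj_injective hf' (a₁ := ⟨a, ha⟩) (a₂ := ⟨b, hb⟩) hab)), ← Nat.card_coe_set_eq]
    rfl
  refine ⟨fun hx => ?_, fun hx => ?_⟩
  · obtain ⟨⟨-, hi1, hii⟩, hiN⟩ := D.invol
    have hio : orderOf (f ^ (e / 2)) = 2 := orderOf_eq_prime (by rw [sq]; exact hii) hi1
    refine horb _ (Or.inr (Or.inr rfl)) (Set.Subset.antisymm ?_ ?_)
    · rintro z ⟨hz, g, rfl⟩
      have hz2 : orderOf (g * x * g⁻¹) = 2 := by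
        rw [← hx]; exact MulEquiv.orderOf_eq (MulAut.conj g) x
      obtain ⟨y, hy, h⟩ := D.involution_eq hz (fun e => by rw [e, orderOf_one] at hz2; omega)
        (by rw [← sq, ← hz2, pow_orderOf_eq_one])
      exact ⟨y, hy, h.symm⟩
    · rintro _ ⟨y, hy, rfl⟩
      refine ⟨mul_mem (mul_mem (Subgroup.le_normalizer hy) hiN) (inv_mem (Subgroup.le_normalizer hy)), ?_⟩
      obtain ⟨g, hg⟩ := conj_involution H hx hio
      refine ⟨y * g, ?_⟩
      show y * g * x * (y * g)⁻¹ = y * f ^ (e / 2) * y⁻¹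
      rw [← hg]
      group
  · by_cases he : e = 4
    · rw [if_pos he]
      have hfo : orderOf f = 4 := D.hord.trans he
      obtain ⟨f', hf', g₀, hg₀⟩ : ∃ f', (f' = f ∨ f' = f⁻¹) ∧ ∃ g, g * x * g⁻¹ = f' := by
        rcases conj_four H hx hfo with ⟨g, hg⟩ | ⟨g, hg⟩
        · exact ⟨f, Or.inl rfl, g, hg⟩
        · exact ⟨f⁻¹, Or.inr rfl, g, by rw [← hg, conj_inv, inv_inv]⟩
      refine horb f' (hf'.imp_right Or.inl) (Set.Subset.antisymm ?_ ?_)
      · rintro z ⟨hz, g, rfl⟩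
        have hz4 : orderOf (g * x * g⁻¹) = 4 := by
          refine Eq.trans ?_ hx
          exact MulEquiv.orderOf_eq (MulAut.conj g) x
        obtain ⟨-, y, hy, h⟩ := D.order_four_eq hz hz4
        refine ⟨y, hy, ?_⟩
        show y * f' * y⁻¹ = g * x * g⁻¹
        have hbad : y * f'⁻¹ * y⁻¹ ≠ g * x * g⁻¹ := by
          intro hb
          refine not_conj_inv H (g := g₀⁻¹ * y⁻¹ * g) hx ?_
          calc g₀⁻¹ * y⁻¹ * g * x * (g₀⁻¹ * y⁻¹ * g)⁻¹ = g₀⁻¹ * y⁻¹ * (g * x * g⁻¹) * y * g₀ := by group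
            _ = g₀⁻¹ * f'⁻¹ * g₀ := by rw [← hb]; group
            _ = x⁻¹ := by rw [← hg₀]; group
        rcases hf' with rfl | rfl
        · rcases h with h | h
          · exact h.symm
          · exact absurd h.symm hbad
        · rw [inv_inv] at hbad
          rcases h with h | h
          · exact absurd h.symm hbad
          · exact h.symm
      · rintro _ ⟨y, hy, rfl⟩
        refine ⟨mul_mem (mul_mem (Subgroup.le_normalizer hy) ?_) (inv_mem (Subgroup.le_normalizer hy)), y * g₀, ?_⟩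
        · rcases hf' with rfl | rfl
          exacts [D.hf, inv_mem D.hf]
        · show y * g₀ * x * (y * g₀)⁻¹ = y * f' * y⁻¹
          rw [← hg₀]
          group
    · rw [if_neg he, Set.ncard_eq_zero, Set.eq_empty_iff_forall_notMem]
      rintro z ⟨hz, g, rfl⟩
      have hz4 : orderOf (g * x * g⁻¹) = 4 := by
        refine Eq.trans ?_ hx
        exact MulEquiv.orderOf_eq (MulAut.conj g) x
      exact he (D.order_four_eq hz hz4).1

theorem card_conjugators (x x₀ : Sz F m) [Finite (Sz F m)] :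
    Nat.card {g : Sz F m // g⁻¹ * x * g ∈ NC x₀} = Nat.card (Subgroup.centralizer {x}) * (clN x x₀).ncard := by
  classical
  have hch : ∀ z : clN x x₀, ∃ g, g⁻¹ * x * g = z.1 := fun z => by
    obtain ⟨-, g, hg⟩ := z.2
    exact ⟨g⁻¹, by rw [inv_inv]; exact hg⟩
  choose r hr using hch
  rw [← Nat.card_coe_set_eq, ← Nat.card_prod]
  refine (Nat.card_eq_of_bijective (fun p : Subgroup.centralizer {x} × clN x x₀ =>
    (⟨p.1.1 * r p.2, ?_⟩ : {g : Sz F m // g⁻¹ * x * g ∈ NC x₀})) ⟨?_, ?_⟩).symm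
  · have hc := Subgroup.mem_centralizer_singleton_iff.1 p.1.2
    have : (p.1.1 * r p.2)⁻¹ * x * (p.1.1 * r p.2) = p.2.1 := by
      calc _ = (r p.2)⁻¹ * (p.1.1⁻¹ * (x * p.1.1)) * r p.2 := by group
        _ = p.2.1 := by rw [← hc, inv_mul_cancel_left, hr]
    rw [this]
    exact p.2.2.1
  · rintro ⟨c, z⟩ ⟨c', z'⟩ h
    have h' : c.1 * r z = c'.1 * r z' := congrArg Subtype.val h
    have hc := Subgroup.mem_centralizer_singleton_iff.1 c.2
    have hc' := Subgroup.mem_centralizer_singleton_iff.1 c'.2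
    have hz : z = z' := by
      refine Subtype.ext ?_
      have e1 : (c.1 * r z)⁻¹ * x * (c.1 * r z) = z.1 := by
        calc _ = (r z)⁻¹ * (c.1⁻¹ * (x * c.1)) * r z := by group
          _ = z.1 := by rw [← hc, inv_mul_cancel_left, hr]
      have e2 : (c'.1 * r z')⁻¹ * x * (c'.1 * r z') = z'.1 := by
        calc _ = (r z')⁻¹ * (c'.1⁻¹ * (x * c'.1)) * r z' := by group
          _ = z'.1 := by rw [← hc', inv_mul_cancel_left, hr]
      rw [← e1, h', e2]
    subst hz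
    exact Prod.ext (Subtype.ext (mul_right_cancel h')) rfl
  · rintro ⟨g, hg⟩
    let z : clN x x₀ := ⟨g⁻¹ * x * g, hg, g⁻¹, by rw [inv_inv]⟩
    refine ⟨(⟨g * (r z)⁻¹, ?_⟩, z), Subtype.ext (inv_mul_cancel_right _ _)⟩
    have hz : (r z)⁻¹ * x * r z = g⁻¹ * x * g := hr z
    rw [Subgroup.mem_centralizer_singleton_iff]
    calc g * (r z)⁻¹ * x = g * ((r z)⁻¹ * x * r z) * (r z)⁻¹ := by group
      _ = x * (g * (r z)⁻¹) := by rw [hz]; group

/-- The torus normalised by `x` and an element moving infinity is unique. -/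
theorem part_unique (H : SzHyp F m) {x y : Sz F m} (hxQ : x ∈ H.Q) (hx1 : x ≠ 1) (hy : y ∉ H.B) {x₀ f x₀' f' : Sz F m}
    {e e' : ℕ} (D : TorusData H x₀ f e) (D' : TorusData H x₀' f' e') {g g' : Sz F m}
    (h1 : g⁻¹ * x * g ∈ NC x₀) (h2 : g⁻¹ * y * g ∈ NC x₀) (h1' : g'⁻¹ * x * g' ∈ NC x₀')
    (h2' : g'⁻¹ * y * g' ∈ NC x₀') :
    cj g (Subgroup.centralizer {x₀}) = cj g' (Subgroup.centralizer {x₀'}) := by
  classical
  haveI := H.finite_Sz
  haveI : Fact (Nat.Prime 2) := ⟨Nat.prime_two⟩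
  set E := Subgroup.closure ({x, y} : Set (Sz F m)) with hE
  obtain ⟨d, hdE, hdo, hd1⟩ : ∃ d ∈ E, Odd (orderOf d) ∧ d ≠ 1 := by
    by_contra hc
    push Not at hc
    have hE2 : IsPGroup 2 E := by
      rw [IsPGroup.iff_card]
      refine ⟨_, Nat.eq_prime_pow_of_unique_prime_dvd Nat.card_pos.ne' fun {r} hr hrd => ?_⟩
      by_contra hr2
      haveI : Fact r.Prime := ⟨hr⟩
      obtain ⟨d, hd⟩ := exists_prime_orderOf_dvd_card' r hrd
      rw [← Subgroup.orderOf_coe] at hd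
      have := hc d.1 d.2 (hd ▸ hr.odd_of_ne_two hr2)
      rw [this, orderOf_one] at hd
      exact hr.one_lt.ne hd
    obtain ⟨P, hP⟩ := hE2.exists_le_sylow
    have hxP : x ∈ (P : Subgroup (Sz F m)) := hP (Subgroup.subset_closure (Or.inl rfl))
    have := H.sylow_eq_of_mem hx1 hxP (P' := H.sylowQ) (by rw [H.coe_sylowQ]; exact hxQ)
    rw [H.coe_sylowQ] at this
    exact hy (H.Q_le_B (this ▸ hP (Subgroup.subset_closure (Or.inr rfl))))
  have key : ∀ {x₀ f : Sz F m} {e : ℕ} {g : Sz F m}, TorusData H x₀ f e → g⁻¹ * x * g ∈ NC x₀ →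
      g⁻¹ * y * g ∈ NC x₀ → Subgroup.centralizer {d} = cj g (Subgroup.centralizer {x₀}) := by
    intro x₀ f e g D h1 h2
    have hsub : E ≤ cj g (NC x₀) :=
      (Subgroup.closure_le _).2 (Set.insert_subset (mem_cj.2 h1) (Set.singleton_subset_iff.2 (mem_cj.2 h2)))
    have hd' := mem_cj.1 (hsub hdE)
    have hod : orderOf (g⁻¹ * d * g) = orderOf d := by simpa using MulEquiv.orderOf_eq (MulAut.conj g⁻¹) d
    have hU := D.mem_of_odd hd' (hod ▸ hdo)
    obtain ⟨-, -, heq, -⟩ := part_facts H D.hx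
    rw [← heq _ hU (fun e => hd1 (by calc d = g * (g⁻¹ * d * g) * g⁻¹ := by group
                                          _ = 1 := by rw [e]; group)), cj, map_conj_centralizer]
    congr 2
    group
  rw [← key D h1 h2, ← key D' h1' h2']

theorem ncard_part (D : TorusData H x₀ f e) {x : Sz F m} (hxQ : x ∈ H.Q) (hx1 : x ≠ 1)
    (hx : orderOf x = 2 ∨ orderOf x = 4) :
    (part H x x₀).ncard * (e * Nat.card (Subgroup.centralizer {x₀})) =
      Nat.card (Subgroup.centralizer {x}) * (clN x x₀).ncard *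
        (e * (Nat.card (Subgroup.centralizer {x₀}) - 1)) := by
  classical
  haveI := H.finite_Sz
  set G' := {g : Sz F m // g⁻¹ * x * g ∈ NC x₀}
  have hP1 : ∀ g : G', Nat.card {y : Sz F m // y ∉ H.B ∧ g.1⁻¹ * y * g.1 ∈ NC x₀} =
      e * (Nat.card (Subgroup.centralizer {x₀}) - 1) := by
    rintro ⟨g, hg⟩
    have hset : {y : Sz F m | y ∉ H.B ∧ g⁻¹ * y * g ∈ NC x₀} =
        (cj g (NC x₀) : Set (Sz F m)) \ (H.B : Set (Sz F m)) := by
      ext y
      simp only [Set.mem_sdiff, Set.mem_setOf_eq, SetLike.mem_coe, mem_cj, and_comm]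
    have hinter : (↑(cj g (NC x₀)) : Set (Sz F m)) ∩ H.B = ↑(cj g (NC x₀ ⊓ MulAction.stabilizer (Sz F m) (g⁻¹ • pinf F))) := by
      ext y
      simp only [Set.mem_inter_iff, SetLike.mem_coe, mem_cj, Subgroup.mem_inf, MulAction.mem_stabilizer_iff, mul_smul,
        smul_inv_smul, smul_left_cancel_iff]
    have hxn : orderOf x ∣ 2 ^ 2 := by rcases hx with h | h <;> rw [h] <;> norm_num
    have hxo : orderOf (g⁻¹ * x * g) = orderOf x := by simpa using MulEquiv.orderOf_eq (MulAut.conj g⁻¹) x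
    have hg1 : g⁻¹ * x * g ≠ 1 := fun e' => hx1 (by
      rw [← orderOf_eq_one_iff, ← hxo, e', orderOf_one])
    have hfix : (g⁻¹ * x * g) • (g⁻¹ • pinf F) = g⁻¹ • pinf F := by
      rw [mul_smul, mul_smul, smul_inv_smul, MulAction.mem_stabilizer_iff.1 (H.Q_le_B hxQ)]
    have hk := le_antisymm (D.stab_card_le hg hg1 (hxo ▸ hxn) (SzHyp.smul_mem _ inf_mem) hfix)
      (D.card_le_stab hg hg1 (hxo ▸ hxn) (hxo ▸ hx) (SzHyp.smul_mem _ inf_mem) hfix)
    show Nat.card ↥({y : Sz F m | y ∉ H.B ∧ g⁻¹ * y * g ∈ NC x₀}) = _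
    have h2 := Set.ncard_inter_add_ncard_sdiff_eq_ncard (↑(cj g (NC x₀)) : Set (Sz F m)) (H.B : Set (Sz F m))
    rw [hinter, ← Nat.card_coe_set_eq, SetLike.coe_sort_coe, card_cj, hk,
      ← Nat.card_coe_set_eq (s := (↑(cj g (NC x₀)) : Set (Sz F m))), SetLike.coe_sort_coe, card_cj, D.hcard] at h2
    rw [hset, Nat.card_coe_set_eq, Nat.mul_sub_one]
    omega
  have h1 : Nat.card (Σ g : G', {y : Sz F m // y ∉ H.B ∧ g.1⁻¹ * y * g.1 ∈ NC x₀}) =
      Nat.card (Subgroup.centralizer {x}) * (clN x x₀).ncard * (e * (Nat.card (Subgroup.centralizer {x₀}) - 1)) := by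
    haveI := Fintype.ofFinite G'
    rw [Nat.card_sigma, Finset.sum_congr rfl (fun g _ => hP1 g), Finset.sum_const, Finset.card_univ, smul_eq_mul,
      ← Nat.card_eq_fintype_card, card_conjugators]
  rw [← h1, ← D.hcard, ← Nat.card_coe_set_eq, ← Nat.card_prod]
  have hch : ∀ y : part H x x₀, ∃ g, g⁻¹ * x * g ∈ NC x₀ ∧ g⁻¹ * y.1 * g ∈ NC x₀ := fun y => y.2.2
  choose r hr1 hr2 using hch
  have hconj : ∀ (n : NC x₀) (w g : Sz F m), g⁻¹ * w * g ∈ NC x₀ → (g * n.1)⁻¹ * w * (g * n.1) ∈ NC x₀ :=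
    fun n w g h => by
      rw [show (g * n.1)⁻¹ * w * (g * n.1) = n.1⁻¹ * (g⁻¹ * w * g) * n.1 by group]
      exact (NC x₀).mul_mem ((NC x₀).mul_mem ((NC x₀).inv_mem n.2) h) n.2
  refine Nat.card_eq_of_bijective (fun p : part H x x₀ × NC x₀ =>
    (⟨⟨r p.1 * p.2.1, hconj p.2 x _ (hr1 p.1)⟩, ⟨p.1.1, p.1.2.1, hconj p.2 p.1.1 _ (hr2 p.1)⟩⟩ :
      Σ g : G', {y : Sz F m // y ∉ H.B ∧ g.1⁻¹ * y * g.1 ∈ NC x₀})) ⟨?_, ?_⟩
  · rintro ⟨y, n⟩ ⟨y', n'⟩ h
    have hy : y = y' := Subtype.ext (congrArg (fun s : Σ g : G', {y : Sz F m // y ∉ H.B ∧ g.1⁻¹ * y * g.1 ∈ NC x₀} => s.2.1) h)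
    subst hy
    have hn : r y * n.1 = r y * n'.1 := congrArg (fun s : Σ g : G', {y : Sz F m // y ∉ H.B ∧ g.1⁻¹ * y * g.1 ∈ NC x₀} => s.1.1) h
    exact Prod.ext rfl (Subtype.ext (mul_left_cancel hn))
  · rintro ⟨⟨g, hg⟩, ⟨y, hyB, hy⟩⟩
    set yy : part H x x₀ := ⟨y, hyB, g, hg, hy⟩ with hyy
    have hn : (r yy)⁻¹ * g ∈ NC x₀ := by
      rw [NC, Subgroup.mem_normalizer_iff_map_conj_eq]
      show cj ((r yy)⁻¹ * g) (Subgroup.centralizer {x₀}) = _
      rw [← cj_cj, part_unique H hxQ hx1 hyB D D hg hy (hr1 yy) (hr2 yy), cj_cj, inv_mul_cancel, cj_one]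
    refine ⟨(yy, ⟨_, hn⟩), ?_⟩
    have e1 : r yy * ((r yy)⁻¹ * g) = g := mul_inv_cancel_left _ _
    refine Sigma.ext (Subtype.ext e1) ?_
    refine (Subtype.heq_iff_coe_eq fun w => ?_).2 rfl
    show (w ∉ H.B ∧ (r yy * ((r yy)⁻¹ * g))⁻¹ * w * (r yy * ((r yy)⁻¹ * g)) ∈ NC x₀) ↔ _
    rw [e1]

theorem card_centralizer_us (H : SzHyp F m) {a b : F} (ha : a ≠ 0) :
    Nat.card (Subgroup.centralizer {H.us a b}) = 2 * 2 ^ (2 * m + 1) := by
  classical
  haveI := H.fin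
  have hne : H.us a b ≠ 1 := by rw [← H.us_zero, Ne, H.us_inj]; exact fun h => ha h.1
  have hmem : ∀ c d : F, H.us c d ∈ Subgroup.centralizer {H.us a b} ↔ c = 0 ∨ c = a := by
    intro c d
    rw [Subgroup.mem_centralizer_singleton_iff, H.commute_us]
    constructor
    · intro h
      rcases eq_or_ne c 0 with hc | hc
      · exact Or.inl hc
      · right
        have h3 : th m (c / a) = c / a := by
          rw [th, div_pow, ← th, ← th, div_eq_div_iff (show th m a ≠ 0 from pow_ne_zero _ ha) ha]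
          linear_combination h
        have h2 : (c / a) ^ 2 = c / a := by rw [← H.th_th, h3, h3]
        rw [sq] at h2
        exact eq_of_div_eq_one ((mul_eq_right₀ (div_ne_zero hc ha)).1 h2)
    · rintro (rfl | rfl) <;> simp
  rw [← H.card, ← Set.ncard_pair (Ne.symm ha), ← Nat.card_coe_set_eq, ← Nat.card_prod]
  refine (Nat.card_eq_of_bijective (fun p : ({0, a} : Set F) × F =>
    (⟨H.us p.1.1 p.2, (hmem _ _).2 p.1.2⟩ : Subgroup.centralizer {H.us a b})) ⟨?_, ?_⟩).symm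
  · rintro ⟨c, d⟩ ⟨c', d'⟩ h
    obtain ⟨h1, h2⟩ := H.us_inj.1 (congrArg Subtype.val h)
    exact Prod.ext (Subtype.ext h1) h2
  · rintro ⟨z, hz⟩
    obtain ⟨c, d, rfl⟩ := H.centralizer_le_Q (H.us_mem_Q a b) hne hz
    exact ⟨(⟨c, (hmem c d).1 hz⟩, d), rfl⟩

theorem sol_card_conj {x : Sz F m} (g : Sz F m) : (sol (g * x * g⁻¹)).ncard = (sol x).ncard := by
  have key : ∀ (g x y : Sz F m), y ∈ sol x → g * y * g⁻¹ ∈ sol (g * x * g⁻¹) := fun g x y h => by
    refine solvable_of_le (N := cj g (Subgroup.closure ({x, y} : Set (Sz F m)))) ?_ (solvable_cj g h)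
    rw [Subgroup.closure_le]
    rintro z (rfl | rfl)
    · exact conj_mem_cj (Subgroup.subset_closure (Or.inl rfl))
    · exact conj_mem_cj (Subgroup.subset_closure (Or.inr rfl))
  rw [← Set.ncard_image_of_injective (sol x) (f := fun y => g * y * g⁻¹) fun _ _ e => mul_left_cancel (mul_right_cancel e)]
  congr 1
  ext y
  refine ⟨fun hy => ⟨g⁻¹ * y * g, ?_, by group⟩, ?_⟩
  · have := key g⁻¹ _ _ hy
    convert this using 2 <;> group
  · rintro ⟨z, hz, rfl⟩
    exact key g x z hz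

/-- The solubilizer of a 2-element. -/
theorem sol_two (hp : (2 * m + 1).Prime) {x : Sz F m} (hxQ : x ∈ H.Q) (hx1 : x ≠ 1) :
    (orderOf x = 2 → (sol x).ncard = (2 ^ (2 * m + 1)) ^ 2 * (4 * 2 ^ (2 * m + 1) - 3)) ∧
    (orderOf x = 4 → (sol x).ncard = (2 ^ (2 * m + 1)) ^ 2 * (2 ^ (2 * m + 1) + 3)) := by
  classical
  haveI := H.finite_Sz
  obtain ⟨xT, fT, xP, fP, xM, fM, DT, DP, DM, eT, eP, eM⟩ := exists_data H
  have hxB := H.Q_le_B hxQ
  have hsol : sol x = (H.B : Set (Sz F m)) ∪ part H x xT ∪ part H x xP ∪ part H x xM := by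
    ext y
    constructor
    · intro hy
      by_cases hyB : y ∈ H.B
      · exact Or.inl (Or.inl (Or.inl hyB))
      rcases sol_cases H hp hx1 hy with ⟨p, hp', hxp, hyp⟩ | ⟨a, ha, hxa, hya⟩
      · obtain rfl := H.eq_inf_of_fixed hxQ hx1 hp' hxp
        exact absurd (MulAction.mem_stabilizer_iff.2 hyp) hyB
      · obtain ⟨x₀, f, e, D, hx₀, g, hg⟩ := torus_cases H DT DP DM eT eP eM ha
        rw [NC_conj hg] at hxa hya
        have hmem : y ∈ part H x x₀ := ⟨hyB, g, mem_cj.1 hxa, mem_cj.1 hya⟩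
        rcases hx₀ with rfl | rfl | rfl
        exacts [Or.inl (Or.inl (Or.inr hmem)), Or.inl (Or.inr hmem), Or.inr hmem]
    · rintro (((hy | hy) | hy) | hy)
      · exact mem_sol_stab H inf_mem hxB hy
      all_goals obtain ⟨-, g, h1, h2⟩ := hy
      exacts [mem_sol_of_le (solvable_cj g DT.solvable) (mem_cj.2 h1) (mem_cj.2 h2),
        mem_sol_of_le (solvable_cj g DP.solvable) (mem_cj.2 h1) (mem_cj.2 h2),
        mem_sol_of_le (solvable_cj g DM.solvable) (mem_cj.2 h1) (mem_cj.2 h2)]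
  have hdisjB : ∀ x₀, Disjoint (H.B : Set (Sz F m)) (part H x x₀) := fun x₀ =>
    Set.disjoint_left.2 fun y hy h => h.1 hy
  have hdisj : ∀ {x₀ f x₀' f' : Sz F m} {e e' : ℕ}, TorusData H x₀ f e → TorusData H x₀' f' e' →
      Nat.card (Subgroup.centralizer {x₀}) ≠ Nat.card (Subgroup.centralizer {x₀'}) →
      Disjoint (part H x x₀) (part H x x₀') := by
    intro x₀ f x₀' f' e e' D D' hne
    rw [Set.disjoint_left]
    rintro y ⟨hyB, g, h1, h2⟩ ⟨-, g', h1', h2'⟩
    have := congrArg (fun S : Subgroup (Sz F m) => Nat.card S) (part_unique H hxQ hx1 hyB D D' h1 h2 h1' h2')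
    simp only [card_cj] at this
    exact hne this
  obtain ⟨hq1, hq2⟩ := H.th_add_two_lt
  rw [H.card] at hq1
  rw [hsol, Set.ncard_union_eq (Set.disjoint_union_left.2 ⟨Set.disjoint_union_left.2
      ⟨hdisjB _, hdisj DT DM (by omega)⟩, hdisj DP DM (by omega)⟩),
    Set.ncard_union_eq (Set.disjoint_union_left.2 ⟨hdisjB _, hdisj DT DP (by omega)⟩),
    Set.ncard_union_eq (hdisjB _), ← Nat.card_coe_set_eq (s := (H.B : Set (Sz F m))), SetLike.coe_sort_coe, H.card_B]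
  have hcount : ∀ {x₀ f : Sz F m} {e : ℕ}, TorusData H x₀ f e → (orderOf x = 2 ∨ orderOf x = 4) →
      (clN x x₀).ncard = Nat.card (Subgroup.centralizer {x₀}) →
      (part H x x₀).ncard = Nat.card (Subgroup.centralizer {x}) * (Nat.card (Subgroup.centralizer {x₀}) - 1) := by
    intro x₀ f e D ho hcl
    have h := ncard_part D hxQ hx1 ho
    rw [hcl] at h
    refine Nat.eq_of_mul_eq_mul_right (m := e * Nat.card (Subgroup.centralizer {x₀})) ?_ (by rw [h]; ring)
    exact Nat.mul_pos (by rcases D.he with h | h <;> omega) Nat.card_pos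
  refine ⟨fun hx => ?_, fun hx => ?_⟩
  · have hC : Nat.card (Subgroup.centralizer {x}) = (2 ^ (2 * m + 1)) ^ 2 := by
      obtain ⟨b, rfl⟩ := mem_Q0_of_sq H hxQ (by rw [← sq, ← hx, pow_orderOf_eq_one])
      rw [H.centralizer_us_zero (fun e => hx1 (by rw [e, H.us_zero])), H.card_Q]
    rw [hcount DT (Or.inl hx) ((ncard_clN DT).1 hx), hcount DP (Or.inl hx) ((ncard_clN DP).1 hx),
      hcount DM (Or.inl hx) ((ncard_clN DM).1 hx), hC, eT, eP, eM, ← Nat.mul_add, ← Nat.mul_add, ← Nat.mul_add]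
    congr 1
    omega
  · have hC : Nat.card (Subgroup.centralizer {x}) = 2 * 2 ^ (2 * m + 1) := by
      obtain ⟨a, b, rfl⟩ := hxQ
      refine card_centralizer_us H fun e => ?_
      rw [e, H.orderOf_us_zero (fun e' => hx1 (by rw [e, e', H.us_zero]))] at hx
      omega
    have h4 : (part H x xT).ncard = 0 := by
      have h := ncard_part DT hxQ hx1 (Or.inr hx)
      rw [(ncard_clN DT).2 hx, if_neg (by norm_num), mul_zero, zero_mul, Nat.mul_eq_zero] at h
      exact h.resolve_right (Nat.mul_pos two_pos Nat.card_pos).ne'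
    rw [h4, hcount DP (Or.inr hx) (by rw [(ncard_clN DP).2 hx, if_pos rfl]),
      hcount DM (Or.inr hx) (by rw [(ncard_clN DM).2 hx, if_pos rfl]), hC, eP, eM, add_zero,
      add_assoc, ← Nat.mul_add (2 * 2 ^ (2 * m + 1))]
    have hs : 2 ^ (2 * m + 1) + 2 ^ (m + 1) + 1 - 1 + (2 ^ (2 * m + 1) - 2 ^ (m + 1) + 1 - 1) = 2 * 2 ^ (2 * m + 1) := by
      omega
    rw [hs]
    obtain ⟨j, hj⟩ : ∃ j, 2 ^ (2 * m + 1) = j + 1 := ⟨2 ^ (2 * m + 1) - 1, by have := Nat.two_pow_pos (2 * m + 1); omega⟩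
    rw [hj, Nat.add_sub_cancel]
    ring

/-- The solubilizer of a split torus element. -/
theorem sol_split (hp : (2 * m + 1).Prime) {k : Fˣ} (hk : k ≠ 1) :
    (sol (H.ds k)).ncard = 2 * (2 ^ (2 * m + 1)) ^ 2 * (2 ^ (2 * m + 1) - 1) := by
  classical
  haveI := H.finite_Sz
  have hC := H.centralizer_ds hk
  have hd1 : H.ds k ≠ 1 := fun e => hk (H.ds_inj (e.trans H.ds_one.symm))
  have hoT : Odd (2 ^ (2 * m + 1) - 1) := Nat.Even.sub_odd Nat.one_le_two_pow (by simp [Nat.even_pow]) odd_one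
  have hdo : orderOf (H.ds k) ∣ 2 ^ (2 * m + 1) - 1 := by
    rw [← H.card_T]; exact Subgroup.orderOf_dvd_natCard _ ⟨k, rfl⟩
  obtain ⟨xT, fT, xP, fP, xM, fM, DT, DP, DM, eT, eP, eM⟩ := exists_data H
  set N := Subgroup.normalizer (H.T : Set (Sz F m)) with hN
  have hcases : ∀ p ∈ suzukiOvoid F m, H.ds k • p = p → p = pinf F ∨ p = pzero F := by
    intro p hp' hfx
    rcases mem_ovoid.1 hp' with rfl | ⟨x, y, rfl⟩
    · exact Or.inl rfl
    · right
      rw [H.ds_pt, pt_inj] at hfx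
      have hk' : (k : F) ≠ 1 := fun e => hk (Units.ext e)
      have hx : x = 0 := by_contra fun hx => hk' ((mul_eq_right₀ hx).1 hfx.1)
      have hy : y = 0 := by_contra fun hy => hk' (H.ker_norm ((mul_eq_right₀ hy).1 hfx.2))
      rw [hx, hy, pt_zero]
  set B0 := MulAction.stabilizer (Sz F m) (pzero F) with hB0
  have hxT : H.ds k ∈ Xt H ⊤ := ⟨Subgroup.mem_top _, hd1, H.not_conj_Q_of_coprime hd1 hoT hdo⟩
  have hsol : sol (H.ds k) = (H.B : Set (Sz F m)) ∪ B0 ∪ (fun y => H.ws * y) '' (H.T : Set (Sz F m)) := by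
    ext y
    constructor
    · intro hy
      rcases sol_cases H hp hd1 hy with ⟨p, hp', hxp, hyp⟩ | ⟨a, ha, hxa, hya⟩
      · rcases hcases p hp' hxp with rfl | rfl
        · exact Or.inl (Or.inl hyp)
        · exact Or.inl (Or.inr hyp)
      · obtain ⟨x₀, f, e, D, -, g, hg⟩ := torus_cases H DT DP DM eT eP eM ha
        have hxa' := hxa
        rw [NC_conj hg, mem_cj] at hxa'
        have ho : Odd (orderOf (g⁻¹ * H.ds k * g)) := by
          rw [show g⁻¹ * H.ds k * g = MulAut.conj g⁻¹ (H.ds k) by simp, MulEquiv.orderOf_eq]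
          exact hoT.of_dvd_nat hdo
        have hxu : H.ds k ∈ Subgroup.centralizer {a} := by rw [hg, mem_cj]; exact D.mem_of_odd hxa' ho
        have haT : Subgroup.centralizer {a} = H.T := by
          rw [← (part_facts H ha).2.2.1 _ hxu hd1, hC]
        rw [NC, haT] at hya
        rcases normalizer_T_cases H hya with ⟨l, rfl⟩ | h
        · exact Or.inl (Or.inl (H.ds_mem_B l))
        · exact Or.inr ⟨_, h, by show H.ws * (H.ws * y) = y; rw [← mul_assoc, H.ws_mul_self, one_mul]⟩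
    · rintro ((hy | hy) | ⟨t, ht, rfl⟩)
      · exact mem_sol_stab H inf_mem (H.ds_inf k) hy
      · exact mem_sol_stab H zero_mem (H.ds_zero_pt k) hy
      · obtain ⟨g, hg⟩ := torus_conj DT.hx hxT (by rw [eT, hC, H.card_T])
        have hsN : Group.IsSolvable (NC (H.ds k)) := by rw [NC_conj hg]; exact solvable_cj g DT.solvable
        refine mem_sol_of_le hsN (Subgroup.le_normalizer (mem_centralizer_self _)) ?_
        rw [NC, hC]
        refine mul_mem ?_ (Subgroup.le_normalizer ht)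
        rw [Subgroup.mem_normalizer_iff]
        intro h
        constructor
        · rintro ⟨l, rfl⟩
          exact ⟨l⁻¹, by rw [H.ws_inv]; exact (H.ws_ds_ws l).symm⟩
        · rintro ⟨l, hl⟩
          refine ⟨l⁻¹, ?_⟩
          show H.ds l⁻¹ = h
          rw [← H.ws_ds_ws, show H.ds l = H.ws * h * H.ws⁻¹ from hl, H.ws_inv]
          simp only [← mul_assoc, H.ws_mul_self, one_mul]
          rw [mul_assoc, H.ws_mul_self, mul_one]
  have hint : (H.B : Set (Sz F m)) ∩ B0 = H.T := by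
    ext y
    constructor
    · rintro ⟨h1, h2⟩
      obtain ⟨l, rfl⟩ := H.fix_both h1 h2
      exact ⟨l, rfl⟩
    · rintro ⟨l, rfl⟩
      exact ⟨H.ds_inf l, H.ds_zero_pt l⟩
  have hB0c : Nat.card B0 = Nat.card H.B := by
    have hws : MulAction.stabilizer (Sz F m) (H.ws • pinf F) = cj H.ws H.B :=
      MulAction.stabilizer_smul_eq_stabilizer_map_conj _ _
    rw [hB0, show pzero F = H.ws • pinf F from H.ws_inf.symm, hws, card_cj]
  have hd : Disjoint ((H.B : Set (Sz F m)) ∪ B0) ((fun y => H.ws * y) '' (H.T : Set (Sz F m))) := by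
    rw [Set.disjoint_right]
    rintro _ ⟨_, ⟨l, rfl⟩, rfl⟩ (h | h)
    · have h' : (H.ws * H.ds l) • pinf F = pinf F := h
      rw [mul_smul, H.ds_inf, H.ws_inf] at h'
      exact inf_ne_zero h'.symm
    · have h' : (H.ws * H.ds l) • pzero F = pzero F := h
      rw [mul_smul, H.ds_zero_pt, H.ws_zero] at h'
      exact inf_ne_zero h'
  have hU := Set.ncard_union_add_ncard_inter (H.B : Set (Sz F m)) (B0 : Set (Sz F m))
  rw [hint] at hU
  rw [hsol, Set.ncard_union_eq hd, Set.ncard_image_of_injective _ (fun _ _ e => mul_left_cancel e)]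
  simp only [← Nat.card_coe_set_eq, SetLike.coe_sort_coe] at hU ⊢
  rw [hU, hB0c, H.card_B]
  ring

include H in
/-- The solubilizer of an element of a non-split torus. -/
theorem sol_ell (hp : (2 * m + 1).Prime) {x : Sz F m} (hx : x ^ ((2 ^ (2 * m + 1)) ^ 2 + 1) = 1) (h1 : x ≠ 1)
    (hc : Nat.card (Subgroup.centralizer {x}) ≠ 2 ^ (2 * m + 1) - 1) :
    (sol x).ncard = 4 * Nat.card (Subgroup.centralizer {x}) := by
  classical
  haveI := H.finite_Sz
  have hodd : Odd ((2 ^ (2 * m + 1)) ^ 2 + 1) := Even.add_one (by simp [Nat.even_pow])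
  have hxt : x ∈ Xt H ⊤ := ⟨Subgroup.mem_top _, h1,
    H.not_conj_Q_of_coprime h1 hodd (orderOf_dvd_of_pow_eq_one hx)⟩
  obtain ⟨xT, fT, xP, fP, xM, fM, DT, DP, DM, eT, eP, eM⟩ := exists_data H
  obtain ⟨x₀, f, e, D, hx₀, g, hg⟩ := torus_cases H DT DP DM eT eP eM hxt
  have hcard0 : Nat.card (Subgroup.centralizer {x}) = Nat.card (Subgroup.centralizer {x₀}) := by rw [hg, card_cj]
  have he : Nat.card (NC x₀) = 4 * Nat.card (Subgroup.centralizer {x₀}) := by
    rcases hx₀ with rfl | rfl | rfl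
    exacts [absurd (hcard0.trans eT) hc, DP.hcard, DM.hcard]
  have hNC : NC x = cj g (NC x₀) := NC_conj hg
  have hsol : sol x = (NC x : Set (Sz F m)) := by
    ext y
    constructor
    · intro hy
      rcases sol_cases H hp h1 hy with ⟨p, hp', hxp, -⟩ | ⟨a, ha, hxa, hya⟩
      · exact absurd hxp (H.ell_not_fix hx h1 hp')
      · obtain ⟨x₁, f₁, e₁, D₁, -, g₁, hg₁⟩ := torus_cases H DT DP DM eT eP eM ha
        have hxa' := hxa
        rw [NC_conj hg₁, mem_cj] at hxa'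
        have ho : Odd (orderOf (g₁⁻¹ * x * g₁)) := by
          rw [show g₁⁻¹ * x * g₁ = MulAut.conj g₁⁻¹ x by simp, MulEquiv.orderOf_eq]
          exact hodd.of_dvd_nat (orderOf_dvd_of_pow_eq_one hx)
        have hxu : x ∈ Subgroup.centralizer {a} := by rw [hg₁, mem_cj]; exact D₁.mem_of_odd hxa' ho
        show y ∈ NC x
        rwa [NC, (part_facts H ha).2.2.1 x hxu h1]
    · intro hy
      have hs : Group.IsSolvable (NC x) := by rw [hNC]; exact solvable_cj g D.solvable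
      exact mem_sol_of_le hs (Subgroup.le_normalizer (mem_centralizer_self x)) hy
  rw [hsol, ← Nat.card_coe_set_eq, SetLike.coe_sort_coe, hNC, card_cj, he, hcard0]

end Cfsg.Agent.H8.SzSub
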