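import Cfsg.Agent.H7.SzPartition

/-!
Preparations for the subgroup theorem of the Suzuki groups: a conjugation count, the split of a subgroup into
2-elements and torus elements, and the counting of pairs of involutions.
-/

set_option autoImplicit false

namespace Cfsg.Agent.H8.SzSub

open Cfsg.Agent.H7

section Generic

variable {G : Type*} [Group G]

/-- Conjugate of a subgroup. -/
abbrev cj (g : G) (M : Subgroup G) : Subgroup G := M.map (MulAut.conj g).toMonoidHom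

theorem mem_cj {g x : G} {M : Subgroup G} : x ∈ cj g M ↔ g⁻¹ * x * g ∈ M := by
  rw [Subgroup.mem_map_equiv, MulAut.conj_symm_apply]

theorem conj_mem_cj {g x : G} {M : Subgroup G} (hx : x ∈ M) : g * x * g⁻¹ ∈ cj g M :=
  ⟨x, hx, rfl⟩

theorem cj_cj (g h : G) (M : Subgroup G) : cj g (cj h M) = cj (g * h) M := by
  ext x
  simp only [mem_cj, mul_inv_rev]
  group

theorem cj_one (M : Subgroup G) : cj (1 : G) M = M := by
  ext x
  simp [mem_cj]

theorem card_cj (g : G) (M : Subgroup G) : Nat.card (cj g M) = Nat.card M :=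
  Subgroup.card_map_of_injective (MulAut.conj g).injective

theorem cj_inf (g : G) (M N : Subgroup G) : cj g (M ⊓ N) = cj g M ⊓ cj g N :=
  Subgroup.map_inf _ _ _ (MulAut.conj g).injective

theorem cj_self {g : G} {M : Subgroup G} (hg : g ∈ M) : cj g M = M := by
  ext x
  rw [mem_cj]
  constructor
  · intro h
    have := mul_mem (mul_mem hg h) (inv_mem hg)
    simpa [mul_assoc] using this
  · exact fun h => mul_mem (mul_mem (inv_mem hg) h) hg

/-- `M` has no non-trivial abelian normal subgroup. -/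
def NoAbNormal (M : Subgroup G) : Prop :=
  ∀ A : Subgroup G, A ≤ M → (∀ g ∈ M, ∀ x ∈ A, g * x * g⁻¹ ∈ A) → (∀ x ∈ A, ∀ y ∈ A, x * y = y * x) → A = ⊥

theorem NoAbNormal.cj {M : Subgroup G} (h : NoAbNormal M) (g : G) : NoAbNormal (cj g M) := by
  intro A hA hn hc
  have hb : SzSub.cj g⁻¹ A = ⊥ := by
    refine h _ (fun x hx => ?_) (fun y hy x hx => ?_) (fun x hx y hy => ?_)
    · rw [mem_cj] at hx
      have := mem_cj.1 (hA hx)
      simpa [mul_assoc] using this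
    · rw [mem_cj] at hx ⊢
      have := hn _ (conj_mem_cj (g := g) hy) _ hx
      convert this using 1
      group
    · rw [mem_cj] at hx hy
      have := hc _ hx _ hy
      exact mul_left_cancel (a := g) (by simpa [← mul_assoc] using this)
  exact (Subgroup.map_eq_bot_iff_of_injective _ (MulAut.conj g⁻¹).injective).1 hb

/-- All `M`-conjugates of a set. -/
def conjSet (M : Subgroup G) (Y : Set G) : Set G := {z | ∃ m ∈ M, ∃ y ∈ Y, m * y * m⁻¹ = z}

theorem ncard_conjSet [Finite G] (M N : Subgroup G) (Y : Set G)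
    (h1 : ∀ n ∈ M ⊓ N, ∀ y ∈ Y, n * y * n⁻¹ ∈ Y)
    (h2 : ∀ m ∈ M, ∀ y ∈ Y, m * y * m⁻¹ ∈ Y → m ∈ N) :
    (conjSet M Y).ncard * Nat.card ↥(M ⊓ N) = Nat.card M * Y.ncard := by
  classical
  set S := (M ⊓ N).subgroupOf M with hS
  let f : (M ⧸ S) × Y → conjSet M Y := fun p =>
    ⟨(p.1.out : G) * p.2.1 * (p.1.out : G)⁻¹, _, p.1.out.2, _, p.2.2, rfl⟩
  have hf : Function.Bijective f := by
    constructor
    · rintro ⟨c, y⟩ ⟨c', y'⟩ h
      have h' : (c.out : G) * y.1 * (c.out : G)⁻¹ = (c'.out : G) * y'.1 * (c'.out : G)⁻¹ := congrArg Subtype.val h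
      have e : ((c'.out : G)⁻¹ * (c.out : G)) * y.1 * ((c'.out : G)⁻¹ * (c.out : G))⁻¹ = y'.1 := by
        calc _ = (c'.out : G)⁻¹ * ((c.out : G) * y.1 * (c.out : G)⁻¹) * (c'.out : G) := by group
          _ = (c'.out : G)⁻¹ * ((c'.out : G) * y'.1 * (c'.out : G)⁻¹) * (c'.out : G) := by rw [h']
          _ = y'.1 := by group
      have hmM : (c'.out : G)⁻¹ * (c.out : G) ∈ M := mul_mem (inv_mem c'.out.2) c.out.2
      have hm := h2 _ hmM _ y.2 (e ▸ y'.2)
      have hcc : c' = c := by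
        rw [← QuotientGroup.out_eq' c, ← QuotientGroup.out_eq' c', QuotientGroup.eq]
        exact Subgroup.mem_subgroupOf.2 ⟨hmM, hm⟩
      subst hcc
      exact Prod.ext rfl (Subtype.ext (by simpa using e))
    · rintro ⟨z, m, hm, y, hy, rfl⟩
      obtain ⟨c, hc⟩ : ∃ c : M ⧸ S, c = QuotientGroup.mk ⟨m, hm⟩ := ⟨_, rfl⟩
      have hn : (c.out : G)⁻¹ * m ∈ M ⊓ N := by
        have := QuotientGroup.out_eq' c
        rw [hc, QuotientGroup.eq] at this
        rw [hc]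
        exact Subgroup.mem_subgroupOf.1 this
      refine ⟨(c, ⟨_, h1 _ hn _ hy⟩), Subtype.ext ?_⟩
      show (c.out : G) * ((c.out : G)⁻¹ * m * y * ((c.out : G)⁻¹ * m)⁻¹) * (c.out : G)⁻¹ = m * y * m⁻¹
      group
  have h := Nat.card_eq_of_bijective f hf
  rw [Nat.card_prod, Nat.card_coe_set_eq, Nat.card_coe_set_eq] at h
  have h3 := S.card_mul_index
  rw [Nat.card_congr (Subgroup.subgroupOfEquivOfLe (inf_le_left : M ⊓ N ≤ M)).toEquiv] at h3
  rw [← h, ← Subgroup.index_eq_card, ← h3]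
  ring

/-- Two involutions with a product of odd order are conjugate by a power of the product. -/
theorem conj_of_odd_mul {i j : G} (hi : i * i = 1) (hj : j * j = 1) (h : Odd (orderOf (i * j))) :
    ∃ s : ℕ, (i * j) ^ s * i * ((i * j) ^ s)⁻¹ = j := by
  obtain ⟨s, hs⟩ := h
  refine ⟨s, ?_⟩
  have hii : i⁻¹ = i := inv_eq_of_mul_eq_one_right hi
  have hjj : j⁻¹ = j := inv_eq_of_mul_eq_one_right hj
  have hx : ∀ n : ℕ, i * ((i * j) ^ n)⁻¹ = (i * j) ^ n * i := by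
    intro n
    induction n with
    | zero => simp
    | succ n ih =>
      rw [pow_succ' (i * j) n, mul_inv_rev, ← mul_assoc i, ih, mul_inv_rev, hii, hjj]
      calc (i * j) ^ n * i * (j * i) = ((i * j) ^ n * (i * j)) * i := by simp only [mul_assoc]
        _ = _ := by rw [← pow_succ, pow_succ']
  rw [mul_assoc, hx, ← mul_assoc, ← pow_add]
  have h1 : (i * j) ^ (s + s) * (i * j) = 1 := by
    rw [← pow_succ, show s + s + 1 = orderOf (i * j) by omega, pow_orderOf_eq_one]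
  rw [eq_inv_of_mul_eq_one_left h1, mul_inv_rev, hii, hjj, mul_assoc, hi, mul_one]

/-- The involutions of `M`. -/
def invSet (M : Subgroup G) : Set G := {i | i ∈ M ∧ i ≠ 1 ∧ i * i = 1}

/-- The involutions of `M` inverting `x`, other than `x`. -/
def inverters (M : Subgroup G) (x : G) : Set G := {i | i ∈ invSet M ∧ i * x * i = x⁻¹ ∧ i ≠ x}

theorem pairs_eq [Fintype G] (M : Subgroup G) :
    (invSet M).ncard * ((invSet M).ncard - 1) =
      ∑ x ∈ (Set.toFinite {x : G | x ∈ M ∧ x ≠ 1}).toFinset, (inverters M x).ncard := by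
  classical
  set I := (Set.toFinite (invSet M)).toFinset with hI
  have hmem : ∀ i, i ∈ I ↔ i ∈ invSet M := fun i => Set.Finite.mem_toFinset _
  rw [Nat.mul_sub_one, Set.ncard_eq_toFinset_card (invSet M), ← hI, ← Finset.offDiag_card]
  rw [Finset.card_eq_sum_card_fiberwise (f := fun p : G × G => p.1 * p.2)
    (t := (Set.toFinite {x : G | x ∈ M ∧ x ≠ 1}).toFinset)]
  · refine Finset.sum_congr rfl fun x hx => ?_
    rw [Set.Finite.mem_toFinset] at hx
    rw [Set.ncard_eq_toFinset_card (inverters M x)]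
    refine Finset.card_nbij' (fun p => p.1) (fun i => (i, i * x)) ?_ ?_ ?_ ?_
    · rintro ⟨i, j⟩ hp
      simp only [Finset.mem_coe, Finset.mem_filter, Finset.mem_offDiag, hmem] at hp
      obtain ⟨⟨hi, hj, hne⟩, rfl⟩ := hp
      simp only [Finset.mem_coe, Set.Finite.mem_toFinset]
      refine ⟨hi, ?_, ?_⟩
      · rw [mul_inv_rev, inv_eq_of_mul_eq_one_right hi.2.2, inv_eq_of_mul_eq_one_right hj.2.2]
        rw [← mul_assoc i, hi.2.2, one_mul]
      · intro e
        exact hj.2.1 (mul_left_cancel (a := i) (e.symm.trans (mul_one i).symm))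
    · intro i hi
      simp only [Finset.mem_coe, Set.Finite.mem_toFinset] at hi
      obtain ⟨hi, hinv, hix⟩ := hi
      simp only [Finset.mem_coe, Finset.mem_filter, Finset.mem_offDiag, hmem]
      refine ⟨⟨hi, ⟨mul_mem hi.1 hx.1, ?_, ?_⟩, ?_⟩, ?_⟩
      · intro e
        exact hix (by rw [eq_inv_of_mul_eq_one_right e, inv_eq_of_mul_eq_one_right hi.2.2])
      · rw [← mul_assoc, hinv, inv_mul_cancel]
      · exact fun e => hx.2 (mul_left_cancel (a := i) (e.symm.trans (mul_one i).symm))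
      · rw [← mul_assoc, hi.2.2, one_mul]
    · rintro ⟨i, j⟩ hp
      simp only [Finset.mem_coe, Finset.mem_filter, Finset.mem_offDiag, hmem] at hp
      obtain ⟨⟨hi, hj, hne⟩, rfl⟩ := hp
      show (i, i * (i * j)) = (i, j)
      rw [← mul_assoc, hi.2.2, one_mul]
    · intro i hi
      rfl
  · rintro ⟨i, j⟩ hp
    simp only [Finset.mem_coe, Finset.mem_offDiag, hmem] at hp
    simp only [Finset.mem_coe, Set.Finite.mem_toFinset]
    refine ⟨mul_mem hp.1.1 hp.2.1.1, fun e => hp.2.2 ?_⟩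
    rw [eq_inv_of_mul_eq_one_right e, inv_eq_of_mul_eq_one_right hp.1.2.2]

theorem inverters_conj (M : Subgroup G) {m : G} (hm : m ∈ M) (x : G) :
    (inverters M (m * x * m⁻¹)).ncard = (inverters M x).ncard := by
  have key : ∀ (m : G), m ∈ M → ∀ x i, i ∈ inverters M x → m * i * m⁻¹ ∈ inverters M (m * x * m⁻¹) := by
    rintro m hm x i ⟨⟨hi, hi1, hii⟩, hinv, hne⟩
    refine ⟨⟨mul_mem (mul_mem hm hi) (inv_mem hm), fun e => hi1 (conj_eq_one_iff.1 e), ?_⟩, ?_,
      fun e => hne (mul_left_cancel (mul_right_cancel e))⟩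
    · rw [conj_mul, hii, mul_one, mul_inv_cancel]
    · rw [conj_mul, conj_mul, hinv, conj_inv]
  have hinj : Function.Injective fun i => m * i * m⁻¹ := fun _ _ e => mul_left_cancel (mul_right_cancel e)
  rw [← Set.ncard_image_of_injective (inverters M x) hinj]
  congr 1
  ext j
  refine ⟨fun hj => ⟨m⁻¹ * j * m, ?_, by group⟩, ?_⟩
  · have := key m⁻¹ (inv_mem hm) _ _ hj
    convert this using 2 <;> group
  · rintro ⟨i, hi, rfl⟩
    exact key m hm x i hi

end Generic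

variable {F : Type*} [Field F] {m : ℕ}

/-- The non-trivial 2-elements of `M`. -/
def X2 (H : SzHyp F m) (M : Subgroup (Sz F m)) : Set (Sz F m) := {x | x ∈ M ∧ x ≠ 1 ∧ ∃ z, z * x * z⁻¹ ∈ H.Q}

/-- The torus elements of `M`. -/
def Xt (H : SzHyp F m) (M : Subgroup (Sz F m)) : Set (Sz F m) := {x | x ∈ M ∧ x ≠ 1 ∧ ¬ ∃ z, z * x * z⁻¹ ∈ H.Q}

/-- The centre of `Q`. -/
def Q0 (H : SzHyp F m) : Subgroup (Sz F m) where
  carrier := {g | ∃ b, g = H.us 0 b}
  one_mem' := ⟨0, H.us_zero.symm⟩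
  mul_mem' := by
    rintro _ _ ⟨a, rfl⟩ ⟨b, rfl⟩
    exact ⟨a + b, by rw [H.us_mul, add_zero, mul_zero, add_zero]⟩
  inv_mem' := by
    rintro _ ⟨a, rfl⟩
    exact ⟨a, by rw [H.us_inv, zero_mul, add_zero]⟩

/-- The torus elements `M`-conjugate into the centraliser of `x`. -/
def cls (_H : SzHyp F m) (M : Subgroup (Sz F m)) (x : Sz F m) : Set (Sz F m) :=
  conjSet M {y | y ∈ Subgroup.centralizer {x} ∧ y ∈ M ∧ y ≠ 1}

variable (H : SzHyp F m)
include H

theorem Q0_le_Q : Q0 H ≤ H.Q := by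
  rintro _ ⟨b, rfl⟩
  exact H.us_mem_Q 0 b

theorem mem_Q0_of_sq {u : Sz F m} (hu : u ∈ H.Q) (h : u * u = 1) : u ∈ Q0 H := by
  obtain ⟨a, b, rfl⟩ := hu
  rw [← sq, H.us_sq, ← H.us_zero, H.us_inj] at h
  rcases mul_eq_zero.1 h.2 with e | e
  · exact ⟨b, by rw [eq_zero_of_pow_eq_zero e]⟩
  · exact ⟨b, by rw [e]⟩

theorem Q0_sq {u : Sz F m} (hu : u ∈ Q0 H) : u * u = 1 := by
  obtain ⟨b, rfl⟩ := hu
  rw [← sq, H.us_sq, mul_zero, H.us_zero]

theorem Q0_central {u v : Sz F m} (hu : u ∈ Q0 H) (hv : v ∈ H.Q) : u * v = v * u := by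
  obtain ⟨b, rfl⟩ := hu
  obtain ⟨c, d, rfl⟩ := hv
  rw [H.commute_us]
  simp

theorem mem_B_of_Q_ds {u : Sz F m} (hu : u ∈ H.Q) (k : Fˣ) : u * H.ds k ∈ H.B :=
  mul_mem (H.Q_le_B hu) (H.ds_mem_B k)

theorem exists_Q_ds {g : Sz F m} (hg : g ∈ H.B) : ∃ u ∈ H.Q, ∃ k : Fˣ, g = u * H.ds k := by
  obtain ⟨a, b, k, rfl⟩ := H.fix_inf hg
  exact ⟨_, H.us_mem_Q a b, k, rfl⟩

theorem Q_ds_inj {u v : Sz F m} (hu : u ∈ H.Q) (hv : v ∈ H.Q) {k l : Fˣ} (h : u * H.ds k = v * H.ds l) :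
    u = v ∧ k = l := by
  obtain ⟨a, b, rfl⟩ := hu
  obtain ⟨c, d, rfl⟩ := hv
  obtain ⟨rfl, rfl, rfl⟩ := H.us_ds_inj h
  exact ⟨rfl, rfl⟩

theorem Q_ds_mul {v : Sz F m} (u : Sz F m) (hv : v ∈ H.Q) (k l : Fˣ) :
    ∃ v' ∈ H.Q, (u * H.ds k) * (v * H.ds l) = u * v' * H.ds (k * l) :=
  ⟨_, H.Q_conj_mem (H.ds_mem_B k) hv, by rw [H.ds_mul]; group⟩

/-- An involution fixing infinity lies in the centre of `Q`. -/
theorem involution_mem_Q0 {i : Sz F m} (hi : i ∈ H.B) (h : i * i = 1) : i ∈ Q0 H := by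
  obtain ⟨u, hu, k, rfl⟩ := exists_Q_ds H hi
  obtain ⟨v, hv, e⟩ := Q_ds_mul H u hu k k
  rw [h] at e
  have e1 : (1 : Sz F m) * H.ds 1 = u * v * H.ds (k * k) := by rw [H.ds_one, mul_one]; exact e
  have hk : k * k = 1 := (Q_ds_inj H (one_mem _) (mul_mem hu hv) e1).2.symm
  have hk1 : k = 1 := Units.ext (H.sq_inj (by rw [sq, ← Units.val_mul, hk]; simp))
  subst hk1
  rw [H.ds_one, mul_one] at h ⊢
  exact mem_Q0_of_sq H hu h

/-- The order of the group is not divisible by 3. -/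
theorem not_three_dvd_card : ¬ 3 ∣ Nat.card (Sz F m) := by
  rw [H.card_Sz, Nat.prime_three.dvd_mul, Nat.prime_three.dvd_mul]
  have h1 : (2 ^ (2 * m + 1)) % 3 = 2 := by
    rw [pow_succ, pow_mul, Nat.mul_mod, Nat.pow_mod]
    norm_num
  refine not_or.2 ⟨not_or.2 ⟨fun h => ?_, SzHyp.not_three_dvd m⟩, fun h => ?_⟩
  · have h2 := Nat.prime_three.dvd_of_dvd_pow h
    revert h1 h2
    generalize 2 ^ (2 * m + 1) = q
    omega
  · revert h1 h
    generalize 2 ^ (2 * m + 1) = q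
    omega

theorem three_not_dvd_of_le (M : Subgroup (Sz F m)) : ¬ 3 ∣ Nat.card M :=
  fun h => not_three_dvd_card H (h.trans M.card_subgroup_dvd_card)

omit H in
theorem mem_centralizer_self {G : Type*} [Group G] (x : G) : x ∈ Subgroup.centralizer {x} :=
  Subgroup.mem_centralizer_singleton_iff.2 rfl

theorem two_mem (M : Subgroup (Sz F m)) {x : Sz F m} (hx : x ∈ invSet M) : x ∈ X2 H M :=
  ⟨hx.1, hx.2.1, H.exists_conj_mem_Q ⟨1, by rw [pow_one, sq, hx.2.2]⟩⟩

/-- Facts on the centraliser of a torus element. -/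
theorem part_facts {M : Subgroup (Sz F m)} {x : Sz F m} (hx : x ∈ Xt H M) :
    (Odd (Nat.card (Subgroup.centralizer {x}))) ∧
    (∀ y ∈ Subgroup.centralizer {x}, ∀ z ∈ Subgroup.centralizer {x}, y * z = z * y) ∧
    (∀ y ∈ Subgroup.centralizer {x}, y ≠ 1 → Subgroup.centralizer {y} = Subgroup.centralizer {x}) ∧
    (∀ y ∈ Subgroup.centralizer {x}, y ≠ 1 → ¬ ∃ z, z * y * z⁻¹ ∈ H.Q) := by
  obtain ⟨hc, hcard, heq⟩ := H.centralizer_cases hx.2.1 hx.2.2
  have hodd := (H.toriOrders_coprime.1 _ hcard).2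
  refine ⟨hodd, fun y hy z hz => ?_, heq, fun y hy hy1 =>
    H.not_conj_Q_of_coprime hy1 hodd (Subgroup.orderOf_dvd_natCard _ hy)⟩
  haveI := hc
  letI := IsCyclic.commGroup (α := Subgroup.centralizer {x})
  exact congrArg Subtype.val (mul_comm (⟨y, hy⟩ : Subgroup.centralizer {x}) ⟨z, hz⟩)

/-- An involution normalising a torus inverts it. -/
theorem inverts {M : Subgroup (Sz F m)} {x : Sz F m} (hx : x ∈ Xt H M) {i : Sz F m} (h1 : i ≠ 1) (hi : i * i = 1)
    (hn : i ∈ Subgroup.normalizer ((Subgroup.centralizer {x} : Subgroup (Sz F m)) : Set (Sz F m)))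
    {y : Sz F m} (hy : y ∈ Subgroup.centralizer {x}) :
    i * y * i = y⁻¹ ∧ i ∉ Subgroup.centralizer {x} := by
  obtain ⟨hodd, hcomm, heq, hnq⟩ := part_facts H hx
  have hni : i ∉ Subgroup.centralizer {x} := fun hc => hnq i hc h1 (H.exists_conj_mem_Q ⟨1, by rw [pow_one, sq, hi]⟩)
  refine ⟨?_, hni⟩
  have hii : i⁻¹ = i := inv_eq_of_mul_eq_one_right hi
  have hy' : i * y * i ∈ Subgroup.centralizer {x} := by
    have := (Subgroup.mem_normalizer_iff.1 hn y).1 hy
    rwa [hii] at this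
  have hc := hcomm _ hy _ hy'
  by_contra hne
  have hz1 : y * (i * y * i) ≠ 1 := fun e => hne (eq_inv_of_mul_eq_one_right e)
  refine hni ?_
  rw [← heq _ (mul_mem hy hy') hz1, Subgroup.mem_centralizer_singleton_iff]
  calc i * (y * (i * y * i)) = (i * y * i) * (y * i) := by simp only [mul_assoc]
    _ = y * (i * y * i) * i := by rw [← mul_assoc, hc]

/-- A torus element inverted inside `M` is inverted by exactly `|C(x) ∩ M|` involutions of `M`. -/
theorem inverters_torus {M : Subgroup (Sz F m)} {x : Sz F m} (hx : x ∈ Xt H M) {i₀ : Sz F m} (hi : i₀ ∈ invSet M)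
    (hn : i₀ ∈ Subgroup.normalizer ((Subgroup.centralizer {x} : Subgroup (Sz F m)) : Set (Sz F m))) :
    (inverters M x).ncard = Nat.card ↥(Subgroup.centralizer {x} ⊓ M) := by
  obtain ⟨-, hcomm, -, -⟩ := part_facts H hx
  have hinv : ∀ y ∈ Subgroup.centralizer {x}, i₀ * y * i₀ = y⁻¹ := fun y hy => (inverts H hx hi.2.1 hi.2.2 hn hy).1
  have hni := (inverts H hx hi.2.1 hi.2.2 hn (mem_centralizer_self x)).2
  have hset : inverters M x = (fun y => i₀ * y) '' (↑(Subgroup.centralizer {x} ⊓ M) : Set (Sz F m)) := by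
    ext i
    constructor
    · rintro ⟨⟨hiM, -, hii⟩, hix, -⟩
      refine ⟨i₀ * i, ⟨Subgroup.mem_centralizer_singleton_iff.2 ?_, mul_mem hi.1 hiM⟩, ?_⟩
      · have e1 : i * x = x⁻¹ * i := by
          rw [← hix, mul_assoc, hii, mul_one]
        have e2 : i₀ * x⁻¹ = x * i₀ := by
          have := hinv _ (inv_mem (mem_centralizer_self x))
          rw [inv_inv] at this
          nth_rw 2 [← this]
          rw [mul_assoc, hi.2.2, mul_one]
        rw [mul_assoc, e1, ← mul_assoc, e2, mul_assoc]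
      · show i₀ * (i₀ * i) = i
        rw [← mul_assoc, hi.2.2, one_mul]
    · rintro ⟨y, ⟨hy, hyM⟩, rfl⟩
      refine ⟨⟨mul_mem hi.1 hyM, fun e => hni ?_, ?_⟩, ?_, fun e => hni ?_⟩
      · rw [eq_inv_of_mul_eq_one_left e]
        exact inv_mem hy
      · rw [← mul_assoc, hinv y hy, inv_mul_cancel]
      · show i₀ * y * x * (i₀ * y) = x⁻¹
        rw [← mul_assoc, mul_assoc i₀ y x, hcomm y hy x (mem_centralizer_self x), ← hinv _ (mem_centralizer_self x)]
        have := hinv y hy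
        calc i₀ * (x * y) * i₀ * y = i₀ * x * i₀ * (i₀ * y * i₀) * y := by
              conv_rhs => rw [show i₀ * x * i₀ * (i₀ * y * i₀) = i₀ * x * ((i₀ * i₀) * y * i₀) by simp only [mul_assoc],
                hi.2.2, one_mul]
              simp only [mul_assoc]
          _ = _ := by rw [this, inv_mul_cancel_right]
      · have e' : i₀ = x * y⁻¹ := eq_mul_inv_of_mul_eq e
        rw [e']
        exact mul_mem (mem_centralizer_self x) (inv_mem hy)
  rw [hset, Set.ncard_image_of_injective _ (fun _ _ e => mul_left_cancel e), ← Nat.card_coe_set_eq]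
  rfl

theorem normalizer_T_cases {g : Sz F m} (hg : g ∈ Subgroup.normalizer (H.T : Set (Sz F m))) :
    g ∈ H.T ∨ H.ws * g ∈ H.T := by
  obtain ⟨k, hk⟩ := H.exists_unit_ne_one
  obtain ⟨l, hl⟩ := (Subgroup.mem_normalizer_iff.1 hg _).1 (⟨k, rfl⟩ : H.ds k ∈ H.T)
  have hl' : g * H.ds k = H.ds l * g := by
    rw [show H.ds l = g * H.ds k * g⁻¹ from hl, inv_mul_cancel_right]
  have hl1 : l ≠ 1 := by
    rintro rfl
    rw [map_one] at hl
    exact hk (H.ds_inj ((conj_eq_one_iff.1 hl.symm).trans H.ds_one.symm))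
  have hfix : ∀ p : Projectivization F (Fin 4 → F), H.ds k • p = p → H.ds l • (g • p) = g • p := fun p hp => by
    rw [← mul_smul, ← hl', mul_smul, hp]
  have hcases : ∀ p ∈ suzukiOvoid F m, H.ds l • p = p → p = pinf F ∨ p = pzero F := by
    intro p hp hfx
    rcases mem_ovoid.1 hp with rfl | ⟨x, y, rfl⟩
    · exact Or.inl rfl
    · right
      rw [H.ds_pt, pt_inj] at hfx
      have hl'' : (l : F) ≠ 1 := fun e => hl1 (Units.ext e)
      have hx : x = 0 := by_contra fun hx => hl'' ((mul_eq_right₀ hx).1 hfx.1)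
      have hy : y = 0 := by_contra fun hy => hl'' (H.ker_norm ((mul_eq_right₀ hy).1 hfx.2))
      rw [hx, hy, pt_zero]
  have a := hcases _ (SzHyp.smul_mem g inf_mem) (hfix _ (H.ds_inf k))
  have b := hcases _ (SzHyp.smul_mem g zero_mem) (hfix _ (H.ds_zero_pt k))
  rcases a with a | a
  · rcases b with b | b
    · exact absurd (smul_left_cancel g (b.trans a.symm)) inf_ne_zero.symm
    · obtain ⟨j, rfl⟩ := H.fix_both a b
      exact Or.inl ⟨j, rfl⟩
  · rcases b with b | b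
    · obtain ⟨j, hj⟩ := H.fix_both (g := H.ws * g) (by rw [mul_smul, a, H.ws_zero]) (by rw [mul_smul, b, H.ws_inf])
      exact Or.inr (hj ▸ ⟨j, rfl⟩)
    · exact absurd (smul_left_cancel g (a.trans b.symm)) inf_ne_zero

theorem card_normalizer_T_inf_le (M : Subgroup (Sz F m)) :
    Nat.card ↥(M ⊓ Subgroup.normalizer (H.T : Set (Sz F m))) ≤ 2 * Nat.card ↥(H.T ⊓ M) := by
  classical
  haveI := H.finite_Sz
  set N := M ⊓ Subgroup.normalizer (H.T : Set (Sz F m)) with hN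
  by_cases h : ∀ g ∈ N, g ∈ H.T
  · calc Nat.card N ≤ Nat.card ↥(H.T ⊓ M) := Subgroup.card_le_of_le fun g hg => ⟨h g hg, hg.1⟩
      _ ≤ _ := Nat.le_mul_of_pos_left _ two_pos
  push Not at h
  obtain ⟨g₀, hg₀, hg₀'⟩ := h
  have hw₀ := (normalizer_T_cases H hg₀.2).resolve_left hg₀'
  have hcov : (N : Set (Sz F m)) ⊆ (↑(H.T ⊓ M) : Set (Sz F m)) ∪ (fun y => g₀ * y) '' (↑(H.T ⊓ M) : Set (Sz F m)) := by
    intro g hg
    rcases normalizer_T_cases H hg.2 with h1 | h1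
    · exact Or.inl ⟨h1, hg.1⟩
    · refine Or.inr ⟨g₀⁻¹ * g, ⟨?_, M.mul_mem (M.inv_mem hg₀.1) hg.1⟩, mul_inv_cancel_left _ _⟩
      have := H.T.mul_mem (H.T.inv_mem hw₀) h1
      simpa [mul_assoc] using this
  have h1 := Set.ncard_le_ncard hcov
  have h2 := h1.trans (Set.ncard_union_le _ _)
  rw [Set.ncard_image_of_injective _ (fun _ _ e => mul_left_cancel e)] at h2
  simp only [← Nat.card_coe_set_eq, SetLike.coe_sort_coe] at h2
  omega

theorem card_normalizer_part_le {M : Subgroup (Sz F m)} {x : Sz F m} (hx : x ∈ Xt H M) :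
    Nat.card (Subgroup.normalizer ((Subgroup.centralizer {x} : Subgroup (Sz F m)) : Set (Sz F m))) ≤
      4 * Nat.card (Subgroup.centralizer {x}) := by
  haveI := H.finite_Sz
  rcases (H.trichotomy hx.2.1).resolve_left hx.2.2 with ⟨z, k, hk⟩ | h
  · have hk1 : k ≠ 1 := fun e => hx.2.1 (conj_eq_one_iff.1 (hk.symm.trans (by rw [e, map_one])))
    have hT : (Subgroup.centralizer {x}).map (MulAut.conj z).toMonoidHom = H.T := by
      rw [map_conj_centralizer, ← show H.ds k = z * x * z⁻¹ from hk, H.centralizer_ds hk1]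
    have h1 : Nat.card (Subgroup.centralizer {x}) = Nat.card H.T := by
      rw [← hT, Subgroup.card_map_of_injective (MulAut.conj z).injective]
    have h2 : Nat.card (Subgroup.normalizer ((Subgroup.centralizer {x} : Subgroup (Sz F m)) : Set (Sz F m))) =
        Nat.card (Subgroup.normalizer (H.T : Set (Sz F m))) := by
      rw [← hT, ← Subgroup.map_equiv_normalizer_eq _ (MulAut.conj z)]
      exact (Subgroup.card_map_of_injective (MulAut.conj z).injective).symm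
    have h3 := card_normalizer_T_inf_le H (⊤ : Subgroup (Sz F m))
    rw [top_inf_eq, inf_top_eq] at h3
    omega
  · exact H.card_normalizer_le h hx.2.1


theorem part_data {M : Subgroup (Sz F m)} (hA : NoAbNormal M) {x : Sz F m} (hx : x ∈ Xt H M) :
    ∃ u e : ℕ, u = Nat.card ↥(Subgroup.centralizer {x} ⊓ M) ∧
      e * u = Nat.card ↥(M ⊓ Subgroup.normalizer ((Subgroup.centralizer {x} : Subgroup (Sz F m)) : Set (Sz F m))) ∧
      (e = 1 ∨ e = 2 ∨ e = 4) ∧ 5 ≤ u ∧ Odd u ∧ e * u ∣ Nat.card M ∧ e * u ≠ Nat.card M ∧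
      (cls H M x).ncard * (e * u) = Nat.card M * (u - 1) ∧ 4 * Nat.card M ≤ 5 * e * (cls H M x).ncard := by
  haveI := H.finite_Sz
  obtain ⟨hodd, hcomm, heq, hnq⟩ := part_facts H hx
  have h4 := card_normalizer_part_le H hx
  unfold cls
  set U := Subgroup.centralizer {x} with hU
  set N := Subgroup.normalizer (U : Set (Sz F m)) with hN
  have hUN : U ≤ N := Subgroup.le_normalizer
  have hinf : U ⊓ (M ⊓ N) = U ⊓ M := by rw [← inf_assoc]; exact inf_eq_left.2 (inf_le_left.trans hUN)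
  set e := U.relIndex (M ⊓ N) with he
  have hmul : e * Nat.card ↥(U ⊓ M) = Nat.card ↥(M ⊓ N) := by
    rw [he, ← hinf, ← Subgroup.inf_relIndex_right U (M ⊓ N), mul_comm, ← Subgroup.relIndex_bot_left (U ⊓ (M ⊓ N)),
      Subgroup.relIndex_mul_relIndex _ _ _ bot_le inf_le_right, Subgroup.relIndex_bot_left]
  have hUpos : 0 < Nat.card U := Nat.card_pos
  have hmulN : U.relIndex N * Nat.card U = Nat.card N := by
    rw [mul_comm, ← Subgroup.relIndex_bot_left U, Subgroup.relIndex_mul_relIndex _ _ _ bot_le hUN,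
      Subgroup.relIndex_bot_left]
  have he4 : e ≤ 4 := by
    have h1 : e ≤ U.relIndex N := by
      refine Subgroup.relIndex_le_of_le_right inf_le_right (fun h => ?_)
      rw [h, zero_mul] at hmulN
      exact (Nat.card_pos (α := N)).ne hmulN
    have h2 : U.relIndex N ≤ 4 := Nat.le_of_mul_le_mul_right (by rw [hmulN]; exact h4) hUpos
    omega
  have hdvd : e * Nat.card ↥(U ⊓ M) ∣ Nat.card M := hmul ▸ Subgroup.card_dvd_of_le inf_le_left
  have he0 : e ≠ 0 := fun h => by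
    rw [h, zero_mul] at hmul
    exact (Nat.card_pos (α := ↥(M ⊓ N))).ne hmul
  have he3 : e ≠ 3 := fun h => three_not_dvd_of_le H M ((dvd_mul_right 3 _).trans (h ▸ hdvd))
  have hu3 : Nat.card ↥(U ⊓ M) ≠ 3 := fun h => three_not_dvd_of_le H M ((dvd_mul_left 3 e).trans (h ▸ hdvd))
  have huodd : Odd (Nat.card ↥(U ⊓ M)) := hodd.of_dvd_nat (Subgroup.card_dvd_of_le inf_le_left)
  have hu1 : Nat.card ↥(U ⊓ M) ≠ 1 := fun h => hx.2.1 (by
    have hm : x ∈ U ⊓ M := ⟨mem_centralizer_self x, hx.1⟩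
    rw [Subgroup.eq_bot_of_card_eq _ h] at hm
    exact Subgroup.mem_bot.1 hm)
  have hu5 : 5 ≤ Nat.card ↥(U ⊓ M) := by
    obtain ⟨j, hj⟩ := huodd
    omega
  have hne : e * Nat.card ↥(U ⊓ M) ≠ Nat.card M := by
    intro h
    rw [hmul] at h
    have hMN : M ≤ N := inf_eq_left.1 (Subgroup.eq_of_le_of_card_ge inf_le_left h.ge)
    refine hu1 ?_
    rw [hA (U ⊓ M) inf_le_right (fun g hg y hy => ⟨(Subgroup.mem_normalizer_iff.1 (hMN hg) y).1 hy.1,
      M.mul_mem (M.mul_mem hg hy.2) (M.inv_mem hg)⟩) (fun y hy z hz => hcomm y hy.1 z hz.1), Subgroup.card_bot]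
  have hcount := ncard_conjSet M N {y | y ∈ U ∧ y ∈ M ∧ y ≠ 1} (fun n hn y hy =>
      ⟨(Subgroup.mem_normalizer_iff.1 hn.2 y).1 hy.1, mul_mem (mul_mem hn.1 hy.2.1) (inv_mem hn.1),
        fun e => hy.2.2 (conj_eq_one_iff.1 e)⟩)
    (fun g hg y hy hgy => by
      rw [hN, Subgroup.mem_normalizer_iff_map_conj_eq, ← heq _ hy.1 hy.2.2]
      show (Subgroup.centralizer {y}).map (MulAut.conj g).toMonoidHom = _
      rw [map_conj_centralizer, heq _ hgy.1 hgy.2.2, heq _ hy.1 hy.2.2])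
  have hY : ({y | y ∈ U ∧ y ∈ M ∧ y ≠ 1} : Set (Sz F m)).ncard = Nat.card ↥(U ⊓ M) - 1 := by
    have : ({y | y ∈ U ∧ y ∈ M ∧ y ≠ 1} : Set (Sz F m)) = (↑(U ⊓ M) : Set (Sz F m)) \ {1} := by
      ext y
      simp [and_assoc]
    rw [this, Set.ncard_sdiff_singleton_of_mem (one_mem _), ← Nat.card_coe_set_eq]
    rfl
  rw [hY, ← hmul] at hcount
  refine ⟨_, e, rfl, hmul, by omega, hu5, huodd, hdvd, hne, hcount, ?_⟩
  have h1 : 4 * Nat.card ↥(U ⊓ M) ≤ 5 * (Nat.card ↥(U ⊓ M) - 1) := by omega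
  refine Nat.le_of_mul_le_mul_right ?_ (show 0 < Nat.card ↥(U ⊓ M) by omega)
  calc 4 * Nat.card M * Nat.card ↥(U ⊓ M) = Nat.card M * (4 * Nat.card ↥(U ⊓ M)) := by ring
    _ ≤ Nat.card M * (5 * (Nat.card ↥(U ⊓ M) - 1)) := Nat.mul_le_mul_left _ h1
    _ = 5 * (Nat.card M * (Nat.card ↥(U ⊓ M) - 1)) := by ring
    _ = _ := by rw [← hcount]; ring

theorem cls_subset {M : Subgroup (Sz F m)} {x : Sz F m} (hx : x ∈ Xt H M) : cls H M x ⊆ Xt H M := by
  obtain ⟨-, -, -, hnq⟩ := part_facts H hx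
  rintro _ ⟨g, hg, y, ⟨hy, hyM, hy1⟩, rfl⟩
  refine ⟨mul_mem (mul_mem hg hyM) (inv_mem hg), fun e => hy1 (conj_eq_one_iff.1 e), fun ⟨z, hz⟩ => hnq y hy hy1
    ⟨z * g, ?_⟩⟩
  convert hz using 1
  group

theorem mem_cls {M : Subgroup (Sz F m)} {x : Sz F m} (hx : x ∈ Xt H M) : x ∈ cls H M x :=
  ⟨1, one_mem _, x, ⟨mem_centralizer_self x, hx.1, hx.2.1⟩, by simp⟩

/-- Torus elements of one class have conjugate centralisers. -/
theorem cls_conj {M : Subgroup (Sz F m)} {x y : Sz F m} (hx : x ∈ Xt H M) (hy : y ∈ cls H M x) :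
    ∃ g ∈ M, Subgroup.centralizer {y} = cj g (Subgroup.centralizer {x}) := by
  obtain ⟨-, -, heq, -⟩ := part_facts H hx
  obtain ⟨g, hg, z, ⟨hz, -, hz1⟩, rfl⟩ := hy
  exact ⟨g, hg, by rw [cj, ← heq z hz hz1, map_conj_centralizer]⟩

theorem cls_of_conj {M : Subgroup (Sz F m)} {x y : Sz F m} (hy : y ∈ Xt H M) {g : Sz F m} (hg : g ∈ M)
    (h : Subgroup.centralizer {y} = cj g (Subgroup.centralizer {x})) : y ∈ cls H M x := by
  have h1 := mem_centralizer_self y
  rw [h, mem_cj] at h1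
  exact ⟨g, hg, _, ⟨h1, mul_mem (mul_mem (inv_mem hg) hy.1) hg,
    fun e => hy.2.1 (by calc y = g * (g⁻¹ * y * g) * g⁻¹ := by group
                         _ = 1 := by rw [e]; group)⟩, by group⟩

theorem cls_disjoint {M : Subgroup (Sz F m)} {x y : Sz F m} (hx : x ∈ Xt H M) (hy : y ∈ Xt H M) (h : y ∉ cls H M x) :
    Disjoint (cls H M x) (cls H M y) := by
  rw [Set.disjoint_left]
  intro z hzx hzy
  obtain ⟨g, hg, e1⟩ := cls_conj H hx hzx
  obtain ⟨g', hg', e2⟩ := cls_conj H hy hzy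
  refine h (cls_of_conj H hy (mul_mem (inv_mem hg') hg) ?_)
  rw [← cj_cj, ← e1, e2, cj_cj, inv_mul_cancel, cj_one]

/-- Two torus classes whose orders share a prime coincide. -/
theorem cls_of_common_prime {M : Subgroup (Sz F m)} {x y : Sz F m} (hx : x ∈ Xt H M) (hy : y ∈ Xt H M) {r : ℕ}
    (hr : r.Prime) (hrx : r ∣ Nat.card ↥(Subgroup.centralizer {x} ⊓ M))
    (hry : r ∣ Nat.card ↥(Subgroup.centralizer {y} ⊓ M)) : y ∈ cls H M x := by
  haveI := H.finite_Sz
  haveI : Fact r.Prime := ⟨hr⟩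
  obtain ⟨-, -, heqx, -⟩ := part_facts H hx
  obtain ⟨-, -, heqy, -⟩ := part_facts H hy
  obtain ⟨⟨a, ha⟩, ha'⟩ := exists_prime_orderOf_dvd_card' r hrx
  obtain ⟨⟨b, hb⟩, hb'⟩ := exists_prime_orderOf_dvd_card' r hry
  rw [Subgroup.orderOf_mk] at ha' hb'
  have ha1 : a ≠ 1 := fun e => by rw [e, orderOf_one] at ha'; exact hr.one_lt.ne ha'
  have hb1 : b ≠ 1 := fun e => by rw [e, orderOf_one] at hb'; exact hr.one_lt.ne hb'
  obtain ⟨P, hP⟩ := (IsPGroup.of_card (n := 1) (by rw [Nat.card_zpowers, Subgroup.orderOf_mk, ha', pow_one])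
    : IsPGroup r (Subgroup.zpowers (⟨a, ha.2⟩ : M))).exists_le_sylow
  obtain ⟨R, hR⟩ := (IsPGroup.of_card (n := 1) (by rw [Nat.card_zpowers, Subgroup.orderOf_mk, hb', pow_one])
    : IsPGroup r (Subgroup.zpowers (⟨b, hb.2⟩ : M))).exists_le_sylow
  obtain ⟨g, hg⟩ := MulAction.exists_smul_eq M P R
  have haR : g * ⟨a, ha.2⟩ * g⁻¹ ∈ (R : Subgroup M) := by
    rw [← hg, Sylow.coe_subgroup_smul]
    exact ⟨_, hP (Subgroup.mem_zpowers _), rfl⟩
  have hbR := hR (Subgroup.mem_zpowers (⟨b, hb.2⟩ : M))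
  haveI : Nontrivial (R : Subgroup M) :=
    ⟨⟨⟨_, hbR⟩, 1, fun e => hb1 (congrArg (fun z : (R : Subgroup M) => (z.1.1)) e)⟩⟩
  obtain ⟨⟨c, hc⟩, hc1⟩ := (nontrivial_iff_exists_ne (1 : Subgroup.center (R : Subgroup M))).1 R.2.center_nontrivial
  have hcne : (c.1.1 : Sz F m) ≠ 1 := fun e => hc1 (Subtype.ext (Subtype.ext (Subtype.ext e)))
  have comm : ∀ z : (R : Subgroup M), z.1.1 * c.1.1 = c.1.1 * z.1.1 := fun z =>
    congrArg (fun w : (R : Subgroup M) => w.1.1) (Subgroup.mem_center_iff.1 hc z)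
  have hcb : c.1.1 ∈ Subgroup.centralizer {b} :=
    Subgroup.mem_centralizer_singleton_iff.2 (comm ⟨_, hbR⟩).symm
  rw [heqy b hb.1 hb1] at hcb
  have hzy : g.1 * a * g.1⁻¹ ∈ Subgroup.centralizer {y} := by
    rw [← heqy _ hcb hcne]
    exact Subgroup.mem_centralizer_singleton_iff.2 (comm ⟨_, haR⟩)
  refine cls_of_conj H hy g.2 ?_
  rw [cj, ← heqx a ha.1 ha1, map_conj_centralizer, heqy _ hzy (fun e => ha1 (conj_eq_one_iff.1 e))]

end Cfsg.Agent.H8.SzSub
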