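import Cfsg.Agent.H8.SzSubStruct

/-!
The two counting equations for a subgroup of the Suzuki group without abelian normal subgroups.
-/

set_option autoImplicit false

namespace Cfsg.Agent.H8.SzSub

open Cfsg.Agent.H7

section Arith

/-- The first counting consequence for a single class with index two. -/
theorem arith_one {n w t u j R c₀ c₁ : ℤ} (ht : 7 ≤ t) (hw : 8 ≤ w) (hu : 5 ≤ u) (hn : 2 ≤ n)
    (h2R : 2 * R + 2 = n * (w * t - w + 2)) (hR : R = c₁) (hc₁ : c₁ * (2 * u) = n * w * t * (u - 1))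
    (hj : n = u * j) (hc₀ : c₀ * 2 = n * w * (t - 1))
    (h2 : n * t * (n * t - 1) = n * t * (t - 1) + (c₀ * t + c₁ * u)) :
    j * (w * t - u * w + 2 * u) = 2 ∧ (j = 1 → u = w + 1 ∧ w = t + 1) := by
  have hA1 : j * (w * t - u * w + 2 * u) = 2 := by
    refine mul_left_cancel₀ (show u ≠ 0 by linarith) ?_
    linear_combination -u * (h2R - 2 * hR) + hc₁ - (w * t - u * w + 2 * u) * hj
  refine ⟨hA1, ?_⟩
  rintro rfl
  rw [one_mul] at hA1
  rw [mul_one] at hj
  subst hj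
  have hB : 2 * (n * t - 1) = 2 * (t - 1) + w * (t - 1) + w * (n - 1) := by
    refine mul_left_cancel₀ (show n * t ≠ 0 from mul_ne_zero (by linarith) (by linarith)) ?_
    linear_combination 2 * h2 + t * hc₀ + hc₁
  have huw : n = w + 1 := by
    refine mul_left_cancel₀ (show 2 * (t - 1) ≠ 0 by linarith) ?_
    linear_combination hB - hA1
  refine ⟨huw, mul_left_cancel₀ (show w ≠ 0 by linarith) ?_⟩
  rw [huw] at hA1
  linear_combination -hA1

/-- The counting consequence for two classes with index four. -/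
theorem arith_two {n w t u v j R c₀ c₁ c₂ : ℤ} (ht : 7 ≤ t) (hu : 5 ≤ u) (hv : 5 ≤ v) (hn : 2 ≤ n)
    (h2R : 2 * R + 2 = n * (w * t - w + 2)) (hR : R = c₁ + c₂) (hc₁ : c₁ * (4 * u) = n * w * t * (u - 1))
    (hc₂ : c₂ * (4 * v) = n * w * t * (v - 1)) (hj : n = u * v * j) (hc₀ : c₀ * 2 = n * w * (t - 1))
    (h2 : n * t * (n * t - 1) = n * t * (t - 1) + (c₀ * t + (c₁ * u + c₂ * v))) :
    j * (w * t * (u + v) - 2 * u * v * w + 4 * u * v) = 4 ∧
      (j = 1 → n * (2 * t ^ 2 - w + 2) = 2 * t ^ 2 + 2 + w * t * (t - 2)) := by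
  have hA1 : j * (w * t * (u + v) - 2 * u * v * w + 4 * u * v) = 4 := by
    refine mul_left_cancel₀ (show u * v ≠ 0 from mul_ne_zero (by linarith) (by linarith)) ?_
    linear_combination -2 * u * v * (h2R - 2 * hR) + v * hc₁ + u * hc₂
      - (w * t * (u + v) - 2 * u * v * w + 4 * u * v) * hj
  refine ⟨hA1, ?_⟩
  rintro rfl
  rw [one_mul] at hA1
  rw [mul_one] at hj
  have hB : 4 * (n * t - 1) = 4 * (t - 1) + 2 * w * (t - 1) + w * (u - 1) + w * (v - 1) := by
    refine mul_left_cancel₀ (show n * t ≠ 0 from mul_ne_zero (by linarith) (by linarith)) ?_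
    linear_combination 4 * h2 + 2 * t * hc₀ + hc₁ + hc₂
  refine mul_left_cancel₀ (two_ne_zero (α := ℤ)) ?_
  linear_combination t * hB + hA1 - 2 * (w - 2) * hj

theorem arith_small_w {n t : ℤ} (ht : 7 ≤ t)
    (h : n * (2 * t ^ 2 - (t + 1) + 2) = 2 * t ^ 2 + 2 + (t + 1) * t * (t - 2)) : False := by
  have hkey : (4 * n - 2 * t - 3) * (2 * t ^ 2 - t + 1) = 5 - 7 * t := by linear_combination 4 * h
  have h3 : 7 * t ≤ t ^ 2 := by nlinarith
  have hpos : 0 ≤ 2 * t ^ 2 - t + 1 := by linarith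
  rcases lt_trichotomy (4 * n - 2 * t - 3) 0 with h | h | h
  · have := mul_le_mul_of_nonneg_right (show 4 * n - 2 * t - 3 ≤ -1 by omega) hpos
    linarith
  · rw [h, zero_mul] at hkey
    linarith
  · have := mul_le_mul_of_nonneg_right (show 1 ≤ 4 * n - 2 * t - 3 by omega) hpos
    linarith

theorem arith_single_four {n w t u c R : ℤ} (ht : 7 ≤ t) (hw : 8 ≤ w) (hu : 5 ≤ u) (hn : 2 ≤ n) (hR : R = c)
    (hc : c * (4 * u) = n * w * t * (u - 1)) (h2R : 2 * R + 2 = n * (w * t - w + 2)) : False := by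
  have hg : 0 < n * w * t := mul_pos (mul_pos (by linarith) (by linarith)) (by linarith)
  have hlt : c * 4 < n * w * t := by
    refine lt_of_mul_lt_mul_right ?_ (show 0 ≤ u by linarith)
    nlinarith
  have h16 : 16 ≤ n * w := by nlinarith
  have h7 : 7 * (n * w) ≤ n * w * t := by nlinarith
  linarith

end Arith

variable {F : Type*} [Field F] {m : ℕ} (H : SzHyp F m) {M : Subgroup (Sz F m)}
include H

/-- Splitting off one class from a union of classes. -/
theorem ncard_split (R : Set (Sz F m)) {S : Set (Sz F m)} (h : S ⊆ R) :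
    R.ncard = S.ncard + (R \ S).ncard := by
  haveI := H.finite_Sz
  rw [add_comm, Set.ncard_sdiff_add_ncard_of_subset h]

theorem odd_absurd (hA : NoAbNormal M) (hne : M ≠ ⊥) (hX : X2 H M = ∅) : False := by
  haveI := H.finite_Sz
  have hg := eq1 H (M := M)
  rw [hX, Set.ncard_empty] at hg
  have hodd : Odd (Nat.card M) := by
    rw [← Nat.not_even_iff_odd, even_iff_two_dvd]
    intro h
    haveI : Fact (Nat.Prime 2) := ⟨Nat.prime_two⟩
    obtain ⟨⟨i, hi⟩, hi2⟩ := exists_prime_orderOf_dvd_card' 2 h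
    rw [Subgroup.orderOf_mk] at hi2
    have hinv : i ∈ invSet M := ⟨hi, fun e => by rw [e, orderOf_one] at hi2; omega,
      by rw [← sq, ← hi2, pow_orderOf_eq_one]⟩
    exact (Set.notMem_empty i) (hX ▸ two_mem H M hinv)
  have he1 : ∀ x ∈ Xt H M, ∃ u, (cls H M x).ncard * u = Nat.card M * (u - 1) ∧ u ≠ Nat.card M ∧ 5 ≤ u ∧
      4 * Nat.card M ≤ 5 * (cls H M x).ncard := by
    intro x hx
    obtain ⟨u, e, -, -, he, hu5, -, hd, hne', hc, hlow⟩ := part_data H hA hx
    have : Odd e := hodd.of_dvd_nat ((dvd_mul_right e u).trans hd)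
    obtain rfl : e = 1 := by
      obtain ⟨j, rfl⟩ := this
      omega
    exact ⟨u, by simpa using hc, by simpa using hne', hu5, by simpa using hlow⟩
  obtain ⟨x, hxM, hx1⟩ := (Subgroup.bot_or_exists_ne_one M).resolve_left hne
  have hx : x ∈ Xt H M := ⟨hxM, hx1, fun h => (Set.notMem_empty x) (hX ▸ ⟨hxM, hx1, h⟩)⟩
  obtain ⟨u, hc, hne', hu5, hlow⟩ := he1 x hx
  have hsplit := ncard_split H (Xt H M) (cls_subset H hx)
  rcases Set.eq_empty_or_nonempty (Xt H M \ cls H M x) with h | ⟨y, hy, hy'⟩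
  · rw [h, Set.ncard_empty] at hsplit
    refine hne' ?_
    have hg' : Nat.card M = 1 + (cls H M x).ncard := by omega
    rw [hg'] at hc
    obtain ⟨j, rfl⟩ : ∃ j, u = j + 1 := ⟨u - 1, by omega⟩
    rw [Nat.add_sub_cancel] at hc
    nlinarith
  · obtain ⟨v, -, -, -, hlow'⟩ := he1 y hy
    have hsub : cls H M y ⊆ Xt H M \ cls H M x := fun z hz =>
      ⟨cls_subset H hy hz, fun hz' => Set.disjoint_left.1 (cls_disjoint H hx hy hy') hz' hz⟩
    have := ncard_split H _ hsub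
    omega

/-- The torus elements outside the classes of `x` contain the whole class of each of their members. -/
theorem cls_subset_sdiff {x y : Sz F m} {R : Set (Sz F m)} (hx : x ∈ Xt H M) (hy : y ∈ Xt H M)
    (hyx : y ∉ cls H M x) (hR : cls H M y ⊆ R) : cls H M y ⊆ R \ cls H M x := fun _ hz =>
  ⟨hR hz, fun hz' => Set.disjoint_left.1 (cls_disjoint H hx hy hyx) hz' hz⟩

variable (hW : M ⊓ H.Q ≠ ⊥) (hA : NoAbNormal M)
include hW hA

theorem t_one_absurd (ht : Nat.card (Kt H M) = 1) : False := by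
  haveI := H.finite_Sz
  have ha := card_Q0 H hW hA
  have hw := card_W_le H (M := M)
  rw [ha, ht] at hw
  have hg := card_M H (M := M)
  have hX := eq1 H (M := M)
  rw [ncard_X2 H hW, hg, ht, mul_one] at hX
  have hn := one_lt_index H hW hA
  have hnodd := index_odd H hW
  have h3 := three_not_dvd_of_le H M
  rw [ht, mul_one] at hg
  set n := H.B.relIndex M with hndef
  set w := Nat.card ↥(M ⊓ H.Q) with hwdef
  clear_value n
  have hw2 : 2 ≤ w := by
    haveI : Nontrivial ↥(M ⊓ H.Q) := (Subgroup.nontrivial_iff_ne_bot _).2 hW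
    exact Finite.one_lt_card
  have hw3 : w ≠ 3 := fun h => h3 (by rw [hg, h]; exact dvd_mul_left 3 n)
  have hR : (Xt H M).ncard = n - 1 := by
    obtain ⟨w', hw''⟩ : ∃ w', w = w' + 1 := ⟨w - 1, by omega⟩
    rw [hw'', Nat.add_sub_cancel] at hX
    have : n * (w' + 1) = n * w' + n := by ring
    omega
  obtain ⟨x, hx⟩ : (Xt H M).Nonempty := Set.nonempty_of_ncard_ne_zero (by omega)
  obtain ⟨u, e, -, -, he, hu5, huodd, hd, hne, hc, hlow⟩ := part_data H hA hx
  have hsplit := ncard_split H (Xt H M) (cls_subset H hx)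
  set c := (cls H M x).ncard
  rw [hg] at hd hne hc hlow
  obtain hw' | hw' : w = 2 ∨ w = 4 := by omega
  all_goals rw [hw'] at hd hne hc hlow hg
  all_goals rcases Set.eq_empty_or_nonempty (Xt H M \ cls H M x) with h | ⟨y, hy, hy'⟩
  · rw [h, Set.ncard_empty] at hsplit
    rcases he with rfl | rfl | rfl
    · omega
    · refine hne ?_
      obtain ⟨j, rfl⟩ : ∃ j, u = j + 1 := ⟨u - 1, by omega⟩
      obtain ⟨i, rfl⟩ : ∃ i, n = i + 1 := ⟨n - 1, by omega⟩
      simp only [Nat.add_sub_cancel] at hc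
      have : c = i := by omega
      subst this
      nlinarith
    · have h4 : 4 ∣ n * 2 := (dvd_mul_right 4 u).trans hd
      obtain ⟨i, rfl⟩ := hnodd
      omega
  · obtain ⟨v, f, -, -, hf, -, -, -, -, -, hlow'⟩ := part_data H hA hy
    have := ncard_split H _ (cls_subset_sdiff H hx hy hy' (cls_subset H hy))
    rcases he with rfl | rfl | rfl
    · omega
    · rw [hg] at hlow'
      rcases hf with rfl | rfl | rfl <;> omega
    · have h4 : 4 ∣ n * 2 := (dvd_mul_right 4 u).trans hd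
      obtain ⟨i, rfl⟩ := hnodd
      omega
  · rw [h, Set.ncard_empty] at hsplit
    rcases he with rfl | rfl | rfl
    · omega
    · omega
    · refine hne ?_
      obtain ⟨j, rfl⟩ : ∃ j, u = j + 1 := ⟨u - 1, by omega⟩
      obtain ⟨i, rfl⟩ : ∃ i, n = i + 1 := ⟨n - 1, by omega⟩
      simp only [Nat.add_sub_cancel] at hc
      have : c = i := by omega
      subst this
      nlinarith
  · obtain ⟨v, f, -, -, hf, -, -, -, -, -, hlow'⟩ := part_data H hA hy
    have := ncard_split H _ (cls_subset_sdiff H hx hy hy' (cls_subset H hy))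
    rw [hg] at hlow'
    rcases he with rfl | rfl | rfl <;> rcases hf with rfl | rfl | rfl <;> omega

omit hA in
theorem w_eq_or (hlift : ∀ k ∈ Kt H M, H.ds k ∈ M) (hA : NoAbNormal M) :
    Nat.card ↥(M ⊓ H.Q) = Nat.card (Kt H M) + 1 ∨ Nat.card ↥(M ⊓ H.Q) = (Nat.card (Kt H M) + 1) ^ 2 := by
  classical
  haveI := H.finite_Sz
  haveI := H.fin
  by_cases h : ∀ v ∈ M ⊓ H.Q, v ∈ Q0 H
  · left
    rw [← card_Q0 H hW hA]
    refine congrArg (fun S : Subgroup (Sz F m) => Nat.card S) (le_antisymm ?_ ?_)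
    · exact fun v hv => ⟨hv.1, h v hv⟩
    · exact fun v hv => ⟨hv.1, Q0_le_Q H hv.2⟩
  right
  push Not at h
  obtain ⟨_, ⟨hM, a, b, rfl⟩, hv⟩ := h
  have ha : a ≠ 0 := fun e => hv ⟨b, by rw [e]⟩
  refine le_antisymm (by rw [sq, ← card_Q0 H hW hA]; exact card_W_le H (M := M)) ?_
  rw [sq]
  nth_rw 2 [← card_Q0 H hW hA]
  rw [← Finite.card_option, ← Nat.card_prod]
  let g : Option (Kt H M) → ↥(M ⊓ H.Q) := fun o => o.elim 1 fun k =>
    ⟨H.ds k.1 * H.us a b * (H.ds k.1)⁻¹, M.mul_mem (M.mul_mem (hlift _ k.2) hM) (M.inv_mem (hlift _ k.2)),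
      H.Q_conj_mem (H.ds_mem_B _) (H.us_mem_Q a b)⟩
  refine Nat.card_le_card_of_injective (fun p : Option (Kt H M) × ↥(M ⊓ Q0 H) =>
    g p.1 * (⟨p.2.1, p.2.2.1, Q0_le_Q H p.2.2.2⟩ : ↥(M ⊓ H.Q))) ?_
  rintro ⟨o, ⟨_, hoM, c, rfl⟩⟩ ⟨o', ⟨_, hoM', c', rfl⟩⟩ e
  have e' : (g o).1 * H.us 0 c = (g o').1 * H.us 0 c' := congrArg Subtype.val e
  have hoo : o = o' := by
    rcases o with _ | k <;> rcases o' with _ | l <;>
      simp only [g, Option.elim_none, Option.elim_some, OneMemClass.coe_one, one_mul, H.ds_us_conj, H.us_mul,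
        H.us_inj, add_zero] at e'
    · rfl
    · exact absurd e'.1.symm (mul_ne_zero l.1.ne_zero ha)
    · exact absurd e'.1 (mul_ne_zero k.1.ne_zero ha)
    · exact congrArg some (Subtype.ext (Units.ext (mul_right_cancel₀ ha e'.1)))
  subst hoo
  have := mul_left_cancel e'
  exact Prod.ext rfl (Subtype.ext this)

omit hW in
theorem cls_sum {x : Sz F m} (hx : x ∈ Xt H M) {u e : ℕ} (hu : u = Nat.card ↥(Subgroup.centralizer {x} ⊓ M))
    (heu : e * u = Nat.card ↥(M ⊓ Subgroup.normalizer ((Subgroup.centralizer {x} : Subgroup (Sz F m)) : Set (Sz F m))))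
    (he : 2 ∣ e) [Fintype (Sz F m)] :
    ∑ y ∈ (Set.toFinite (cls H M x)).toFinset, (inverters M y).ncard = (cls H M x).ncard * u := by
  classical
  haveI : Fact (Nat.Prime 2) := ⟨Nat.prime_two⟩
  obtain ⟨z₀, hi2⟩ := exists_prime_orderOf_dvd_card' 2 (heu ▸ dvd_mul_of_dvd_left he u)
  rw [← Subgroup.orderOf_coe] at hi2
  obtain ⟨hiM, hiN⟩ := z₀.2
  generalize z₀.1 = i at hi2 hiM hiN
  have hinv : i ∈ invSet M := ⟨hiM, fun e => by rw [e, orderOf_one] at hi2; omega,
    by rw [← sq, ← hi2, pow_orderOf_eq_one]⟩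
  rw [Set.ncard_eq_toFinset_card (cls H M x), ← smul_eq_mul, ← Finset.sum_const]
  refine Finset.sum_congr rfl fun y hy => ?_
  rw [Set.Finite.mem_toFinset] at hy
  obtain ⟨g, hg, z, ⟨hz, hzM, hz1⟩, rfl⟩ := hy
  obtain ⟨-, -, heq, hnq⟩ := part_facts H hx
  rw [inverters_conj M hg, inverters_torus H ⟨hzM, hz1, hnq z hz hz1⟩ hinv (by rw [heq z hz hz1]; exact hiN),
    heq z hz hz1, hu]

theorem count_main (hlift : ∀ k ∈ Kt H M, H.ds k ∈ M) (ht : Nat.card (Kt H M) ≠ 1) :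
    Nat.card ↥(M ⊓ H.Q) = (Nat.card (Kt H M) + 1) ^ 2 ∧ H.B.relIndex M = Nat.card ↥(M ⊓ H.Q) + 1 ∧
      (∃ g ∈ M, g ∉ H.T ∧ H.ws * g ∈ H.T) := by
  classical
  haveI := H.finite_Sz
  haveI := H.fin
  haveI := Fintype.ofFinite (Sz F m)
  -- the sizes
  have hor := w_eq_or H hW hlift hA
  have ha := card_Q0 H hW hA
  have hg := card_M H (M := M)
  have hX := eq1 H (M := M)
  have hI := ncard_invSet H hW hA
  have hn := one_lt_index H hW hA
  have hnodd := index_odd H hW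
  have h2 := eq2 H hW hA
  rw [ncard_X2 H hW] at hX
  rw [hI, ha] at h2
  have ht3 := Kt_not_three H M
  have htodd := Kt_odd H M
  obtain ⟨β, hβ⟩ := IsPGroup.iff_card.1 ((H.isPGroup_Q.to_le inf_le_right : IsPGroup 2 ↥(M ⊓ H.Q)))
  obtain ⟨α, hα⟩ := IsPGroup.iff_card.1 ((H.isPGroup_Q.to_le (inf_le_right.trans (Q0_le_Q H)) : IsPGroup 2 ↥(M ⊓ Q0 H)))
  -- the torus class
  obtain ⟨⟨k, hk⟩, hk1⟩ : ∃ k : Kt H M, k ≠ 1 := by
    haveI : Nontrivial (Kt H M) := Finite.one_lt_card_iff_nontrivial.1 (by have := htodd.pos; omega)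
    exact exists_ne 1
  have hkne : k ≠ 1 := fun e => hk1 (Subtype.ext e)
  have hC : Subgroup.centralizer {H.ds k} = H.T := H.centralizer_ds hkne
  have hd1 : H.ds k ≠ 1 := fun e => hkne (H.ds_inj (e.trans H.ds_one.symm))
  have hx0 : H.ds k ∈ Xt H M := ⟨hlift k hk, hd1, H.not_conj_Q_of_coprime (n := 2 ^ (2 * m + 1) - 1) hd1
    (Nat.Even.sub_odd Nat.one_le_two_pow (by simp [Nat.even_pow]) odd_one)
    (by rw [← H.card_T]; exact Subgroup.orderOf_dvd_natCard _ ⟨k, rfl⟩)⟩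
  have hTt : Nat.card ↥(H.T ⊓ M) = Nat.card (Kt H M) := by
    refine (Nat.card_eq_of_bijective (fun l : Kt H M =>
      (⟨H.ds l.1, ⟨l.1, rfl⟩, hlift _ l.2⟩ : ↥(H.T ⊓ M))) ⟨fun a b e => Subtype.ext (H.ds_inj (congrArg Subtype.val e)), ?_⟩).symm
    rintro ⟨_, ⟨l, rfl⟩, hl⟩
    exact ⟨⟨l, 1, one_mem _, by rw [one_mul]; exact hl⟩, rfl⟩
  obtain ⟨u₀, e₀, hu₀, heu₀, he₀, -, -, -, -, hc₀, -⟩ := part_data H hA hx0
  have hs₀ := cls_sum H hA hx0 hu₀ heu₀
  rw [hC, hTt] at hu₀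
  have hN₀ := card_normalizer_T_inf_le H M
  rw [hC] at heu₀
  rw [← heu₀, hTt, hu₀] at hN₀
  have hsplit := ncard_split H (Xt H M) (cls_subset H hx0)
  subst hu₀
  set n := H.B.relIndex M with hndef
  set w := Nat.card ↥(M ⊓ H.Q) with hwdef
  set t := Nat.card (Kt H M) with htdef
  have ht7 : 7 ≤ t := by
    have h1 : 1 ≤ t := htodd.pos
    have : t ≠ 3 := fun h => ht3 (h ▸ dvd_rfl)
    rw [ha] at hα
    match α, hα with
    | 0, h => simp at h; omega
    | 1, h => simp at h; omega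
    | 2, h => simp at h; omega
    | j + 3, h =>
      have : 8 ≤ 2 ^ (j + 3) := by rw [pow_add]; have := Nat.two_pow_pos j; omega
      omega
  have hw8 : 8 ≤ w := by
    rcases hor with h | h <;> rw [h]
    · omega
    · nlinarith
  have he0' : e₀ ≤ 2 := Nat.le_of_mul_le_mul_right hN₀ (by omega)
  set c₀ := (cls H M (H.ds k)).ncard
  rw [hg] at hc₀ hX
  have hc0 : c₀ * e₀ = n * w * (t - 1) := by
    refine Nat.eq_of_mul_eq_mul_right (show 0 < t by omega) ?_
    rw [mul_assoc, hc₀]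
    ring
  have hT : (t : ℤ) ≥ 7 := by exact_mod_cast ht7
  have hW8 : (w : ℤ) ≥ 8 := by exact_mod_cast hw8
  have hN : (n : ℤ) ≥ 2 := by exact_mod_cast hn
  have hnw : (16 : ℤ) ≤ n * w := le_trans (by norm_num) (mul_le_mul hN hW8 (by norm_num) (by linarith))
  have hnwt : (7 : ℤ) * (n * w) ≤ n * w * t := by
    rw [mul_comm]; exact mul_le_mul_of_nonneg_left hT (by linarith)
  have hw14 : (56 : ℤ) * n ≤ n * w * t := by
    have : (8 : ℤ) * n ≤ n * w := by rw [mul_comm]; exact mul_le_mul_of_nonneg_left hW8 (by linarith)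
    linarith
  have hgZ : (Nat.card M : ℤ) = n * w * t := by rw [hg]; push_cast; ring
  have hXZ : (n : ℤ) * w * t = 1 + n * (w - 1) + (c₀ + (Xt H M \ cls H M (H.ds k)).ncard) := by
    rw [hsplit] at hX
    have := congrArg (Nat.cast : ℕ → ℤ) hX
    push_cast [Nat.cast_sub (show 1 ≤ w by omega)] at this
    linarith
  have hc0Z : (c₀ : ℤ) * e₀ = n * w * (t - 1) := by
    have := congrArg (Nat.cast : ℕ → ℤ) hc0
    push_cast [Nat.cast_sub (show 1 ≤ t by omega)] at this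
    linarith
  have hlow : ∀ y ∈ Xt H M, ∃ u e : ℕ, u = Nat.card ↥(Subgroup.centralizer {y} ⊓ M) ∧
      e * u = Nat.card ↥(M ⊓ Subgroup.normalizer ((Subgroup.centralizer {y} : Subgroup (Sz F m)) : Set (Sz F m))) ∧
      (e = 1 ∨ e = 2 ∨ e = 4) ∧ 5 ≤ u ∧ Odd u ∧ u ∣ n * (w * t) ∧
      ((cls H M y).ncard : ℤ) * (e * u) = n * w * t * (u - 1) ∧
      4 * ((n : ℤ) * w * t) ≤ 5 * e * (cls H M y).ncard := by
    intro y hy
    obtain ⟨u, e, hu, heu, he, hu5, huodd, hd, -, hc, hl⟩ := part_data H hA hy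
    refine ⟨u, e, hu, heu, he, hu5, huodd, hg ▸ (dvd_mul_left u e).trans hd, ?_, ?_⟩
    · have := congrArg (Nat.cast : ℕ → ℤ) hc
      push_cast [Nat.cast_sub (show 1 ≤ u by omega)] at this
      rw [← hgZ]
      exact this
    · have := Int.ofNat_le.2 hl
      push_cast at this
      rw [← hgZ]
      exact this
  set R := Xt H M \ cls H M (H.ds k) with hRdef
  have hRsub : ∀ y ∈ R, cls H M y ⊆ R := fun y hy => cls_subset_sdiff H hx0 hy.1 hy.2 (cls_subset H hy.1)
  have hcop : ∀ y ∈ R, ∀ u, u = Nat.card ↥(Subgroup.centralizer {y} ⊓ M) → Odd u → u ∣ n * (w * t) → u ∣ n := by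
    intro y hy u hu huodd hd
    refine Nat.Coprime.dvd_of_dvd_mul_right (Nat.Coprime.mul_right ?_ ?_) hd
    · rw [hβ]
      exact Nat.Coprime.pow_right _ (Nat.coprime_two_right.2 huodd)
    · refine Nat.coprime_of_dvd' fun r hr hru hrt => absurd ?_ hy.2
      refine cls_of_common_prime H hx0 hy.1 hr ?_ (hu ▸ hru)
      rwa [hC, hTt]
  obtain rfl : e₀ = 2 := by
    rcases he₀ with rfl | h | rfl
    · exfalso
      push_cast at hc0Z
      have hR : (R.ncard : ℤ) = n - 1 := by linarith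
      obtain ⟨y, hy⟩ : R.Nonempty := Set.nonempty_of_ncard_ne_zero (by omega)
      obtain ⟨u, e, -, -, he, -, -, -, -, hl⟩ := hlow y hy.1
      have hy' : ((cls H M y).ncard : ℤ) ≤ R.ncard := by exact_mod_cast Set.ncard_le_ncard (hRsub y hy)
      rcases he with rfl | rfl | rfl <;> push_cast at hl <;> linarith
    · exact h
    · omega
  have hNw : ∃ g ∈ M, g ∉ H.T ∧ H.ws * g ∈ H.T := by
    by_contra hc
    push Not at hc
    have hle : M ⊓ Subgroup.normalizer (H.T : Set (Sz F m)) ≤ H.T ⊓ M := fun g hg' =>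
      ⟨(normalizer_T_cases H hg'.2).elim id fun h => by_contra fun hgT => hc g hg'.1 hgT h, hg'.1⟩
    have := Subgroup.card_le_of_le hle
    rw [← heu₀, hTt] at this
    omega
  push_cast at hc0Z
  have h2R : 2 * (R.ncard : ℤ) + 2 = n * (w * t - w + 2) := by linear_combination -2 * hXZ - hc0Z
  have hRlt : 2 * (R.ncard : ℤ) < n * w * t := by
    have : (8 : ℤ) * n ≤ n * w := by rw [mul_comm]; exact mul_le_mul_of_nonneg_left hW8 (by linarith)
    linarith
  obtain ⟨y₁, hy₁⟩ : R.Nonempty := by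
    refine Set.nonempty_of_ncard_ne_zero fun h0 => ?_
    rw [h0] at h2R
    push_cast at h2R
    linarith
  obtain ⟨u, e, hu, heu, he, hu5, huodd, hdu, hc₁, hl₁⟩ := hlow y₁ hy₁.1
  have hsp1 := ncard_split H R (hRsub y₁ hy₁)
  set c₁ := (cls H M y₁).ncard with hc₁def
  have hsp1Z : (R.ncard : ℤ) = c₁ + (R \ cls H M y₁).ncard := by exact_mod_cast hsp1
  have hcu : (5 : ℤ) ≤ u := by exact_mod_cast hu5
  have hXd : (Set.toFinite (Xt H M)).toFinset =
      (Set.toFinite (cls H M (H.ds k))).toFinset ∪ (Set.toFinite R).toFinset := by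
    ext z
    simp only [Finset.mem_union, Set.Finite.mem_toFinset, hRdef, Set.mem_diff]
    exact ⟨fun h => (em _).imp_right fun h' => ⟨h, h'⟩, fun h => h.elim (fun h => cls_subset H hx0 h) (·.1)⟩
  rw [hXd, Finset.sum_union (by rw [Set.Finite.disjoint_toFinset]; exact Set.disjoint_sdiff_right),
    hs₀ dvd_rfl] at h2
  rcases Set.eq_empty_or_nonempty (R \ cls H M y₁) with hR1 | ⟨y₂, hy₂⟩
  · -- a single further class
    exfalso
    rw [hR1, Set.ncard_empty, Nat.cast_zero, add_zero] at hsp1Z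
    obtain rfl : e = 2 := by
      rcases he with rfl | rfl | rfl
      · push_cast at hl₁; linarith
      · rfl
      · exfalso
        push_cast at hc₁
        exact arith_single_four hT hW8 hcu hN hsp1Z hc₁ h2R
    have hsR : (Set.toFinite R).toFinset = (Set.toFinite (cls H M y₁)).toFinset := by
      ext z
      simp only [Set.Finite.mem_toFinset]
      exact ⟨fun h => by_contra fun h' => (Set.eq_empty_iff_forall_notMem.1 hR1 z) ⟨h, h'⟩, fun h => hRsub y₁ hy₁ h⟩
    rw [hsR, cls_sum H hA hy₁.1 hu heu dvd_rfl, ← hc₁def] at h2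
    have h2Z := congrArg (Nat.cast : ℕ → ℤ) h2
    push_cast [Nat.cast_sub (show 1 ≤ n * t from Nat.mul_pos (by omega) (by omega)),
      Nat.cast_sub (show 2 ≤ t + 1 by omega), Nat.cast_sub (show 1 ≤ t by omega)] at h2Z
    push_cast at hc₁
    obtain ⟨j, hj⟩ := hcop y₁ hy₁ u hu huodd hdu
    have hjodd : Odd j := (Nat.odd_mul.1 (hj ▸ hnodd)).2
    have hnZ : (n : ℤ) = u * j := by exact_mod_cast hj
    obtain ⟨hA1, hrest⟩ := arith_one hT hW8 hcu hN h2R hsp1Z hc₁ hnZ hc0Z h2Z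
    obtain rfl : j = 1 := by
      have hjd : (j : ℤ) ∣ (2 : ℕ) := ⟨_, by push_cast; exact hA1.symm⟩
      rw [Int.natCast_dvd_natCast, Nat.dvd_prime Nat.prime_two] at hjd
      rcases hjd with h | h
      · exact h
      · exact absurd hjodd (by rw [h]; decide)
    obtain ⟨huw, hwt⟩ := hrest Nat.cast_one
    have hwt' : w = t + 1 := by exact_mod_cast hwt
    have huw' : u = w + 1 := by exact_mod_cast huw
    refine three_not_dvd_of_le H M (hg ▸ ((?_ : 3 ∣ u).trans hdu))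
    have h3w : ¬ 3 ∣ w := fun h => by
      rw [hβ] at h
      exact absurd (Nat.prime_three.dvd_of_dvd_pow h) (by norm_num)
    omega
  · -- two further classes
    obtain ⟨v, f, hv, hev, hf, hv5, hvodd, hdv, hc₂, hl₂⟩ := hlow y₂ hy₂.1.1
    have hsub2 : cls H M y₂ ⊆ R \ cls H M y₁ := cls_subset_sdiff H hy₁.1 hy₂.1.1 hy₂.2 (hRsub y₂ hy₂.1)
    have hsp2 := ncard_split H _ hsub2
    set c₂ := (cls H M y₂).ncard with hc₂def
    have hsp2Z : ((R \ cls H M y₁).ncard : ℤ) = c₂ + ((R \ cls H M y₁) \ cls H M y₂).ncard := by exact_mod_cast hsp2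
    obtain ⟨rfl, rfl⟩ : e = 4 ∧ f = 4 := by
      have := Int.natCast_nonneg ((R \ cls H M y₁) \ cls H M y₂).ncard
      rcases he with rfl | rfl | rfl <;> rcases hf with rfl | rfl | rfl <;>
        first
          | exact ⟨rfl, rfl⟩
          | (exfalso; push_cast at hl₁ hl₂; linarith)
    have hR2 : (R \ cls H M y₁) \ cls H M y₂ = ∅ := by
      rcases Set.eq_empty_or_nonempty ((R \ cls H M y₁) \ cls H M y₂) with h | ⟨y₃, hy₃⟩
      · exact h
      exfalso
      obtain ⟨_, g', -, -, hg', -, -, -, -, hl₃⟩ := hlow y₃ hy₃.1.1.1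
      have hle : ((cls H M y₃).ncard : ℤ) ≤ ((R \ cls H M y₁) \ cls H M y₂).ncard := by
        exact_mod_cast Set.ncard_le_ncard (cls_subset_sdiff H hy₂.1.1 hy₃.1.1.1 hy₃.2
          (cls_subset_sdiff H hy₁.1 hy₃.1.1.1 hy₃.1.2 (hRsub y₃ hy₃.1.1)))
      rcases hg' with rfl | rfl | rfl <;> push_cast at hl₁ hl₂ hl₃ <;> linarith
    rw [hR2, Set.ncard_empty, Nat.cast_zero, add_zero] at hsp2Z
    rw [hsp2Z] at hsp1Z
    push_cast at hc₁ hc₂
    have hsR : (Set.toFinite R).toFinset =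
        (Set.toFinite (cls H M y₁)).toFinset ∪ (Set.toFinite (cls H M y₂)).toFinset := by
      ext z
      simp only [Finset.mem_union, Set.Finite.mem_toFinset]
      refine ⟨fun h => ?_, fun h => h.elim (fun h => hRsub y₁ hy₁ h) (fun h => (hsub2 h).1)⟩
      by_contra hn'
      rw [not_or] at hn'
      exact (Set.eq_empty_iff_forall_notMem.1 hR2 z) ⟨⟨h, hn'.1⟩, hn'.2⟩
    rw [hsR, Finset.sum_union (by rw [Set.Finite.disjoint_toFinset]; exact cls_disjoint H hy₁.1 hy₂.1.1 hy₂.2),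
      cls_sum H hA hy₁.1 hu heu (by norm_num), cls_sum H hA hy₂.1.1 hv hev (by norm_num), ← hc₁def, ← hc₂def] at h2
    have h2Z := congrArg (Nat.cast : ℕ → ℤ) h2
    push_cast [Nat.cast_sub (show 1 ≤ n * t from Nat.mul_pos (by omega) (by omega)),
      Nat.cast_sub (show 2 ≤ t + 1 by omega), Nat.cast_sub (show 1 ≤ t by omega)] at h2Z
    have huv : Nat.Coprime u v := Nat.coprime_of_dvd' fun r hr hru hrv => absurd
      (cls_of_common_prime H hy₁.1 hy₂.1.1 hr (hu ▸ hru) (hv ▸ hrv)) hy₂.2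
    obtain ⟨j, hj⟩ := huv.mul_dvd_of_dvd_of_dvd (hcop y₁ hy₁ u hu huodd hdu) (hcop y₂ hy₂.1 v hv hvodd hdv)
    have hjodd : Odd j := (Nat.odd_mul.1 (hj ▸ hnodd)).2
    have hnZ : (n : ℤ) = u * v * j := by exact_mod_cast hj
    have hcv : (5 : ℤ) ≤ v := by exact_mod_cast hv5
    obtain ⟨hA1, hrest⟩ := arith_two hT hcu hcv hN h2R hsp1Z hc₁ hc₂ hnZ hc0Z h2Z
    obtain rfl : j = 1 := by
      have hjd : (j : ℤ) ∣ (4 : ℕ) := ⟨_, by push_cast; exact hA1.symm⟩
      rw [Int.natCast_dvd_natCast] at hjd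
      have := Nat.le_of_dvd (by norm_num) hjd
      obtain ⟨i, rfl⟩ := hjodd
      have hi1 : i ≤ 1 := by omega
      interval_cases i
      · rfl
      · norm_num at hjd
    have hP := hrest Nat.cast_one
    rcases hor with hw | hw
    · exfalso
      have hwZ : (w : ℤ) = t + 1 := by exact_mod_cast hw
      rw [hwZ] at hP
      exact arith_small_w hT hP
    · refine ⟨hw, ?_, hNw⟩
      have hwZ : (w : ℤ) = (t + 1) ^ 2 := by exact_mod_cast hw
      have : (n : ℤ) = w + 1 := by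
        refine mul_left_cancel₀ (show ((t : ℤ) - 1) ^ 2 ≠ 0 by
          exact pow_ne_zero _ (by linarith)) ?_
        rw [hwZ] at hP ⊢
        linear_combination hP
      exact_mod_cast this

end Cfsg.Agent.H8.SzSub
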