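import Cfsg.Agent.H8.SzSubField

/-!
Subfield embeddings of Suzuki groups and the consequences of the classification of their subgroups.
-/

set_option autoImplicit false

namespace Cfsg.Agent.H8.SzSub

open Cfsg.Agent.H7

variable {F : Type*} [Field F] {m : ℕ} {K' : Type*} [Field K'] {k : ℕ}

theorem le_of_dvd' (hdvd : 2 * k + 1 ∣ 2 * m + 1) : k ≤ m := by
  have := Nat.le_of_dvd (by omega) hdvd
  omega

theorem pow_two_compat (H' : SzHyp K' k) (hdvd : 2 * k + 1 ∣ 2 * m + 1) (x : K') :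
    x ^ (2 ^ m) = x ^ (2 ^ k) := by
  obtain ⟨d, hd⟩ := hdvd
  obtain ⟨e, rfl⟩ : Odd d := (Nat.odd_mul.1 (hd ▸ odd_two_mul_add_one m)).2
  have hd' : 2 * m + 1 = 2 * (e * (2 * k + 1)) + (2 * k + 1) := by rw [hd]; ring
  have hm : m = k + e * (2 * k + 1) := by omega
  subst hm
  rw [pow_add, pow_mul]
  clear hd hd'
  induction e with
  | zero => simp
  | succ e ih => rw [Nat.succ_mul, pow_add, pow_mul, ih, H'.pow_card]

theorem map_th (H' : SzHyp K' k) (ι : K' →+* F) (hdvd : 2 * k + 1 ∣ 2 * m + 1) (x : K') :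
    ι (th k x) = th m (ι x) := by
  unfold th
  rw [← map_pow, pow_succ, pow_succ 2 m, pow_mul, pow_mul, pow_two_compat H' hdvd]

theorem map_ov (H' : SzHyp K' k) (ι : K' →+* F) (hdvd : 2 * k + 1 ∣ 2 * m + 1) (x y : K') :
    ι (ov k x y) = ov m (ι x) (ι y) := by
  simp only [ov, map_add, map_mul, map_pow, map_th H' ι hdvd]

theorem map_um (H' : SzHyp K' k) (ι : K' →+* F) (hdvd : 2 * k + 1 ∣ 2 * m + 1) (a b : K') :
    Matrix.SpecialLinearGroup.map ι (um k a b) = um m (ι a) (ι b) := by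
  apply Subtype.ext
  rw [Matrix.SpecialLinearGroup.map_apply_coe, RingHom.mapMatrix_apply]
  ext i j
  fin_cases i <;> fin_cases j <;>
    simp [um, Matrix.map_apply, map_th H' ι hdvd, map_ov H' ι hdvd]

theorem map_dm (H' : SzHyp K' k) (ι : K' →+* F) (hdvd : 2 * k + 1 ∣ 2 * m + 1) (u : K'ˣ) :
    Matrix.SpecialLinearGroup.map ι (dm k u) = dm m (Units.map (ι : K' →* F) u) := by
  have e1 : (ι (u : K')) ^ (2 ^ m) = (ι (u : K')) ^ (2 ^ k) := by
    rw [← map_pow, ← map_pow, pow_two_compat H' hdvd]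
  apply Subtype.ext
  rw [Matrix.SpecialLinearGroup.map_apply_coe, RingHom.mapMatrix_apply]
  ext i j
  fin_cases i <;> fin_cases j <;>
    simp [dm, Matrix.map_apply, pow_succ, map_inv₀, e1]

theorem map_wm (ι : K' →+* F) : Matrix.SpecialLinearGroup.map ι (wm K') = wm F := by
  apply Subtype.ext
  rw [Matrix.SpecialLinearGroup.map_apply_coe, RingHom.mapMatrix_apply]
  ext i j
  fin_cases i <;> fin_cases j <;> simp [wm, Matrix.map_apply]

theorem map_mem (H : SzHyp F m) (H' : SzHyp K' k) (ι : K' →+* F) (hdvd : 2 * k + 1 ∣ 2 * m + 1)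
    (g : Sz K' k) : Matrix.SpecialLinearGroup.map ι g.1 ∈ Sz F m := by
  have hu : ∀ a b, Matrix.SpecialLinearGroup.map ι (H'.us a b).1 ∈ Sz F m := fun a b => by
    rw [show (H'.us a b).1 = um k a b from rfl, map_um H' ι hdvd]
    exact H.um_mem _ _
  have hd : ∀ u, Matrix.SpecialLinearGroup.map ι (H'.ds u).1 ∈ Sz F m := fun u => by
    rw [show (H'.ds u).1 = dm k u from rfl, map_dm H' ι hdvd]
    exact H.dm_mem _
  have hw : Matrix.SpecialLinearGroup.map ι H'.ws.1 ∈ Sz F m := by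
    rw [show H'.ws.1 = wm K' from rfl, map_wm ι]
    exact H.wm_mem
  rcases H'.decomp g with ⟨a, b, u, rfl⟩ | ⟨a, b, u, c, d, rfl⟩
  · rw [Subgroup.coe_mul, map_mul]
    exact mul_mem (hu a b) (hd u)
  · rw [Subgroup.coe_mul, Subgroup.coe_mul, Subgroup.coe_mul, map_mul, map_mul, map_mul]
    exact mul_mem (mul_mem (hu a b) hw) (mul_mem (hu c d) (hd u))

/-- The subfield embedding. -/
def emb (H : SzHyp F m) (H' : SzHyp K' k) (ι : K' →+* F) (hdvd : 2 * k + 1 ∣ 2 * m + 1) : Sz K' k →* Sz F m where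
  toFun g := ⟨Matrix.SpecialLinearGroup.map ι g.1, map_mem H H' ι hdvd g⟩
  map_one' := Subtype.ext (by simp)
  map_mul' g h := Subtype.ext (by simp)

theorem emb_injective (H : SzHyp F m) (H' : SzHyp K' k) (ι : K' →+* F) (hdvd : 2 * k + 1 ∣ 2 * m + 1) :
    Function.Injective (emb H H' ι hdvd) := by
  intro g h e
  have e' : (Matrix.SpecialLinearGroup.map ι g.1).1 = (Matrix.SpecialLinearGroup.map ι h.1).1 :=
    congrArg (fun x : Sz F m => x.1.1) e
  exact Subtype.ext (Subtype.ext (Matrix.map_injective ι.injective e'))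

theorem range_emb (H : SzHyp F m) (H' : SzHyp K' k) (ι : K' →+* F) (hdvd : 2 * k + 1 ∣ 2 * m + 1) :
    (emb H H' ι hdvd).range = SzK H ι.fieldRange := by
  have eu : ∀ a b, emb H H' ι hdvd (H'.us a b) = H.us (ι a) (ι b) := fun a b => Subtype.ext (map_um H' ι hdvd a b)
  have ed : ∀ u, emb H H' ι hdvd (H'.ds u) = H.ds (Units.map (ι : K' →* F) u) :=
    fun u => Subtype.ext (map_dm H' ι hdvd u)
  have ew : emb H H' ι hdvd H'.ws = H.ws := Subtype.ext (map_wm ι)
  refine le_antisymm ?_ ((Subgroup.closure_le _).2 ?_)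
  · rintro _ ⟨g, rfl⟩
    have hu : ∀ a b, H.us (ι a) (ι b) ∈ SzK H ι.fieldRange := fun a b =>
      Subgroup.subset_closure (Or.inl ⟨_, ⟨a, rfl⟩, _, ⟨b, rfl⟩, rfl⟩)
    have hd : ∀ u : K'ˣ, H.ds (Units.map (ι : K' →* F) u) ∈ SzK H ι.fieldRange := fun u =>
      Subgroup.subset_closure (Or.inr (Or.inl ⟨_, ⟨u, rfl⟩, rfl⟩))
    have hw : H.ws ∈ SzK H ι.fieldRange := Subgroup.subset_closure (Or.inr (Or.inr rfl))
    rcases H'.decomp g with ⟨a, b, u, rfl⟩ | ⟨a, b, u, c, d, rfl⟩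
    · rw [map_mul, eu, ed]
      exact mul_mem (hu a b) (hd u)
    · rw [map_mul, map_mul, map_mul, eu, eu, ed, ew]
      exact mul_mem (mul_mem (hu a b) hw) (mul_mem (hu c d) (hd u))
  · rintro x (⟨_, ⟨a, rfl⟩, _, ⟨b, rfl⟩, rfl⟩ | ⟨u, ⟨a, ha⟩, rfl⟩ | rfl)
    · exact ⟨_, eu a b⟩
    · have ha0 : a ≠ 0 := fun e => u.ne_zero (by rw [← ha, e, map_zero])
      refine ⟨H'.ds (Units.mk0 a ha0), ?_⟩
      rw [ed]
      congr 1
      exact Units.ext ha
    · exact ⟨_, ew⟩

theorem subfield_eq_of_card [Finite F] {K₁ K₂ : Subfield F} {n : ℕ} (h₁ : Nat.card K₁ = n) (h₂ : Nat.card K₂ = n) :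
    K₁ = K₂ := by
  classical
  have hn : 1 < n := h₁ ▸ Finite.one_lt_card
  have key : ∀ K₃ : Subfield F, Nat.card K₃ = n → (K₃ : Set F) = {x : F | x ^ n = x} := by
    intro K₃ h₃
    haveI := Fintype.ofFinite K₃
    have hsub : (K₃ : Set F) ⊆ {x : F | x ^ n = x} := fun x hx => by
      have := congrArg Subtype.val (FiniteField.pow_card (⟨x, hx⟩ : K₃))
      rw [← Nat.card_eq_fintype_card, h₃] at this
      exact this
    refine Set.eq_of_subset_of_ncard_le hsub ?_
    have h : {x : F | x ^ n = x} ⊆ ↑((Polynomial.X ^ n - Polynomial.X : Polynomial F).roots.toFinset) := fun x hx => by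
      have hx' : x ^ n = x := hx
      simp [Polynomial.mem_roots (FiniteField.X_pow_card_sub_X_ne_zero F hn), hx']
    refine (Set.ncard_le_ncard h).trans ?_
    rw [Set.ncard_coe_finset]
    refine (Multiset.toFinset_card_le _).trans ((Polynomial.card_roots' _).trans (le_of_eq ?_))
    rw [FiniteField.X_pow_card_sub_X_natDegree_eq F hn, ← h₃, ← Nat.card_coe_set_eq]
    rfl
  exact SetLike.coe_injective ((key K₁ h₁).trans (key K₂ h₂).symm)

theorem exists_hom [Finite F] [Finite K'] (H : SzHyp F m) (H' : SzHyp K' k) (hdvd : 2 * k + 1 ∣ 2 * m + 1) :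
    Nonempty (K' →+* F) := by
  haveI := H.charTwo
  haveI := H'.charTwo
  letI := ZMod.algebra F 2
  letI := ZMod.algebra K' 2
  haveI : Fact (Nat.Prime 2) := ⟨Nat.prime_two⟩
  have hK := FiniteField.pow_finrank_eq_natCard 2 K'
  have hF := FiniteField.pow_finrank_eq_natCard 2 F
  rw [H'.card] at hK
  rw [H.card] at hF
  obtain ⟨f⟩ := FiniteField.nonempty_algHom_of_finrank_dvd (F := ZMod 2) (K := K') (L := F)
    (by rw [Nat.pow_right_injective le_rfl hK, Nat.pow_right_injective le_rfl hF]; exact hdvd)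
  exact ⟨f.toRingHom⟩

theorem card_range (H' : SzHyp K' k) (ι : K' →+* F) : Nat.card ι.fieldRange = 2 ^ (2 * k + 1) := by
  rw [← H'.card]
  exact (Nat.card_congr (RingEquiv.ofBijective ι.rangeRestrictField
    ⟨fun a b e => ι.injective (congrArg Subtype.val e), ι.rangeRestrictField_bijective.2⟩).toEquiv).symm

theorem noAbNormal_of_equiv (H' : SzHyp K' k) {S : Subgroup (Sz F m)} (e : S ≃* Sz K' k) :
    NoAbNormal S ∧ S ≠ ⊥ := by
  haveI := H'.isSimple
  haveI := H'.nontrivial_Sz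
  constructor
  · intro A hA hn hc
    let B := (A.subgroupOf S).map e.toMonoidHom
    have hB : B.Normal := Subgroup.Normal.map ⟨fun x hx g => hn g.1 g.2 x.1 hx⟩ _ e.surjective
    rcases hB.eq_bot_or_eq_top with h | h
    · rw [Subgroup.map_eq_bot_iff_of_injective _ e.injective, Subgroup.subgroupOf_eq_bot, disjoint_iff,
        inf_eq_left.2 hA] at h
      exact h
    · exfalso
      have hcomm : ∀ x y : Sz K' k, x * y = y * x := fun x y => by
        have hx : x ∈ B := h ▸ Subgroup.mem_top x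
        have hy : y ∈ B := h ▸ Subgroup.mem_top y
        obtain ⟨a, ha, rfl⟩ := hx
        obtain ⟨b, hb, rfl⟩ := hy
        rw [← map_mul, ← map_mul]
        exact congrArg _ (Subtype.ext (hc a.1 ha b.1 hb))
      have hp := H'.perfect
      rw [commutator_def, Subgroup.commutator_eq_bot_iff_le_centralizer.2
        (fun x _ => Subgroup.mem_centralizer_iff.2 fun y _ => hcomm y x)] at hp
      exact bot_ne_top hp
  · rintro rfl
    exact not_subsingleton (Sz K' k) e.symm.toEquiv.subsingleton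

theorem SzK_top (H : SzHyp F m) : SzK H (⊤ : Subfield F) = ⊤ := by
  refine eq_top_iff.2 fun g _ => ?_
  have hu : ∀ a b, H.us a b ∈ SzK H (⊤ : Subfield F) := fun a b =>
    Subgroup.subset_closure (Or.inl ⟨a, trivial, b, trivial, rfl⟩)
  have hd : ∀ u, H.ds u ∈ SzK H (⊤ : Subfield F) := fun u =>
    Subgroup.subset_closure (Or.inr (Or.inl ⟨u, trivial, rfl⟩))
  have hw : H.ws ∈ SzK H (⊤ : Subfield F) := Subgroup.subset_closure (Or.inr (Or.inr rfl))
  rcases H.decomp g with ⟨a, b, u, rfl⟩ | ⟨a, b, u, c, d, rfl⟩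
  · exact mul_mem (hu a b) (hd u)
  · exact mul_mem (mul_mem (hu a b) hw) (mul_mem (hu c d) (hd u))

/-- Subgroups isomorphic to a smaller Suzuki group are conjugate to the subfield subgroup. -/
theorem conj_SzK (H : SzHyp F m) (H' : SzHyp K' k) (ι : K' →+* F) (hdvd : 2 * k + 1 ∣ 2 * m + 1)
    {S : Subgroup (Sz F m)} (e : S ≃* Sz K' k) : ∃ g, cj g S = SzK H ι.fieldRange := by
  haveI := H.fin
  haveI := H'.fin
  obtain ⟨hA, hne⟩ := noAbNormal_of_equiv H' e
  obtain ⟨g, j, K, hj, hjd, hK, hg⟩ := classify H hA hne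
  refine ⟨g, ?_⟩
  have H'' : SzHyp K j := ⟨inferInstance, hj, hK⟩
  have hr : K.subtype.fieldRange = K := Subfield.fieldRange_subtype K
  have c1 : Nat.card S = Nat.card (Sz K j) := by
    rw [← card_cj g S, hg]
    conv_lhs => rw [← hr, ← range_emb H H'' K.subtype hjd]
    exact (Nat.card_congr (MonoidHom.ofInjective (emb_injective H H'' K.subtype hjd)).toEquiv).symm
  rw [Nat.card_congr e.toEquiv, H''.card_Sz, H'.card_Sz] at c1
  have mono : ∀ a b : ℕ, a < b → (2 ^ (2 * a + 1)) ^ 2 * ((2 ^ (2 * a + 1)) ^ 2 + 1) * (2 ^ (2 * a + 1) - 1) <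
      (2 ^ (2 * b + 1)) ^ 2 * ((2 ^ (2 * b + 1)) ^ 2 + 1) * (2 ^ (2 * b + 1) - 1) := by
    intro a b h
    have h1 : 2 ^ (2 * a + 1) < 2 ^ (2 * b + 1) := Nat.pow_lt_pow_right one_lt_two (by omega)
    have h2 : 2 ≤ 2 ^ (2 * a + 1) := Nat.le_self_pow (by omega) 2
    exact Nat.mul_lt_mul_of_lt_of_lt (Nat.mul_lt_mul_of_lt_of_lt (Nat.pow_lt_pow_left h1 two_ne_zero)
      (Nat.add_lt_add_right (Nat.pow_lt_pow_left h1 two_ne_zero) 1)) (by omega)
  obtain rfl : j = k := by
    rcases lt_trichotomy j k with h | h | h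
    · exact absurd c1.symm (mono _ _ h).ne
    · exact h
    · exact absurd c1 (mono _ _ h).ne
  rw [hg, subfield_eq_of_card (K₁ := K) (K₂ := ι.fieldRange) hK (card_range H' ι)]

end Cfsg.Agent.H8.SzSub
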