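import Cfsg.Agent.H8.SzSubCount

/-!
A subgroup of the Suzuki group without abelian normal subgroups is conjugate to a subfield subgroup.
-/

set_option autoImplicit false

namespace Cfsg.Agent.H8.SzSub

open Cfsg.Agent.H7

variable {F : Type*} [Field F] {m : ℕ}

/-- The subfield subgroup over `K`. -/
def SzK (H : SzHyp F m) (K : Subfield F) : Subgroup (Sz F m) :=
  Subgroup.closure {g | (∃ a ∈ K, ∃ b ∈ K, g = H.us a b) ∨ (∃ k : Fˣ, (k : F) ∈ K ∧ g = H.ds k) ∨ g = H.ws}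

variable (H : SzHyp F m) {M : Subgroup (Sz F m)}
include H

theorem recognise (hW : M ⊓ H.Q ≠ ⊥) (hA : NoAbNormal M) (hlift : ∀ k ∈ Kt H M, H.ds k ∈ M)
    (ht : Nat.card (Kt H M) ≠ 1) {v : F} (hv : H.us 1 v ∈ M) :
    ∃ (k : ℕ) (K : Subfield F), 1 ≤ k ∧ 2 * k + 1 ∣ 2 * m + 1 ∧ Nat.card K = 2 ^ (2 * k + 1) ∧ M = SzK H K := by
  classical
  haveI := H.finite_Sz
  haveI := H.fin
  haveI := H.charTwo
  obtain ⟨hw, hn, g, hgM, -, l, hl⟩ := count_main H hW hA hlift ht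
  have ha := card_Q0 H hW hA
  set t := Nat.card (Kt H M) with htdef
  let Kset : Set F := insert 0 ((fun k : Fˣ => (k : F)) '' (Kt H M : Set Fˣ))
  have hcardK : Kset.ncard = t + 1 := by
    rw [Set.ncard_insert_of_notMem (by rintro ⟨k, -, hk⟩; exact k.ne_zero hk),
      Set.ncard_image_of_injective _ (fun _ _ h => Units.ext h), ← Nat.card_coe_set_eq]
    rfl
  have hS0card : ({b : F | H.us 0 b ∈ M}).ncard = t + 1 := by
    rw [← ha, ← Nat.card_coe_set_eq]
    refine Nat.card_eq_of_bijective (fun b : {b : F | H.us 0 b ∈ M} =>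
      (⟨H.us 0 b.1, b.2, _, rfl⟩ : ↥(M ⊓ Q0 H))) ⟨fun a b e => Subtype.ext (H.us_inj.1 (congrArg Subtype.val e)).2, ?_⟩
    rintro ⟨_, hM, b, rfl⟩
    exact ⟨⟨b, hM⟩, rfl⟩
  have hinjN : ∀ x y : F, th m x * x = th m y * y → x = y := by
    intro x y e
    rcases eq_or_ne y 0 with rfl | hy
    · rw [mul_zero] at e
      rcases mul_eq_zero.1 e with h | h
      · exact eq_zero_of_pow_eq_zero h
      · exact h
    · refine eq_of_div_eq_one (H.ker_norm (m := m) ?_)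
      rw [th, div_pow, div_mul_div_comm, ← th, ← th, mul_comm x, e, mul_comm y, div_self]
      exact mul_ne_zero (pow_ne_zero _ hy) hy
  have hsqM : ∀ x y : F, H.us x y ∈ M → H.us 0 (th m x * x) ∈ M := fun x y h => by
    rw [← H.us_sq x y]
    exact pow_mem h 2
  -- first coordinates
  have hAK : ∀ x y : F, H.us x y ∈ M → x ∈ Kset := by
    have hsub : Kset ⊆ {x : F | ∃ y, H.us x y ∈ M} := by
      rintro x (rfl | ⟨k, hk, rfl⟩)
      · exact ⟨0, by rw [H.us_zero]; exact one_mem M⟩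
      · refine ⟨(k : F) * th m (k : F) * v, ?_⟩
        have := M.mul_mem (M.mul_mem (hlift k hk) hv) (M.inv_mem (hlift k hk))
        rwa [H.ds_us_conj, mul_one] at this
    have hle : ({x : F | ∃ y, H.us x y ∈ M}).ncard ≤ t + 1 := by
      rw [← hS0card]
      refine Set.ncard_le_ncard_of_injOn (fun x => th m x * x) ?_ (fun x _ y _ e => hinjN x y e)
      rintro x ⟨y, hy⟩
      exact hsqM x y hy
    have := Set.eq_of_subset_of_ncard_le hsub (by rw [hcardK]; exact hle)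
    intro x y h
    rw [this]
    exact ⟨y, h⟩
  have hKA : ∀ x ∈ Kset, ∃ y, H.us x y ∈ M := by
    rintro x (rfl | ⟨k, hk, rfl⟩)
    · exact ⟨0, by rw [H.us_zero]; exact one_mem M⟩
    · refine ⟨(k : F) * th m (k : F) * v, ?_⟩
      have := M.mul_mem (M.mul_mem (hlift k hk) hv) (M.inv_mem (hlift k hk))
      rwa [H.ds_us_conj, mul_one] at this
  let K : Subfield F :=
    { carrier := Kset
      zero_mem' := Or.inl rfl
      one_mem' := Or.inr ⟨1, one_mem _, Units.val_one⟩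
      mul_mem' := by
        rintro a b (rfl | ⟨k, hk, rfl⟩) (rfl | ⟨k', hk', rfl⟩)
        · exact Or.inl (zero_mul _)
        · exact Or.inl (zero_mul _)
        · exact Or.inl (mul_zero _)
        · exact Or.inr ⟨k * k', mul_mem hk hk', Units.val_mul k k'⟩
      add_mem' := by
        intro a b ha hb
        obtain ⟨y, hy⟩ := hKA a ha
        obtain ⟨y', hy'⟩ := hKA b hb
        have := M.mul_mem hy hy'
        rw [H.us_mul] at this
        exact hAK _ _ this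
      neg_mem' := by intro a ha; rwa [H.neg_eq]
      inv_mem' := by
        rintro a (rfl | ⟨k, hk, rfl⟩)
        · exact Or.inl inv_zero
        · exact Or.inr ⟨k⁻¹, inv_mem hk, Units.val_inv_eq_inv_val k⟩ }
  have hKt : ∀ k : Fˣ, (k : F) ∈ K → k ∈ Kt H M := by
    rintro k (h | ⟨k', hk', h⟩)
    · exact absurd h k.ne_zero
    · exact Units.ext h ▸ hk'
  have hKth : ∀ x ∈ K, th m x ∈ K := fun x hx => pow_mem hx _
  have hcardK' : Nat.card K = t + 1 := by rw [← hcardK, ← Nat.card_coe_set_eq]; rfl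
  -- the centre
  have hS0 : ∀ b : F, H.us 0 b ∈ M ↔ b ∈ K := by
    have himg : (fun x => th m x * x) '' Kset = Kset := by
      refine Set.eq_of_subset_of_ncard_le ?_ (by rw [Set.ncard_image_of_injective _ (fun x y e => hinjN x y e)])
      rintro _ ⟨x, hx, rfl⟩
      exact K.mul_mem (hKth x hx) hx
    have hsub : Kset ⊆ {b : F | H.us 0 b ∈ M} := by
      intro b hb
      rw [← himg] at hb
      obtain ⟨x, hx, rfl⟩ := hb
      obtain ⟨y, hy⟩ := hKA x hx
      exact hsqM x y hy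
    have := Set.eq_of_subset_of_ncard_le hsub (by rw [hcardK, hS0card])
    exact fun b => ((Set.ext_iff.1 this) b).symm
  have hvK : v ∈ K := by
    obtain ⟨⟨k, hk⟩, hk1⟩ : ∃ k : Kt H M, k ≠ 1 := by
      haveI : Nontrivial (Kt H M) := Finite.one_lt_card_iff_nontrivial.1 (by
        have := (Kt_odd H M).pos
        omega)
      exact exists_ne 1
    have hk0 : (k : F) + 1 ≠ 0 := fun e => hk1 (Subtype.ext (Units.ext ((H.add_eq_zero_iff _ _).1 e)))
    have hkK : (k : F) ∈ K := Or.inr ⟨k, hk, rfl⟩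
    have hl' : Units.mk0 _ hk0 ∈ Kt H M := hKt _ (K.add_mem hkK K.one_mem)
    have e1 := M.mul_mem (M.mul_mem (hlift k hk) hv) (M.inv_mem (hlift k hk))
    rw [H.ds_us_conj, mul_one] at e1
    have e2 := M.mul_mem (M.mul_mem (hlift _ hl') hv) (M.inv_mem (hlift _ hl'))
    rw [H.ds_us_conj, mul_one, Units.val_mk0] at e2
    have e3 := M.mul_mem (M.mul_mem e1 hv) (M.inv_mem e2)
    rw [H.us_mul, mul_one, H.us_inv, H.us_mul, H.add_self] at e3
    have e4 := (hS0 _).1 e3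
    have hne : (k : F) + th m (k : F) ≠ 0 := by
      intro e
      rw [H.add_eq_zero_iff] at e
      have e' : (k : F) ^ 2 = k := by rw [← H.th_th (k : F), ← e, ← e]
      rw [sq] at e'
      exact hk1 (Subtype.ext (Units.ext ((mul_eq_right₀ k.ne_zero).1 e')))
    have e5 : th m (k : F) + ((k : F) + th m (k : F)) * v ∈ K := by
      convert e4 using 1
      rw [H.th_add, th_one]
      linear_combination (-((k : F) * th m (k : F) * v + v) - (((k : F) + 1) * (th m (k : F) + 1))) * H.two_eq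
    have e6 : ((k : F) + th m (k : F)) * v ∈ K := by
      have := K.sub_mem e5 (hKth _ hkK)
      rwa [add_sub_cancel_left] at this
    have := K.mul_mem (K.inv_mem (K.add_mem hkK (hKth _ hkK))) e6
    rwa [← mul_assoc, inv_mul_cancel₀ hne, one_mul] at this
  have hQ : ∀ x y : F, H.us x y ∈ M ↔ x ∈ K ∧ y ∈ K := by
    have h1 : ∀ x ∈ K, ∀ y ∈ K, H.us x y ∈ M := by
      rintro x (rfl | ⟨k, hk, rfl⟩) y hy
      · exact (hS0 y).2 hy
      · have e1 := M.mul_mem (M.mul_mem (hlift k hk) hv) (M.inv_mem (hlift k hk))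
        rw [H.ds_us_conj, mul_one] at e1
        have hkK : (k : F) ∈ K := Or.inr ⟨k, hk, rfl⟩
        have := M.mul_mem ((hS0 (y + (k : F) * th m (k : F) * v)).2 (K.add_mem hy
          (K.mul_mem (K.mul_mem hkK (hKth _ hkK)) hvK))) e1
        rw [H.us_mul, zero_add, th_zero, zero_mul, add_zero, add_assoc, H.add_self, add_zero] at this
        exact this
    refine fun x y => ⟨fun h => ?_, fun h => h1 x h.1 y h.2⟩
    have hx : x ∈ K := hAK x y h
    refine ⟨hx, ?_⟩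
    have := M.mul_mem h (M.inv_mem (h1 x hx 0 K.zero_mem))
    rw [H.us_inv, H.us_mul, H.add_self, zero_add, mul_comm x (th m x), add_assoc, H.add_self, add_zero] at this
    exact (hS0 y).1 this
  -- the orbit of infinity
  have hgl : g = H.ws * H.ds l := by
    rw [show H.ds l = H.ws * g from hl, ← mul_assoc, H.ws_mul_self, one_mul]
  have hginf : g • pinf F = pzero F := by rw [hgl, mul_smul, H.ds_inf, H.ws_inf]
  let P : Set (Projectivization F (Fin 4 → F)) :=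
    insert (pinf F) ((fun p : F × F => pt m p.1 p.2) '' ((K : Set F) ×ˢ (K : Set F)))
  have horb : MulAction.orbit M (pinf F) = P := by
    have hsub : P ⊆ MulAction.orbit M (pinf F) := by
      rintro p (rfl | ⟨⟨x, y⟩, ⟨hx, hy⟩, rfl⟩)
      · exact MulAction.mem_orbit_self _
      · refine ⟨⟨H.us x y * g, M.mul_mem ((hQ x y).2 ⟨hx, hy⟩) hgM⟩, ?_⟩
        show (H.us x y * g) • pinf F = pt m x y
        rw [mul_smul, hginf, H.us_zero_pt]
    have hcardP : P.ncard = (t + 1) ^ 2 + 1 := by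
      rw [Set.ncard_insert_of_notMem (by rintro ⟨p, -, hp⟩; exact pt_ne_inf _ _ hp),
        Set.ncard_image_of_injective _ (fun p q h => Prod.ext (pt_inj.1 h).1 (pt_inj.1 h).2), Set.ncard_prod, sq]
      congr 2 <;> exact hcardK
    have hst : (MulAction.stabilizer M (pinf F)) = H.B.subgroupOf M := by
      ext x
      rfl
    have horbcard : (MulAction.orbit M (pinf F)).ncard = (t + 1) ^ 2 + 1 := by
      rw [← MulAction.index_stabilizer, hst, ← hw, ← hn]
      rfl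
    have hfin : (MulAction.orbit M (pinf F)).Finite := by
      haveI : Finite M := inferInstance
      exact Set.finite_range _
    exact (Set.eq_of_subset_of_ncard_le hsub (by rw [hcardP, horbcard]) hfin).symm
  have horb' : ∀ x ∈ M, x • pinf F = pinf F ∨ ∃ a ∈ K, ∃ b ∈ K, x • pinf F = pt m a b := by
    intro x hx
    have h : x • pinf F ∈ MulAction.orbit M (pinf F) := ⟨⟨x, hx⟩, rfl⟩
    rw [horb] at h
    rcases h with h | ⟨⟨a, b⟩, ⟨ha, hb⟩, h⟩
    · exact Or.inl h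
    · exact Or.inr ⟨a, ha, b, hb, h.symm⟩
  have hl0 : (l : F) ≠ 0 := l.ne_zero
  have hov : ¬((l : F) = 0 ∧ (0 : F) = 0) := fun e => hl0 e.1
  have hlK : l ∈ Kt H M := by
    have h1 : (g * H.us 1 0 * g) • pinf F = pt m ((0 : F) / ov m (l : F) 0) ((l : F) / ov m (l : F) 0) := by
      rw [mul_smul, mul_smul, hginf, H.us_zero_pt, hgl, mul_smul, H.ds_pt, mul_one, mul_zero]
      exact H.wm_smul_pt _ _ hov
    have hz : (l : F) / ov m (l : F) 0 ∈ K := by
      rcases horb' _ (M.mul_mem (M.mul_mem hgM ((hQ 1 0).2 ⟨K.one_mem, K.zero_mem⟩)) hgM) with h | ⟨a, -, b, hb, h⟩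
      · exact absurd (h1.symm.trans h) (pt_ne_inf _ _)
      · rw [h1, pt_inj] at h
        exact h.2 ▸ hb
    have hz' : th m (l : F) * l ∈ K := by
      have h2 : (l : F) / ov m (l : F) 0 = (th m (l : F) * l)⁻¹ := by
        have hth : th m (l : F) ≠ 0 := pow_ne_zero _ hl0
        rw [ov, th_zero, mul_zero, zero_add, add_zero]
        field_simp
      rw [h2] at hz
      simpa using K.inv_mem hz
    have himg : (fun x => th m x * x) '' Kset = Kset := by
      refine Set.eq_of_subset_of_ncard_le ?_ (by rw [Set.ncard_image_of_injective _ (fun x y e => hinjN x y e)])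
      rintro _ ⟨x, hx, rfl⟩
      exact K.mul_mem (hKth x hx) hx
    obtain ⟨x, hx, he⟩ : th m (l : F) * l ∈ (fun x => th m x * x) '' Kset := by rw [himg]; exact hz'
    exact hKt l ((hinjN _ _ he) ▸ hx)
  have hws : H.ws ∈ M := by
    have := M.mul_mem hgM (M.inv_mem (hlift l hlK))
    rwa [hgl, mul_inv_cancel_right] at this
  have hM : M = SzK H K := by
    refine le_antisymm (fun x hx => ?_) ((Subgroup.closure_le M).2 ?_)
    · have key : ∀ y ∈ M, y ∈ H.B → y ∈ SzK H K := by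
        intro y hy hyB
        obtain ⟨a, b, k, rfl⟩ := H.fix_inf hyB
        have hk : k ∈ Kt H M := ⟨_, H.us_mem_Q a b, hy⟩
        have hab := M.mul_mem hy (M.inv_mem (hlift k hk))
        rw [mul_inv_cancel_right] at hab
        obtain ⟨ha', hb'⟩ := (hQ a b).1 hab
        exact mul_mem (Subgroup.subset_closure (Or.inl ⟨a, ha', b, hb', rfl⟩))
          (Subgroup.subset_closure (Or.inr (Or.inl ⟨k, Or.inr ⟨k, hk, rfl⟩, rfl⟩)))
      rcases horb' x hx with h | ⟨a, ha', b, hb', h⟩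
      · exact key x hx h
      · have hab : H.us a b * H.ws ∈ SzK H K :=
          mul_mem (Subgroup.subset_closure (Or.inl ⟨a, ha', b, hb', rfl⟩)) (Subgroup.subset_closure (Or.inr (Or.inr rfl)))
        have h2 : ((H.us a b * H.ws)⁻¹ * x) • pinf F = pinf F := by
          rw [mul_smul, h, inv_smul_eq_iff, mul_smul, H.ws_inf, H.us_zero_pt]
        have := key _ (M.mul_mem (M.inv_mem (M.mul_mem ((hQ a b).2 ⟨ha', hb'⟩) hws)) hx) h2
        have := mul_mem hab this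
        rwa [mul_inv_cancel_left] at this
    · rintro x (⟨a, ha', b, hb', rfl⟩ | ⟨k, hk, rfl⟩ | rfl)
      · exact (hQ a b).2 ⟨ha', hb'⟩
      · exact hlift k (hKt k hk)
      · exact hws
  obtain ⟨α, hα⟩ := IsPGroup.iff_card.1 ((H.isPGroup_Q.to_le (inf_le_right.trans (Q0_le_Q H)) : IsPGroup 2 ↥(M ⊓ Q0 H)))
  rw [ha] at hα
  have hdvd : α ∣ 2 * m + 1 := by
    haveI := Fintype.ofFinite K
    haveI := Fintype.ofFinite F
    have h := Module.card_eq_pow_finrank (K := K) (V := F)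
    rw [← Nat.card_eq_fintype_card, ← Nat.card_eq_fintype_card, hcardK', hα, H.card, ← pow_mul] at h
    exact ⟨_, Nat.pow_right_injective le_rfl h⟩
  obtain ⟨k, rfl⟩ : Odd α := (odd_two_mul_add_one m).of_dvd_nat hdvd
  refine ⟨k, K, ?_, hdvd, hcardK'.trans hα, hM⟩
  rcases Nat.eq_zero_or_pos k with rfl | hk
  · exact absurd (by simpa using hα) ht
  · exact hk

theorem Kt_cj_le {b : Sz F m} (hb : b ∈ H.B) : Kt H M ≤ Kt H (cj b M) := by
  rintro k ⟨v, hv, hk⟩
  obtain ⟨q, hq, j, rfl⟩ := exists_Q_ds H hb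
  refine ⟨(q * H.ds j) * v * (q * H.ds j)⁻¹ * (q * (H.ds k * q⁻¹ * (H.ds k)⁻¹)),
    mul_mem (H.Q_conj_mem hb hv) (mul_mem hq (H.Q_conj_mem (H.ds_mem_B k) (inv_mem hq))), ?_⟩
  refine ⟨_, hk, ?_⟩
  have e : H.ds j * H.ds k = H.ds k * H.ds j := by rw [← H.ds_mul, ← H.ds_mul, mul_comm]
  show (q * H.ds j) * (v * H.ds k) * (q * H.ds j)⁻¹ = _
  have e' : H.ds j * H.ds k * (H.ds j)⁻¹ = H.ds k := by rw [e, mul_inv_cancel_right]
  calc (q * H.ds j) * (v * H.ds k) * (q * H.ds j)⁻¹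
      = (q * H.ds j) * v * (q * H.ds j)⁻¹ * (q * (H.ds j * H.ds k * (H.ds j)⁻¹) * q⁻¹) := by group
    _ = _ := by rw [e']; group

theorem Kt_cj {b : Sz F m} (hb : b ∈ H.B) : Kt H (cj b M) = Kt H M := by
  refine le_antisymm ?_ (Kt_cj_le H hb)
  have := Kt_cj_le H (M := cj b M) (inv_mem hb)
  rwa [cj_cj, inv_mul_cancel, cj_one] at this

theorem W_cj {b : Sz F m} (hb : b ∈ H.B) (hW : M ⊓ H.Q ≠ ⊥) : cj b M ⊓ H.Q ≠ ⊥ := by
  intro h
  obtain ⟨u, hu, hu1⟩ := (Subgroup.bot_or_exists_ne_one _).resolve_left hW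
  have : b * u * b⁻¹ ∈ cj b M ⊓ H.Q := ⟨conj_mem_cj hu.1, H.Q_conj_mem hb hu.2⟩
  rw [h, Subgroup.mem_bot, conj_eq_one_iff] at this
  exact hu1 this

theorem classify (hA : NoAbNormal M) (hne : M ≠ ⊥) :
    ∃ (g : Sz F m) (k : ℕ) (K : Subfield F), 1 ≤ k ∧ 2 * k + 1 ∣ 2 * m + 1 ∧ Nat.card K = 2 ^ (2 * k + 1) ∧
      cj g M = SzK H K := by
  classical
  haveI := H.finite_Sz
  haveI := H.fin
  rcases Set.eq_empty_or_nonempty (X2 H M) with hX | ⟨x, hxM, hx1, z, hz⟩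
  · exact (odd_absurd H hA hne hX).elim
  have hW1 : cj z M ⊓ H.Q ≠ ⊥ := fun h => hx1 (conj_eq_one_iff.1 (Subgroup.mem_bot.1 (h ▸ ⟨conj_mem_cj hxM, hz⟩ :
    z * x * z⁻¹ ∈ (⊥ : Subgroup (Sz F m)))))
  have hA1 := hA.cj z
  have ht : Nat.card (Kt H (cj z M)) ≠ 1 := fun h => t_one_absurd H hW1 hA1 h
  obtain ⟨⟨k₀, hk₀⟩, hgen⟩ := IsCyclic.exists_generator (α := Kt H (cj z M))
  have hk1 : k₀ ≠ 1 := by
    rintro rfl
    refine ht (Nat.card_eq_one_iff_unique.2 ⟨⟨fun a b => ?_⟩, ⟨1⟩⟩)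
    obtain ⟨i, rfl⟩ := Subgroup.mem_zpowers_iff.1 (hgen a)
    obtain ⟨j, rfl⟩ := Subgroup.mem_zpowers_iff.1 (hgen b)
    simp [show (⟨1, hk₀⟩ : Kt H (cj z M)) = 1 from rfl]
  obtain ⟨_, ⟨c, d, rfl⟩, hcd⟩ := hk₀
  have h1 : (k₀ : F) + 1 ≠ 0 := fun e => hk1 (Units.ext ((H.add_eq_zero_iff _ _).1 e))
  have h2 : (k₀ : F) * th m (k₀ : F) + 1 ≠ 0 := fun e =>
    hk1 (Units.ext (H.ker_norm ((H.add_eq_zero_iff _ _).1 e)))
  set x₀ := c / ((k₀ : F) + 1) with hx₀
  set y₀ := (th m c * ((k₀ : F) * x₀) + d) / ((k₀ : F) * th m (k₀ : F) + 1) with hy₀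
  have hfix : (H.us c d * H.ds k₀) • pt m x₀ y₀ = pt m x₀ y₀ := by
    rw [mul_smul, H.ds_pt, H.us_pt, pt_inj]
    have e1 : x₀ * ((k₀ : F) + 1) = c := div_mul_cancel₀ _ h1
    have e2 : y₀ * ((k₀ : F) * th m (k₀ : F) + 1) = th m c * ((k₀ : F) * x₀) + d := div_mul_cancel₀ _ h2
    exact ⟨by linear_combination -e1 + (k₀ : F) * x₀ * H.two_eq,
      by linear_combination -e2 + (k₀ : F) * th m (k₀ : F) * y₀ * H.two_eq⟩
  set u := (H.us x₀ y₀)⁻¹ with hu
  have huB : u ∈ H.B := inv_mem (H.us_mem_B _ _)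
  have hds : H.ds k₀ ∈ cj u (cj z M) := by
    have hmem := conj_mem_cj (g := u) hcd
    have hup : u • pt m x₀ y₀ = pzero F := by rw [hu, inv_smul_eq_iff, H.us_zero_pt]
    have hui : u⁻¹ • pzero F = pt m x₀ y₀ := by rw [inv_smul_eq_iff, hup]
    have huinf : u⁻¹ • pinf F = pinf F := inv_mem huB
    obtain ⟨l, hl⟩ := H.fix_both (g := u * (H.us c d * H.ds k₀) * u⁻¹)
      (by rw [mul_smul, huinf, mul_smul, mul_smul, H.ds_inf, H.us_inf]; exact huB)
      (by rw [mul_smul, hui, mul_smul, hfix, hup])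
    have hlk : l = k₀ := by
      refine (Q_ds_inj H (one_mem _) (v := u * H.us c d * (H.ds k₀ * u⁻¹ * (H.ds k₀)⁻¹)) ?_ (k := l) (l := k₀) ?_).2
      · exact mul_mem (mul_mem (inv_mem (H.us_mem_Q _ _)) (H.us_mem_Q c d))
          (H.Q_conj_mem (H.ds_mem_B k₀) (inv_mem (inv_mem (H.us_mem_Q x₀ y₀))))
      · rw [one_mul, ← hl]
        group
    rw [hl, hlk] at hmem
    exact hmem
  have hlift : ∀ k ∈ Kt H (cj u (cj z M)), H.ds k ∈ cj u (cj z M) := by
    intro k hk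
    rw [Kt_cj H huB] at hk
    obtain ⟨i, hi⟩ := Subgroup.mem_zpowers_iff.1 (hgen ⟨k, hk⟩)
    have hi' : k₀ ^ i = k := congrArg Subtype.val hi
    rw [← hi', show H.ds (k₀ ^ i) = H.ds k₀ ^ i from map_zpow H.dsHom k₀ i]
    exact zpow_mem hds i
  have hW2 := W_cj H huB hW1
  have hA2 := hA1.cj u
  have ht2 : Nat.card (Kt H (cj u (cj z M))) ≠ 1 := by rw [Kt_cj H huB]; exact ht
  obtain ⟨hw, -, -⟩ := count_main H hW2 hA2 hlift ht2
  obtain ⟨a, b, hab, ha0⟩ : ∃ a b : F, H.us a b ∈ cj u (cj z M) ∧ a ≠ 0 := by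
    by_contra hc
    push Not at hc
    have hle : cj u (cj z M) ⊓ H.Q ≤ cj u (cj z M) ⊓ Q0 H := by
      rintro _ ⟨hM, a, b, rfl⟩
      exact ⟨hM, b, by rw [hc a b hM]⟩
    have := Subgroup.card_le_of_le hle
    rw [hw, card_Q0 H hW2 hA2] at this
    have h3 : 2 ≤ Nat.card (Kt H (cj u (cj z M))) + 1 := by have := (Kt_odd H (cj u (cj z M))).pos; omega
    nlinarith
  set d₀ := H.ds (Units.mk0 a ha0)⁻¹ with hd₀
  have hdB : d₀ ∈ H.B := H.ds_mem_B _
  have hlift3 : ∀ k ∈ Kt H (cj d₀ (cj u (cj z M))), H.ds k ∈ cj d₀ (cj u (cj z M)) := by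
    intro k hk
    rw [Kt_cj H hdB] at hk
    refine ⟨_, hlift k hk, ?_⟩
    show d₀ * H.ds k * d₀⁻¹ = H.ds k
    rw [hd₀, ← H.ds_mul, mul_comm, H.ds_mul, mul_inv_cancel_right]
  have hv : H.us 1 ((Units.mk0 a ha0)⁻¹.val * th m (Units.mk0 a ha0)⁻¹.val * b) ∈ cj d₀ (cj u (cj z M)) := by
    refine ⟨_, hab, ?_⟩
    show d₀ * H.us a b * d₀⁻¹ = _
    rw [hd₀, H.ds_us_conj]
    congr 1
    rw [Units.val_inv_eq_inv_val, Units.val_mk0, inv_mul_cancel₀ ha0]
  obtain ⟨k, K, hk, hdvd, hcard, hM⟩ := recognise H (W_cj H hdB hW2) (hA2.cj d₀) hlift3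
    (by rw [Kt_cj H hdB]; exact ht2) hv
  exact ⟨d₀ * (u * z), k, K, hk, hdvd, hcard, by rw [← cj_cj, ← cj_cj, hM]⟩

end Cfsg.Agent.H8.SzSub
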