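import Cfsg.Agent.H8.SzSubBasic

/-!
A subgroup of the Suzuki group meeting the standard Sylow 2-subgroup: its 2-elements, its involutions and the
stabiliser of infinity.
-/

set_option autoImplicit false

namespace Cfsg.Agent.H8.SzSub

open Cfsg.Agent.H7

variable {F : Type*} [Field F] {m : ℕ}

/-- The torus components of the elements of `M` fixing infinity. -/
def Kt (H : SzHyp F m) (M : Subgroup (Sz F m)) : Subgroup Fˣ where
  carrier := {k | ∃ u ∈ H.Q, u * H.ds k ∈ M}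
  one_mem' := ⟨1, one_mem _, by rw [H.ds_one, mul_one]; exact one_mem _⟩
  mul_mem' := by
    rintro k l ⟨u, hu, hk⟩ ⟨v, hv, hl⟩
    obtain ⟨v', hv', e⟩ := Q_ds_mul H u hv k l
    exact ⟨u * v', mul_mem hu hv', e ▸ mul_mem hk hl⟩
  inv_mem' := by
    rintro k ⟨u, hu, hk⟩
    refine ⟨H.ds k⁻¹ * u⁻¹ * (H.ds k⁻¹)⁻¹, H.Q_conj_mem (H.ds_mem_B _) (inv_mem hu), ?_⟩
    have := inv_mem hk
    rw [mul_inv_rev, H.ds_inv] at this
    rwa [inv_mul_cancel_right]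

variable (H : SzHyp F m) {M : Subgroup (Sz F m)}
include H

theorem mem_Kt_of_mem {u : Sz F m} (hu : u ∈ H.Q) {k : Fˣ} (h : u * H.ds k ∈ M) : k ∈ Kt H M := ⟨u, hu, h⟩

theorem Kt_dvd (M : Subgroup (Sz F m)) : Nat.card (Kt H M) ∣ 2 ^ (2 * m + 1) - 1 := by
  rw [← H.card_units]
  exact Subgroup.card_subgroup_dvd_card _

theorem Kt_odd (M : Subgroup (Sz F m)) : Odd (Nat.card (Kt H M)) :=
  Odd.of_dvd_nat (Nat.Even.sub_odd Nat.one_le_two_pow (by simp [Nat.even_pow]) odd_one) (Kt_dvd H M)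

theorem Kt_not_three (M : Subgroup (Sz F m)) : ¬ 3 ∣ Nat.card (Kt H M) := by
  intro h
  refine not_three_dvd_card H (h.trans ((Kt_dvd H M).trans ?_))
  rw [H.card_Sz]
  exact dvd_mul_left _ _

theorem card_Mb : Nat.card ↥(M ⊓ H.B) = Nat.card ↥(M ⊓ H.Q) * Nat.card (Kt H M) := by
  classical
  have hch : ∀ k : Kt H M, ∃ u ∈ H.Q, u * H.ds k.1 ∈ M := fun k => k.2
  choose r hrQ hrM using hch
  rw [← Nat.card_prod]
  refine (Nat.card_eq_of_bijective (fun p : ↥(M ⊓ H.Q) × Kt H M =>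
    (⟨p.1.1 * (r p.2 * H.ds p.2.1), mul_mem p.1.2.1 (hrM _),
      mul_mem (H.Q_le_B p.1.2.2) (mem_B_of_Q_ds H (hrQ _) _)⟩ : ↥(M ⊓ H.B))) ⟨?_, ?_⟩).symm
  · rintro ⟨⟨v, hv⟩, k⟩ ⟨⟨v', hv'⟩, k'⟩ h
    have h' : v * (r k * H.ds k.1) = v' * (r k' * H.ds k'.1) := congrArg Subtype.val h
    rw [← mul_assoc, ← mul_assoc] at h'
    obtain ⟨e1, e2⟩ := Q_ds_inj H (mul_mem hv.2 (hrQ _)) (mul_mem hv'.2 (hrQ _)) h'
    obtain rfl : k = k' := Subtype.ext e2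
    obtain rfl := mul_right_cancel e1
    rfl
  · rintro ⟨g, hgM, hgB⟩
    obtain ⟨u, hu, k, rfl⟩ := exists_Q_ds H hgB
    have hk : k ∈ Kt H M := ⟨u, hu, hgM⟩
    refine ⟨(⟨u * (r ⟨k, hk⟩)⁻¹, ?_, H.Q.mul_mem hu (H.Q.inv_mem (hrQ _))⟩, ⟨k, hk⟩), Subtype.ext ?_⟩
    · have := M.mul_mem hgM (M.inv_mem (hrM ⟨k, hk⟩))
      simpa [mul_assoc] using this
    · show u * (r ⟨k, hk⟩)⁻¹ * (r ⟨k, hk⟩ * H.ds k) = u * H.ds k
      group

theorem card_M : Nat.card M = H.B.relIndex M * (Nat.card ↥(M ⊓ H.Q) * Nat.card (Kt H M)) := by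
  rw [← card_Mb, ← Subgroup.inf_relIndex_left M H.B, mul_comm, ← Subgroup.relIndex_bot_left (M ⊓ H.B),
    Subgroup.relIndex_mul_relIndex _ _ _ bot_le inf_le_left, Subgroup.relIndex_bot_left]

theorem eq1 : Nat.card M = 1 + (X2 H M).ncard + (Xt H M).ncard := by
  haveI := H.finite_Sz
  have hU : X2 H M ∪ Xt H M = (M : Set (Sz F m)) \ {1} := by
    ext x
    constructor
    · rintro (⟨h1, h2, -⟩ | ⟨h1, h2, -⟩) <;> exact ⟨h1, h2⟩
    · rintro ⟨h1, h2⟩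
      by_cases h : ∃ z, z * x * z⁻¹ ∈ H.Q
      · exact Or.inl ⟨h1, h2, h⟩
      · exact Or.inr ⟨h1, h2, h⟩
  have hd : Disjoint (X2 H M) (Xt H M) := Set.disjoint_left.2 fun x h h' => h'.2.2 h.2.2
  rw [add_assoc, ← Set.ncard_union_eq hd, hU, Set.ncard_sdiff_singleton_of_mem (one_mem M),
    ← Nat.card_coe_set_eq, SetLike.coe_sort_coe]
  have := (Nat.card_pos (α := M))
  omega

variable (hW : M ⊓ H.Q ≠ ⊥)
include hW

theorem exists_ne_one : ∃ u ∈ M, u ∈ H.Q ∧ u ≠ 1 := by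
  obtain ⟨u, hu, hu1⟩ := (Subgroup.bot_or_exists_ne_one _).resolve_left hW
  exact ⟨u, hu.1, hu.2, hu1⟩

theorem exists_sylow : ∃ S : Sylow 2 M, (S : Subgroup M).map M.subtype = M ⊓ H.Q := by
  haveI := H.finite_Sz
  haveI : Fact (Nat.Prime 2) := ⟨Nat.prime_two⟩
  have hp : IsPGroup 2 ((M ⊓ H.Q).subgroupOf M) := by
    refine IsPGroup.of_equiv (G := ↥(M ⊓ H.Q)) (H.isPGroup_Q.to_le inf_le_right) ?_
    exact (Subgroup.subgroupOfEquivOfLe inf_le_left).symm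
  obtain ⟨S, hS⟩ := hp.exists_le_sylow
  refine ⟨S, le_antisymm ?_ ?_⟩
  · obtain ⟨u, huM, huQ, hu1⟩ := exists_ne_one H hW
    obtain ⟨P, hP⟩ := (S.2.map M.subtype).exists_le_sylow
    have h1 : u ∈ (P : Subgroup (Sz F m)) := hP ⟨⟨u, huM⟩, hS ⟨huM, huQ⟩, rfl⟩
    have h2 : u ∈ ((H.sylowQ : Sylow 2 (Sz F m)) : Subgroup (Sz F m)) := by rwa [H.coe_sylowQ]
    have := H.sylow_eq_of_mem hu1 h1 h2
    rw [H.coe_sylowQ] at this
    exact le_inf (Subgroup.map_subtype_le _) (hP.trans this.le)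
  · intro x hx
    exact ⟨⟨x, hx.1⟩, hS hx, rfl⟩

theorem exists_conj_mem_W {x : Sz F m} (hx : x ∈ X2 H M) : ∃ g ∈ M, g * x * g⁻¹ ∈ M ⊓ H.Q := by
  haveI := H.finite_Sz
  haveI : Fact (Nat.Prime 2) := ⟨Nat.prime_two⟩
  obtain ⟨S, hS⟩ := exists_sylow H hW
  obtain ⟨hxM, -, z, hz⟩ := hx
  have hp : IsPGroup 2 (Subgroup.zpowers (⟨x, hxM⟩ : M)) := by
    have h4 : orderOf (⟨x, hxM⟩ : M) ∣ 2 ^ 2 := by
      rw [Subgroup.orderOf_mk, orderOf_dvd_iff_pow_eq_one]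
      obtain ⟨a, b, hab⟩ := hz
      have := congrArg (fun y => z⁻¹ * (y ^ 4) * z) hab
      simp only [conj_pow, H.us_pow_four] at this
      simpa [mul_assoc] using this
    obtain ⟨j, -, hj⟩ := (Nat.dvd_prime_pow Nat.prime_two).1 h4
    exact IsPGroup.of_card (n := j) (by rw [Nat.card_zpowers, hj])
  obtain ⟨S', hS'⟩ := hp.exists_le_sylow
  obtain ⟨g, hg⟩ := MulAction.exists_smul_eq M S' S
  refine ⟨g.1, g.2, hS ▸ ⟨g * ⟨x, hxM⟩ * g⁻¹, ?_, rfl⟩⟩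
  rw [← hg, Sylow.coe_subgroup_smul]
  exact ⟨_, hS' (Subgroup.mem_zpowers _), rfl⟩

theorem index_odd : Odd (H.B.relIndex M) := by
  haveI := H.finite_Sz
  haveI : Fact (Nat.Prime 2) := ⟨Nat.prime_two⟩
  obtain ⟨S, hS⟩ := exists_sylow H hW
  rw [← Nat.not_even_iff_odd, even_iff_two_dvd]
  intro h
  refine S.not_dvd_index (h.trans ?_)
  have hle : (S : Subgroup M) ≤ H.B.subgroupOf M := fun y hy => H.Q_le_B ((hS ▸ (⟨y, hy, rfl⟩ :
    (y : Sz F m) ∈ (S : Subgroup M).map M.subtype) : (y : Sz F m) ∈ M ⊓ H.Q)).2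
  exact Subgroup.index_dvd_of_le hle

theorem X2_eq : X2 H M = conjSet M {y | y ∈ M ∧ y ∈ H.Q ∧ y ≠ 1} := by
  ext x
  constructor
  · intro hx
    obtain ⟨g, hg, h⟩ := exists_conj_mem_W H hW hx
    exact ⟨g⁻¹, inv_mem hg, g * x * g⁻¹, ⟨h.1, h.2, fun e => hx.2.1 (conj_eq_one_iff.1 e)⟩, by group⟩
  · rintro ⟨g, hg, y, ⟨hyM, hyQ, hy1⟩, rfl⟩
    exact ⟨mul_mem (mul_mem hg hyM) (inv_mem hg), fun e => hy1 (conj_eq_one_iff.1 e), g⁻¹,
      by convert hyQ using 1; group⟩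

theorem invSet_eq : invSet M = conjSet M {y | y ∈ M ∧ y ∈ Q0 H ∧ y ≠ 1} := by
  ext x
  constructor
  · intro hx
    obtain ⟨g, hg, h⟩ := exists_conj_mem_W H hW (two_mem H M hx)
    refine ⟨g⁻¹, inv_mem hg, g * x * g⁻¹, ⟨h.1, mem_Q0_of_sq H h.2 ?_, fun e => hx.2.1 (conj_eq_one_iff.1 e)⟩,
      by group⟩
    rw [conj_mul, hx.2.2, mul_one, mul_inv_cancel]
  · rintro ⟨g, hg, y, ⟨hyM, hyQ, hy1⟩, rfl⟩
    exact ⟨mul_mem (mul_mem hg hyM) (inv_mem hg), fun e => hy1 (conj_eq_one_iff.1 e),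
      by rw [conj_mul, Q0_sq H hyQ, mul_one, mul_inv_cancel]⟩

theorem ncard_X2 : (X2 H M).ncard = H.B.relIndex M * (Nat.card ↥(M ⊓ H.Q) - 1) := by
  haveI := H.finite_Sz
  have h := ncard_conjSet M H.B {y | y ∈ M ∧ y ∈ H.Q ∧ y ≠ 1}
    (fun n hn y hy => ⟨M.mul_mem (M.mul_mem hn.1 hy.1) (M.inv_mem hn.1), H.Q_conj_mem hn.2 hy.2.1,
      fun e => hy.2.2 (conj_eq_one_iff.1 e)⟩)
    (fun g _ y hy h => H.mem_B_of_conj_mem_Q hy.2.1 hy.2.2 h.2.1)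
  have hY : ({y | y ∈ M ∧ y ∈ H.Q ∧ y ≠ 1} : Set (Sz F m)).ncard = Nat.card ↥(M ⊓ H.Q) - 1 := by
    have : ({y | y ∈ M ∧ y ∈ H.Q ∧ y ≠ 1} : Set (Sz F m)) = (↑(M ⊓ H.Q) : Set (Sz F m)) \ {1} := by
      ext y
      simp [and_assoc]
    rw [this, Set.ncard_sdiff_singleton_of_mem (one_mem _), ← Nat.card_coe_set_eq]
    rfl
  rw [← X2_eq H hW, hY, card_M H (M := M), card_Mb] at h
  refine Nat.eq_of_mul_eq_mul_right (m := Nat.card ↥(M ⊓ H.Q) * Nat.card (Kt H M)) ?_ (by rw [h]; ring)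
  haveI := H.fin
  exact Nat.mul_pos Nat.card_pos Nat.card_pos

variable (hA : NoAbNormal M)
include hA

theorem exists_not_B : ∃ g ∈ M, g ∉ H.B := by
  by_contra hc
  push Not at hc
  have hne : M ⊓ Q0 H ≠ ⊥ := by
    obtain ⟨u, huM, huQ, hu1⟩ := exists_ne_one H hW
    intro he
    have h2 : u * u = 1 := by
      obtain ⟨a, b, rfl⟩ := huQ
      have hmem : H.us a b * H.us a b ∈ M ⊓ Q0 H := ⟨mul_mem huM huM, by rw [← sq, H.us_sq]; exact ⟨_, rfl⟩⟩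
      rwa [he, Subgroup.mem_bot] at hmem
    have hmem : u ∈ M ⊓ Q0 H := ⟨huM, mem_Q0_of_sq H huQ h2⟩
    rw [he, Subgroup.mem_bot] at hmem
    exact hu1 hmem
  refine hne (hA _ inf_le_left (fun g hg x hx => ⟨M.mul_mem (M.mul_mem hg hx.1) (M.inv_mem hg), ?_⟩)
    (fun x hx y hy => Q0_central H hx.2 (Q0_le_Q H hy.2)))
  exact mem_Q0_of_sq H (H.Q_conj_mem (hc g hg) (Q0_le_Q H hx.2)) (by rw [conj_mul, Q0_sq H hx.2, mul_one, mul_inv_cancel])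

theorem one_lt_index : 1 < H.B.relIndex M := by
  haveI := H.finite_Sz
  obtain ⟨g, hg, hgB⟩ := exists_not_B H hW hA
  have h1 : H.B.relIndex M ≠ 1 := fun h => hgB (Subgroup.relIndex_eq_one.1 h hg)
  have h2 := (index_odd H hW).pos
  omega

omit hA in
theorem exists_Q0_mem : ∃ i, i ∈ M ∧ i ∈ Q0 H ∧ i ≠ 1 := by
  obtain ⟨u, huM, huQ, hu1⟩ := exists_ne_one H hW
  by_cases h : u * u = 1
  · exact ⟨u, huM, mem_Q0_of_sq H huQ h, hu1⟩
  · obtain ⟨a, b, rfl⟩ := huQ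
    exact ⟨_, mul_mem huM huM, by rw [← sq, H.us_sq]; exact ⟨_, rfl⟩, h⟩

/-- The involutions of `M` in `Q` are conjugate in `M ∩ B`. -/
theorem fusion {i i' : Sz F m} (hi : i ∈ M ∧ i ∈ Q0 H ∧ i ≠ 1) (hi' : i' ∈ M ∧ i' ∈ Q0 H ∧ i' ≠ 1) :
    ∃ b ∈ M ⊓ H.B, b * i * b⁻¹ = i' := by
  haveI := H.finite_Sz
  obtain ⟨g, hg, hgB⟩ := exists_not_B H hW hA
  set j := g * i * g⁻¹ with hj
  have hjM : j ∈ M := M.mul_mem (M.mul_mem hg hi.1) (M.inv_mem hg)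
  have hjj : j * j = 1 := by rw [hj, conj_mul, Q0_sq H hi.2.1, mul_one, mul_inv_cancel]
  have hj1 : j ≠ 1 := fun e => hi.2.2 (conj_eq_one_iff.1 e)
  have hjQ : j ∉ H.Q := fun h => hgB (H.mem_B_of_conj_mem_Q (Q0_le_Q H hi.2.1) hi.2.2 h)
  have key : ∀ v, v ∈ M ∧ v ∈ Q0 H ∧ v ≠ 1 → ∃ h ∈ M, h * v * h⁻¹ = j := by
    rintro v ⟨hvM, hvQ, hv1⟩
    have hvv := Q0_sq H hvQ
    rcases Nat.even_or_odd (orderOf (v * j)) with he | ho
    · exfalso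
      obtain ⟨s, hs⟩ := he
      have hsp : 0 < s := by have := orderOf_pos (v * j); omega
      set z := (v * j) ^ s with hz
      have hzz : z * z = 1 := by rw [hz, ← pow_add, ← hs, pow_orderOf_eq_one]
      have hz1 : z ≠ 1 := pow_ne_one_of_lt_orderOf hsp.ne' (by omega)
      have hii : v⁻¹ = v := inv_eq_of_mul_eq_one_right hvv
      have hjj' : j⁻¹ = j := inv_eq_of_mul_eq_one_right hjj
      have hzinv : z⁻¹ = z := inv_eq_of_mul_eq_one_right hzz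
      have hvz : v * z = z * v := by
        have h1 : v * (v * j) * v⁻¹ = (v * j)⁻¹ := by
          rw [mul_inv_rev, hii, hjj', ← mul_assoc v v, hvv, one_mul]
        have h2 : v * z * v⁻¹ = z := by rw [hz, ← conj_pow, h1, inv_pow, ← hz, hzinv]
        calc v * z = v * z * v⁻¹ * v := by group
          _ = z * v := by rw [h2]
      have hzQ : z ∈ H.Q := H.centralizer_le_Q (Q0_le_Q H hvQ) hv1 (Subgroup.mem_centralizer_singleton_iff.2 hvz.symm)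
      have hjz : j * z = z * j := by
        have e : j = v * (v * j) := by rw [← mul_assoc, hvv, one_mul]
        have c1 : Commute (v * j) z := (Commute.refl (v * j)).pow_right s
        rw [e]
        exact (Commute.mul_left (show Commute v z from hvz) c1).eq
      exact hjQ (H.centralizer_le_Q hzQ hz1 (Subgroup.mem_centralizer_singleton_iff.2 hjz))
    · obtain ⟨s, hs⟩ := conj_of_odd_mul hvv hjj ho
      exact ⟨_, pow_mem (mul_mem hvM hjM) s, hs⟩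
  obtain ⟨h1, hh1, e1⟩ := key i hi
  obtain ⟨h2, hh2, e2⟩ := key i' hi'
  have e : (h2⁻¹ * h1) * i * (h2⁻¹ * h1)⁻¹ = i' := by
    calc _ = h2⁻¹ * (h1 * i * h1⁻¹) * h2 := by group
      _ = h2⁻¹ * (h2 * i' * h2⁻¹) * h2 := by rw [e1, e2]
      _ = i' := by group
  exact ⟨_, ⟨M.mul_mem (M.inv_mem hh2) hh1,
    H.mem_B_of_conj_mem_Q (Q0_le_Q H hi.2.1) hi.2.2 (e.symm ▸ Q0_le_Q H hi'.2.1)⟩, e⟩

theorem card_Q0 : Nat.card ↥(M ⊓ Q0 H) = Nat.card (Kt H M) + 1 := by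
  classical
  haveI := H.finite_Sz
  haveI := H.fin
  obtain ⟨i, hiM, ⟨b₀, rfl⟩, hi1⟩ := exists_Q0_mem H hW
  have hb₀ : b₀ ≠ 0 := fun e => hi1 (by rw [e, H.us_zero])
  have hact : ∀ u ∈ H.Q, ∀ k : Fˣ, (u * H.ds k) * H.us 0 b₀ * (u * H.ds k)⁻¹ = H.us 0 ((k : F) * th m (k : F) * b₀) := by
    rintro _ ⟨c, d, rfl⟩ k
    rw [H.B_conj_us, mul_zero, mul_zero, th_zero, zero_mul, add_zero, add_zero]
  have hmem : ∀ k : Kt H M, H.us 0 ((k.1 : F) * th m (k.1 : F) * b₀) ∈ M ⊓ Q0 H := by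
    rintro ⟨k, u, hu, hk⟩
    refine ⟨?_, _, rfl⟩
    rw [← hact u hu k]
    exact M.mul_mem (M.mul_mem hk hiM) (M.inv_mem hk)
  rw [← Finite.card_option]
  refine (Nat.card_eq_of_bijective (fun o : Option (Kt H M) =>
    o.elim (1 : ↥(M ⊓ Q0 H)) fun k => ⟨_, hmem k⟩) ⟨?_, ?_⟩).symm
  · have hne : ∀ k : Fˣ, (k : F) * th m (k : F) * b₀ ≠ 0 := fun k =>
      mul_ne_zero (mul_ne_zero k.ne_zero (pow_ne_zero _ k.ne_zero)) hb₀
    rintro (_ | k) (_ | l) h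
    · rfl
    · exact absurd (H.us_inj.1 ((congrArg Subtype.val h).symm.trans H.us_zero.symm)).2 (hne _)
    · exact absurd (H.us_inj.1 ((congrArg Subtype.val h).trans H.us_zero.symm)).2 (hne _)
    · have h' := mul_right_cancel₀ hb₀ (H.us_inj.1 (congrArg Subtype.val h)).2
      refine congrArg some (Subtype.ext ?_)
      have hl : ((k.1 * l.1⁻¹ : Fˣ) : F) * th m ((k.1 * l.1⁻¹ : Fˣ) : F) = 1 := by
        rw [Units.val_mul, th_mul, mul_mul_mul_comm, h', ← mul_mul_mul_comm, ← th_mul, ← Units.val_mul,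
          mul_inv_cancel, Units.val_one, th_one, mul_one]
      exact mul_inv_eq_one.1 (Units.ext (H.ker_norm hl))
  · rintro ⟨v, hvM, hvQ⟩
    rcases eq_or_ne v 1 with rfl | hv1
    · exact ⟨none, rfl⟩
    obtain ⟨b, hb, e⟩ := fusion H hW hA ⟨hiM, ⟨b₀, rfl⟩, hi1⟩ ⟨hvM, hvQ, hv1⟩
    obtain ⟨u, hu, k, rfl⟩ := exists_Q_ds H hb.2
    refine ⟨some ⟨k, u, hu, hb.1⟩, Subtype.ext ?_⟩
    show H.us 0 _ = v
    rw [← e, hact u hu k]

theorem ncard_invSet : (invSet M).ncard = H.B.relIndex M * Nat.card (Kt H M) := by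
  haveI := H.finite_Sz
  haveI := H.fin
  have h := ncard_conjSet M H.B {y | y ∈ M ∧ y ∈ Q0 H ∧ y ≠ 1}
    (fun n hn y hy => ⟨M.mul_mem (M.mul_mem hn.1 hy.1) (M.inv_mem hn.1),
      mem_Q0_of_sq H (H.Q_conj_mem hn.2 (Q0_le_Q H hy.2.1)) (by rw [conj_mul, Q0_sq H hy.2.1, mul_one, mul_inv_cancel]),
      fun e => hy.2.2 (conj_eq_one_iff.1 e)⟩)
    (fun g _ y hy h => H.mem_B_of_conj_mem_Q (Q0_le_Q H hy.2.1) hy.2.2 (Q0_le_Q H h.2.1))
  have hY : ({y | y ∈ M ∧ y ∈ Q0 H ∧ y ≠ 1} : Set (Sz F m)).ncard = Nat.card ↥(M ⊓ Q0 H) - 1 := by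
    have : ({y | y ∈ M ∧ y ∈ Q0 H ∧ y ≠ 1} : Set (Sz F m)) = (↑(M ⊓ Q0 H) : Set (Sz F m)) \ {1} := by
      ext y
      simp [and_assoc]
    rw [this, Set.ncard_sdiff_singleton_of_mem (one_mem _), ← Nat.card_coe_set_eq]
    rfl
  rw [← invSet_eq H hW, hY, card_Q0 H hW hA, Nat.add_sub_cancel, card_M H (M := M), card_Mb] at h
  refine Nat.eq_of_mul_eq_mul_right (m := Nat.card ↥(M ⊓ H.Q) * Nat.card (Kt H M)) ?_ (by rw [h]; ring)
  exact Nat.mul_pos Nat.card_pos Nat.card_pos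

omit hW hA in
theorem card_W_le : Nat.card ↥(M ⊓ H.Q) ≤ Nat.card ↥(M ⊓ Q0 H) * Nat.card ↥(M ⊓ Q0 H) := by
  classical
  haveI := H.finite_Sz
  have hsq : ∀ v : ↥(M ⊓ H.Q), v.1 * v.1 ∈ M ⊓ Q0 H := by
    rintro ⟨_, hM, a, b, rfl⟩
    exact ⟨mul_mem hM hM, by rw [← sq, H.us_sq]; exact ⟨_, rfl⟩⟩
  let f : ↥(M ⊓ H.Q) → ↥(M ⊓ Q0 H) := fun v => ⟨_, hsq v⟩
  rw [← Nat.card_congr (Equiv.sigmaFiberEquiv f)]
  haveI := Fintype.ofFinite ↥(M ⊓ Q0 H)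
  rw [Nat.card_sigma]
  calc ∑ z, Nat.card {v // f v = z} ≤ ∑ _z : ↥(M ⊓ Q0 H), Nat.card ↥(M ⊓ Q0 H) := ?_
    _ = _ := by rw [Finset.sum_const, Finset.card_univ, smul_eq_mul, ← Nat.card_eq_fintype_card]
  refine Finset.sum_le_sum fun z _ => ?_
  rcases isEmpty_or_nonempty {v // f v = z} with h | ⟨⟨v₀, h₀⟩⟩
  · simp
  have key : ∀ v : {v // f v = z}, v.1.1 * v₀.1⁻¹ ∈ M ⊓ Q0 H := by
    rintro ⟨⟨v, hvM, a, b, rfl⟩, hv⟩
    obtain ⟨⟨v', hv'M, c, d, rfl⟩, rfl⟩ : ∃ w, w = v₀ := ⟨_, rfl⟩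
    have e : H.us a b * H.us a b = H.us c d * H.us c d := congrArg Subtype.val (hv.trans h₀.symm)
    rw [← sq, ← sq, H.us_sq, H.us_sq, H.us_inj] at e
    have hac : a = c := by
      rcases eq_or_ne c 0 with rfl | hc
      · rw [mul_zero] at e
        rcases mul_eq_zero.1 e.2 with h | h
        · exact eq_zero_of_pow_eq_zero h
        · exact h
      · have h1 : a / c * th m (a / c) = 1 := by
          rw [th, div_pow, div_mul_div_comm, ← th, ← th, mul_comm a, e.2, mul_comm c, div_self]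
          exact mul_ne_zero (pow_ne_zero _ hc) hc
        exact eq_of_div_eq_one (H.ker_norm h1)
    refine ⟨M.mul_mem hvM (M.inv_mem hv'M), ?_⟩
    subst hac
    rw [H.us_inv, H.us_mul, H.add_self]
    exact ⟨_, rfl⟩
  exact Nat.card_le_card_of_injective (fun v => (⟨_, key v⟩ : ↥(M ⊓ Q0 H)))
    fun v w e => Subtype.ext (Subtype.ext (mul_right_cancel (congrArg Subtype.val e)))

omit hA in
theorem inverters_Q {x : Sz F m} (hxM : x ∈ M) (hxQ : x ∈ H.Q) (hx1 : x ≠ 1) :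
    (x * x = 1 → (inverters M x).ncard = Nat.card ↥(M ⊓ Q0 H) - 2) ∧ (x * x ≠ 1 → (inverters M x).ncard = 0) := by
  haveI := H.finite_Sz
  have hin : ∀ i ∈ inverters M x, i ∈ M ⊓ Q0 H := by
    rintro i ⟨⟨hiM, -, hii⟩, hinv, -⟩
    refine ⟨hiM, involution_mem_Q0 H (H.mem_B_of_conj_mem_Q hxQ hx1 ?_) hii⟩
    rw [inv_eq_of_mul_eq_one_right hii, hinv]
    exact inv_mem hxQ
  refine ⟨fun h => ?_, fun h => ?_⟩
  · have hset : inverters M x = (↑(M ⊓ Q0 H) : Set (Sz F m)) \ {1, x} := by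
      ext i
      constructor
      · intro hi
        exact ⟨hin i hi, by rintro (e | e); exacts [hi.1.2.1 e, hi.2.2 e]⟩
      · rintro ⟨⟨hiM, hiQ⟩, hne⟩
        simp only [Set.mem_insert_iff, Set.mem_singleton_iff, not_or] at hne
        refine ⟨⟨hiM, hne.1, Q0_sq H hiQ⟩, ?_, hne.2⟩
        rw [inv_eq_of_mul_eq_one_right h, Q0_central H hiQ hxQ, mul_assoc, Q0_sq H hiQ, mul_one]
    rw [hset, Set.ncard_sdiff (by
      rintro y (rfl | rfl)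
      exacts [one_mem _, ⟨hxM, mem_Q0_of_sq H hxQ h⟩]), Set.ncard_pair hx1.symm, ← Nat.card_coe_set_eq]
    rfl
  · rw [Set.ncard_eq_zero, Set.eq_empty_iff_forall_notMem]
    rintro i hi
    obtain ⟨hiM, hiQ⟩ := hin i hi
    have := hi.2.1
    rw [Q0_central H hiQ hxQ, mul_assoc, Q0_sq H hiQ, mul_one] at this
    exact h (mul_eq_one_iff_eq_inv.2 this)

theorem eq2 [Fintype (Sz F m)] : (invSet M).ncard * ((invSet M).ncard - 1) =
    (invSet M).ncard * (Nat.card ↥(M ⊓ Q0 H) - 2) +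
      ∑ x ∈ (Set.toFinite (Xt H M)).toFinset, (inverters M x).ncard := by
  classical
  have hs : (Set.toFinite {x : Sz F m | x ∈ M ∧ x ≠ 1}).toFinset =
      (Set.toFinite (X2 H M)).toFinset ∪ (Set.toFinite (Xt H M)).toFinset := by
    ext x
    simp only [Finset.mem_union, Set.Finite.mem_toFinset]
    refine ⟨fun h => ?_, fun h => h.elim (fun h => ⟨h.1, h.2.1⟩) fun h => ⟨h.1, h.2.1⟩⟩
    by_cases hq : ∃ z, z * x * z⁻¹ ∈ H.Q
    · exact Or.inl ⟨h.1, h.2, hq⟩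
    · exact Or.inr ⟨h.1, h.2, hq⟩
  have hd : Disjoint (Set.toFinite (X2 H M)).toFinset (Set.toFinite (Xt H M)).toFinset := by
    rw [Set.Finite.disjoint_toFinset]
    exact Set.disjoint_left.2 fun x h h' => h'.2.2 h.2.2
  rw [pairs_eq, hs, Finset.sum_union hd]
  congr 1
  have hsub : (Set.toFinite (invSet M)).toFinset ⊆ (Set.toFinite (X2 H M)).toFinset := fun x hx => by
    rw [Set.Finite.mem_toFinset] at hx ⊢
    exact two_mem H M hx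
  have hval : ∀ x ∈ X2 H M, (x * x = 1 → (inverters M x).ncard = Nat.card ↥(M ⊓ Q0 H) - 2) ∧
      (x * x ≠ 1 → (inverters M x).ncard = 0) := by
    intro x hx
    obtain ⟨g, hg, h⟩ := exists_conj_mem_W H hW hx
    rw [← inverters_conj M hg x]
    have hkey := inverters_Q H hW h.1 h.2 (fun e => hx.2.1 (conj_eq_one_iff.1 e))
    refine ⟨fun e => hkey.1 ?_, fun e => hkey.2 fun e' => e ?_⟩
    · rw [conj_mul, e, mul_one, mul_inv_cancel]
    · rw [conj_mul] at e'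
      exact conj_eq_one_iff.1 e'
  rw [← Finset.sum_subset hsub, Finset.sum_congr rfl (g := fun _ => Nat.card ↥(M ⊓ Q0 H) - 2), Finset.sum_const,
    smul_eq_mul, ← Set.ncard_eq_toFinset_card]
  · intro x hx
    rw [Set.Finite.mem_toFinset] at hx
    exact (hval x (two_mem H M hx)).1 hx.2.2
  · intro x hx hx'
    rw [Set.Finite.mem_toFinset] at hx hx'
    exact (hval x hx).2 fun e => hx' ⟨hx.1, hx.2.1, e⟩

end Cfsg.Agent.H8.SzSub
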